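import Cfsg.Agent.Lib.Helper23.Uniq5
import Cfsg.Agent.S1337

set_option autoImplicit false

/-! BG 9.3, 9.4. -/

namespace Cfsg.Agent.Lib.Helper23U

open Subgroup Cfsg Cfsg.Agent.Lib Cfsg.Agent.Lib.Helper47

universe u

variable {G : Type u} [Group G]

theorem not_isCyclic_of_elemAb [Finite G] {p : ℕ} [hp : Fact p.Prime] {B : Subgroup G}
    (hBe : ∀ b ∈ B, b ^ p = 1) (hcard : p < Nat.card B) : ¬ IsCyclic B := by
  intro hc
  obtain ⟨e, he⟩ := hc.exists_generator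
  have h1 : Nat.card B = orderOf e := (orderOf_eq_card_of_forall_mem_zpowers he).symm
  have h2 : orderOf e ∣ p := orderOf_dvd_of_pow_eq_one (Subtype.ext (hBe e e.2))
  have h3 : orderOf e ≤ p := Nat.le_of_dvd hp.out.pos h2
  omega

/-- BG 9.3 -/
theorem uniq_of_centralizes [Finite G] (hG : IsMinSimpleOddOrder G) {L K : Subgroup G}
    (hL : InUniqueMaximal L) (hK : K ≤ centralizer (L : Set G)) (hKr : ¬ RankLE 1 K) :
    InUniqueMaximal K := by
  have hsimple : IsSimpleGroup G := hG.2.1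
  obtain ⟨M, ⟨hM, hLM⟩, huniq⟩ := hL
  obtain ⟨r, hr, B, hBK, hBc, hBe, hBcard⟩ := Helper23.exists_elemAb_of_not_rankLE hKr
  have : Fact r.Prime := ⟨hr⟩
  rw [pow_one] at hBcard
  have hcen : ∀ x ∈ K, x ≠ 1 → centralizer ({x} : Set G) ≤ M := by
    intro x hx hx1
    obtain ⟨D, hD, hxD⟩ := exists_coatom_ge (Helper23.centralizer_singleton_ne_top_of_simple hG.2.2.1 hx1)
    have hLD : L ≤ D := by
      refine le_trans ?_ hxD
      intro l hl
      rw [mem_centralizer_singleton_iff]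
      exact ((mem_centralizer_iff.mp (hK hx)) l hl)
    rw [← huniq D ⟨hD, hLD⟩]
    exact hxD
  have hKM : K ≤ M := by
    intro x hx
    by_cases hx1 : x = 1
    · rw [hx1]; exact one_mem _
    · exact hcen x hx hx1 (by rw [mem_centralizer_singleton_iff])
  have hS := uSetup_of_centralizers hG hM (hBK.trans hKM)
    (⟨⟨⟨fun x y => Subtype.ext (hBc x x.2 y y.2)⟩⟩, hBe⟩ : IsElementaryAbelian r B)
    (not_isCyclic_of_elemAb hBe hBcard) (fun b hb hb1 => hcen b (hBK hb) hb1)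
  exact ⟨M, ⟨hM, hKM⟩, fun D hD => hS.unique hD.1 (hBK.trans hD.2)⟩

theorem not_rankLE_one_of {p : ℕ} (hp : p.Prime) {K B : Subgroup G} (hBK : B ≤ K)
    (hB : IsElementaryAbelian p B) (hcard : p ^ 2 ≤ Nat.card B) : ¬ RankLE 1 K := by
  intro h
  have h1 := h p hp (B.subgroupOf K)
    (by
      refine ⟨⟨fun x y => ?_⟩⟩
      apply Subtype.ext
      apply Subtype.ext
      have := hB.1.is_comm.comm ⟨x.1.1, x.2⟩ ⟨y.1.1, y.2⟩
      have h2 : x.1.1 * y.1.1 = y.1.1 * x.1.1 := congrArg Subtype.val this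
      exact h2)
    (by
      intro a ha
      exact Subtype.ext (hB.2 a ha))
  rw [Nat.card_congr (subgroupOfEquivOfLe hBK).toEquiv, pow_one] at h1
  have h2 : p < p ^ 2 := by nlinarith [hp.one_lt]
  omega

theorem inUniqueMaximal_cj {X : Subgroup G} (g : G) (h : InUniqueMaximal X) :
    InUniqueMaximal (cj g X) := by
  obtain ⟨M, ⟨hM, hXM⟩, hu⟩ := h
  have hco : ∀ (D : Subgroup G) (x : G), IsCoatom D → IsCoatom (cj x D) := fun D x hD =>
    (OrderIso.isCoatom_iff ((MulAut.conj x).mapSubgroup) _).2 hD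
  refine ⟨cj g M, ⟨hco M g hM, cj_mono hXM⟩, ?_⟩
  rintro D ⟨hD, hXD⟩
  have h1 := hu (cj g⁻¹ D) ⟨hco D g⁻¹ hD, le_cj_iff.mpr (by rwa [inv_inv])⟩
  rw [← h1, cj_cj_inv]

theorem exists_elemAb_of_not_pRankLE {p k : ℕ} {Z : Subgroup G} (h : ¬ PRankLE p k Z) :
    ∃ B : Subgroup G, B ≤ Z ∧ IsElementaryAbelian p B ∧ p ^ k < Nat.card B := by
  unfold PRankLE at h
  push Not at h
  obtain ⟨E, hE, hexp, hcard⟩ := h
  refine ⟨E.map Z.subtype, map_subtype_le _, ⟨⟨⟨?_⟩⟩, ?_⟩, ?_⟩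
  · rintro ⟨_, x, hx, rfl⟩ ⟨_, y, hy, rfl⟩
    have := hE.is_comm.comm ⟨x, hx⟩ ⟨y, hy⟩
    have h2 : x * y = y * x := congrArg Subtype.val this
    apply Subtype.ext
    show Z.subtype x * Z.subtype y = Z.subtype y * Z.subtype x
    rw [← map_mul, ← map_mul, h2]
  · rintro _ ⟨x, hx, rfl⟩
    rw [← map_pow, hexp x hx, map_one]
  · rwa [card_map_of_injective Z.subtype_injective]

/-- a normal elementary abelian subgroup of order `p²` of a noncyclic `p`-group `P ≤ G`, with the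
property that every elementary abelian subgroup of order `> p²` of `P` has a subgroup of order `≥ p²`
centralizing it. -/
theorem exists_normal_sq [Finite G] {p : ℕ} [hp : Fact p.Prime] (hp2 : p ≠ 2) {P : Subgroup G}
    (hP : IsPGroup p P) (hnc : ¬ IsCyclic P) :
    ∃ E : Subgroup G, E ≤ P ∧ IsElementaryAbelian p E ∧ Nat.card E = p ^ 2 ∧
      ∀ D : Subgroup G, D ≤ P → IsElementaryAbelian p D → p ^ 2 < Nat.card D →
        ∃ D₁ : Subgroup G, D₁ ≤ D ∧ D₁ ≤ centralizer (E : Set G) ∧ IsElementaryAbelian p D₁ ∧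
          p ^ 2 ≤ Nat.card D₁ := by
  obtain ⟨E₂, hE₂n, hE₂e, hE₂c⟩ := Cfsg.Agent.S0126.result (R := P) hp2 hP hnc
  have hidx := Cfsg.Agent.S1337.index_centralizer_dvd p hP E₂ hE₂c hE₂e.2
  refine ⟨E₂.map P.subtype, map_subtype_le _, ⟨⟨⟨?_⟩⟩, ?_⟩, ?_, ?_⟩
  · rintro ⟨_, x, hx, rfl⟩ ⟨_, y, hy, rfl⟩
    have := hE₂e.1.is_comm.comm ⟨x, hx⟩ ⟨y, hy⟩
    have h2 : x * y = y * x := congrArg Subtype.val this
    apply Subtype.ext
    show P.subtype x * P.subtype y = P.subtype y * P.subtype x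
    rw [← map_mul, ← map_mul, h2]
  · rintro _ ⟨x, hx, rfl⟩
    rw [← map_pow, hE₂e.2 x hx, map_one]
  · rw [card_map_of_injective P.subtype_injective, hE₂c]
  · intro D hDP hDe hDcard
    have hcard' : p ^ 2 < Nat.card (D.subgroupOf P) := by
      rwa [Nat.card_congr (subgroupOfEquivOfLe hDP).toEquiv]
    have h1 := Cfsg.Agent.S1337.card_inf_ge p hP (centralizer (E₂ : Set P)) hidx (D.subgroupOf P) hcard'
    have hle : (D.subgroupOf P ⊓ centralizer (E₂ : Set P)).map P.subtype ≤ D := by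
      rintro _ ⟨x, hx, rfl⟩
      exact (mem_inf.mp hx).1
    refine ⟨(D.subgroupOf P ⊓ centralizer (E₂ : Set P)).map P.subtype, hle, ?_, ⟨⟨⟨?_⟩⟩, ?_⟩, ?_⟩
    · rintro _ ⟨x, hx, rfl⟩
      rw [mem_centralizer_iff]
      rintro _ ⟨e, he, rfl⟩
      exact congrArg Subtype.val ((mem_centralizer_iff.mp (mem_inf.mp hx).2) e he)
    · intro x y
      apply Subtype.ext
      have h2 : x.1 * y.1 = y.1 * x.1 :=
        congrArg Subtype.val (hDe.1.is_comm.comm ⟨x.1, hle x.2⟩ ⟨y.1, hle y.2⟩)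
      exact h2
    · intro x hx
      exact hDe.2 x (hle hx)
    · rwa [card_map_of_injective P.subtype_injective]

/-- BG 9.4 -/
theorem uniq_of_rank_three [Finite G] (hG : IsMinSimpleOddOrder G) {p : ℕ} [hp : Fact p.Prime]
    {A B : Subgroup G} (hAp : IsPGroup p A) (hAc : IsMulCommutative A) (hA3 : ¬ PRankLE p 2 A)
    (hAU : InUniqueMaximal A) (hBp : IsPGroup p B) (hBnc : ¬ IsCyclic B)
    (hB3 : ¬ PRankLE p 2 (centralizer (B : Set G))) : InUniqueMaximal B := by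
  obtain ⟨A₀, hA₀A, hA₀e, hA₀c⟩ := exists_elemAb_of_not_pRankLE hA3
  obtain ⟨D₀, hD₀B, hD₀e, hD₀c⟩ := exists_elemAb_of_not_pRankLE hB3
  have hlt : p < p ^ 2 := by nlinarith [hp.out.one_lt]
  have hp2 : p ≠ 2 := by
    intro h2
    have hne : A ≠ ⊥ := by
      intro h0
      rw [h0, le_bot_iff] at hA₀A
      rw [hA₀A, card_bot] at hA₀c
      have := hp.out.pos
      have h3 : 1 ≤ p ^ 2 := Nat.one_le_pow _ _ this
      omega
    have h1 : p ∣ Nat.card G := (USetup.dvd_card_of_ne_bot hAp hne).trans (card_subgroup_dvd_card A)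
    rw [h2] at h1
    exact (Nat.not_even_iff_odd.mpr hG.1) (even_iff_two_dvd.mpr h1)
  obtain ⟨P, hAP⟩ := hAp.exists_le_sylow
  have hPnc : ¬ IsCyclic (P : Subgroup G) := by
    intro hc
    have : IsCyclic (A₀.subgroupOf (P : Subgroup G)) := inferInstance
    have h2 : IsCyclic A₀ :=
      isCyclic_of_surjective (subgroupOfEquivOfLe (hA₀A.trans hAP)).toMonoidHom
        (subgroupOfEquivOfLe (hA₀A.trans hAP)).surjective
    exact not_isCyclic_of_elemAb hA₀e.2 (hlt.trans hA₀c) h2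
  obtain ⟨E, hEP, hEe, hEc, hE⟩ := exists_normal_sq hp2 P.2 hPnc
  -- `E` is a uniqueness subgroup
  obtain ⟨A₁, hA₁A₀, hA₁E, hA₁e, hA₁c⟩ := hE A₀ (hA₀A.trans hAP) hA₀e hA₀c
  have hAcen : A ≤ centralizer (A : Set G) := le_centralizer_iff_isMulCommutative.mpr hAc
  have hA₁U : InUniqueMaximal A₁ :=
    uniq_of_centralizes hG hAU ((hA₁A₀.trans hA₀A).trans hAcen)
      (not_rankLE_one_of hp.out le_rfl hA₁e hA₁c)
  have hEU : InUniqueMaximal E :=
    uniq_of_centralizes hG hA₁U (le_centralizer_iff.mp hA₁E)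
      (not_rankLE_one_of hp.out le_rfl hEe hEc.ge)
  -- move `B D₀` into `P`
  have hD₀p : IsPGroup p D₀ := isPGroup_of_elemAb hD₀e.2
  have hBD : IsPGroup p (D₀ ⊔ B : Subgroup G) :=
    hD₀p.to_sup_of_normal_right' hBp (hD₀B.trans (centralizer_le_normalizer _))
  obtain ⟨g, -, hg⟩ := (isSylowIn_top P).exists_conj_ge hBD le_top
  have hg' : cj g⁻¹ (D₀ ⊔ B) ≤ P := le_cj_iff.mp hg
  have hDg : cj g⁻¹ D₀ ≤ P := (cj_mono le_sup_left).trans hg'
  have hDge : IsElementaryAbelian p (cj g⁻¹ D₀) := by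
    refine ⟨⟨⟨?_⟩⟩, ?_⟩
    · rintro ⟨_, x, hx, rfl⟩ ⟨_, y, hy, rfl⟩
      have h2 : x * y = y * x := congrArg Subtype.val (hD₀e.1.is_comm.comm ⟨x, hx⟩ ⟨y, hy⟩)
      apply Subtype.ext
      show (MulAut.conj g⁻¹) x * (MulAut.conj g⁻¹) y = (MulAut.conj g⁻¹) y * (MulAut.conj g⁻¹) x
      rw [← map_mul, ← map_mul, h2]
    · rintro _ ⟨x, hx, rfl⟩
      show ((MulAut.conj g⁻¹) x) ^ p = 1
      rw [← map_pow, hD₀e.2 x hx, map_one]
  obtain ⟨D₁, hD₁D, hD₁E, hD₁e, hD₁c⟩ := hE (cj g⁻¹ D₀) hDg hDge (by rwa [card_cj])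
  have hD₁U : InUniqueMaximal D₁ :=
    uniq_of_centralizes hG hEU hD₁E (not_rankLE_one_of hp.out le_rfl hD₁e hD₁c)
  -- `B` has rank at least two
  obtain ⟨B₂, -, hB₂e, hB₂c⟩ := Cfsg.Agent.S0126.result (R := B) hp2 hBp hBnc
  have hBr : ¬ RankLE 1 B := by
    intro h
    have := h p hp.out B₂ hB₂e.1 hB₂e.2
    rw [hB₂c, pow_one] at this
    omega
  have hBgr : ¬ RankLE 1 (cj g⁻¹ B) := by
    intro h
    apply hBr
    intro q hq
    exact (Helper23.pRankLE_congr q 1 (B.equivMapOfInjective _ (MulAut.conj g⁻¹).injective)).mpr (h q hq)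
  have hBgU : InUniqueMaximal (cj g⁻¹ B) := by
    refine uniq_of_centralizes hG hD₁U ?_ hBgr
    rw [le_centralizer_iff]
    refine hD₁D.trans ?_
    rw [← cj_centralizer]
    exact cj_mono hD₀B
  have := inUniqueMaximal_cj g hBgU
  rwa [cj_cj_inv] at this

end Cfsg.Agent.Lib.Helper23U
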