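import Cfsg.Agent.Lib.Helper23.Scn1
import Cfsg.Agent.Lib.Helper10.BG95c
import Cfsg.Agent.Lib.Helper24.BGBase
import Cfsg.Agent.S1401
import Cfsg.Agent.S1451

set_option autoImplicit false

/-! Two auxiliary lemmas for BG 9.5, step 3. -/

namespace Cfsg.Agent.Lib.Helper23U

open Subgroup Cfsg Cfsg.Agent.Lib Cfsg.Agent.Lib.Helper47
open scoped commutatorElement

universe u

variable {G : Type u} [Group G]

/-- If an abelian `p`-subgroup `A` of rank at least 3 which is not a uniqueness subgroup lies in `H'`,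
`H` maximal, then `F(H)` has `s`-rank at least 3 for some prime `s ≠ p`. -/
theorem exists_prime_of_le_commutator [Finite G] (hG : IsMinSimpleOddOrder G) {p : ℕ}
    [Fact p.Prime] {A H : Subgroup G} (hH : IsCoatom H) (hAp : IsPGroup p A)
    (hAc : IsMulCommutative A) (hA3 : ¬ PRankLE p 2 A) (hU : ¬ InUniqueMaximal A)
    (hAH : A ≤ ⁅H, H⁆) : ∃ s : ℕ, s.Prime ∧ s ≠ p ∧ ¬ PRankLE s 2 (fittingOf H) := by
  by_contra hcon
  push Not at hcon
  have hpF : PRankLE p 2 (fittingOf H) := by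
    by_contra h
    exact hU (Cfsg.Agent.S1401.result hG H hH p h A hAp hAc hA3)
  have hr : RankLE 2 (fittingSubgroup H) := by
    intro s hs
    have h1 : PRankLE s 2 (fittingOf H) := by
      by_cases h : s = p
      · subst h; exact hpF
      · exact hcon s hs h
    exact (Helper23.pRankLE_congr s 2
      ((fittingSubgroup H).equivMapOfInjective H.subtype H.subtype_injective)).mpr h1
  have : Group.IsSolvable H := Helper24.MS_solvable hG hH.1
  have hnil := (Cfsg.Agent.S1451.result (Helper24.MS_odd hG H) (Or.inr hr)).1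
  have hle : commutator H ≤ fittingSubgroup H := le_sSup ⟨inferInstance, hnil⟩
  have hAF : A ≤ fittingOf H := by
    refine hAH.trans ?_
    have h2 : (⁅H, H⁆ : Subgroup G) = (commutator H).map H.subtype := by
      rw [map_subtype_commutator]
    rw [h2]
    exact map_mono hle
  exact hA3 (Helper24.pRankLE_mono hAF hpF)

/-- An elementary abelian group `E` of order `p ^ 3` acting on a noncyclic elementary abelian
`s`-group `Z`, `s ≠ p`: some nonidentity element of `E` has a noncyclic centralizer in `Z`. -/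
theorem exists_noncyclic_centralizer [Finite G] {p s : ℕ} [hp : Fact p.Prime] [hs : Fact s.Prime]
    (hsp : s ≠ p) {E Z : Subgroup G} (hEc : ∀ x ∈ E, ∀ y ∈ E, x * y = y * x)
    (hEp : ∀ x ∈ E, x ^ p = 1) (hE3 : Nat.card E = p ^ 3)
    (hZc : ∀ x ∈ Z, ∀ y ∈ Z, x * y = y * x) (hZs : ∀ z ∈ Z, z ^ s = 1)
    (hEZ : E ≤ normalizer (Z : Set G)) (hZ : ¬ IsCyclic Z) :
    ∃ b ∈ E, b ≠ 1 ∧ ¬ IsCyclic ↥(Z ⊓ centralizer ({b} : Set G)) := by
  have hZp : IsPGroup s Z := by
    rintro ⟨x, hx⟩
    exact ⟨1, Subtype.ext (by simpa using hZs x hx)⟩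
  have hpZ : ¬ p ∣ Nat.card Z := by
    intro h
    obtain ⟨k, hk⟩ := IsPGroup.iff_card.mp hZp
    rw [hk] at h
    exact hsp ((Nat.prime_dvd_prime_iff_eq hp.out hs.out).mp (hp.out.dvd_of_dvd_pow h)).symm
  have hpE : p ≤ Nat.card E := by
    rw [hE3]; nlinarith [hp.out.two_le, pow_pos hp.out.pos 2, pow_succ p 2]
  have hgen := Helper22.le_iSup_centralizer_hyperplane E Z hEc hEp hpE hpZ hEZ
  have hZ1 : Z ≠ ⊥ := by
    intro h
    apply hZ
    rw [h]
    infer_instance
  -- a hyperplane with nontrivial centralizer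
  obtain ⟨B, hBE, hBi, hB1⟩ : ∃ B : Subgroup G, B ≤ E ∧ B.relIndex E = p ∧
      Z ⊓ centralizer (B : Set G) ≠ ⊥ := by
    by_contra hcon
    push Not at hcon
    apply hZ1
    rw [eq_bot_iff]
    refine hgen.trans (iSup_le ?_)
    rintro ⟨B, hB1, hB2⟩
    exact (hcon B hB1 hB2).le
  -- a cyclic subgroup of `Z` containing a nontrivial subgroup `X` equals `X`
  have hcyc : ∀ X Y : Subgroup G, X ≤ Y → Y ≤ Z → X ≠ ⊥ → IsCyclic Y → Y ≤ X := by
    intro X Y hXY hYZ hX1 hY
    by_contra hle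
    have hlt : X < Y := lt_of_le_of_ne hXY (fun h => hle h.ge)
    have h1 : Nat.card X < Nat.card Y := by
      have := Set.ncard_lt_ncard (s := (X : Set G)) (t := (Y : Set G))
        (by exact_mod_cast hlt) (Set.toFinite _)
      rw [← Nat.card_coe_set_eq, ← Nat.card_coe_set_eq] at this
      exact this
    have h2 : s ≤ Nat.card X := by
      obtain ⟨k, hk⟩ := IsPGroup.iff_card.mp (hZp.to_le (hXY.trans hYZ))
      rcases Nat.eq_zero_or_pos k with rfl | hk0
      · exact absurd (card_eq_one.mp (by simpa using hk)) hX1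
      · rw [hk]
        calc s = s ^ 1 := (pow_one s).symm
          _ ≤ s ^ k := Nat.pow_le_pow_right hs.out.pos hk0
    exact not_isCyclic_of_elemAb (fun b hb => hZs b (hYZ hb)) (lt_of_le_of_lt h2 h1) hY
  by_cases hBZ : Z ≤ centralizer (B : Set G)
  · -- any nonidentity element of `B` works
    obtain ⟨b, hb, hb1⟩ := Helper10.BG95.exists_ne_one_mem_inf hE3 hBE hBi hBi
    refine ⟨b, hBE hb.1, hb1, ?_⟩
    have h1 : Z ⊓ centralizer ({b} : Set G) = Z := by
      refine inf_eq_left.mpr (hBZ.trans (centralizer_le ?_))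
      simpa using hb.1
    rw [h1]
    exact hZ
  · obtain ⟨B', hB'E, hB'i, hB'⟩ : ∃ B' : Subgroup G, B' ≤ E ∧ B'.relIndex E = p ∧
        ¬ Z ⊓ centralizer (B' : Set G) ≤ Z ⊓ centralizer (B : Set G) := by
      by_contra hcon
      push Not at hcon
      apply hBZ
      refine le_trans ?_ (inf_le_right : Z ⊓ centralizer (B : Set G) ≤ _)
      refine hgen.trans (iSup_le ?_)
      rintro ⟨B', h1, h2⟩
      exact hcon B' h1 h2
    obtain ⟨b, hb, hb1⟩ := Helper10.BG95.exists_ne_one_mem_inf hE3 hBE hBi hB'i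
    refine ⟨b, hBE hb.1, hb1, fun hc => hB' ?_⟩
    have h1 : Z ⊓ centralizer (B : Set G) ≤ Z ⊓ centralizer ({b} : Set G) :=
      inf_le_inf_left _ (centralizer_le (by simpa using hb.1))
    have h2 : Z ⊓ centralizer (B' : Set G) ≤ Z ⊓ centralizer ({b} : Set G) :=
      inf_le_inf_left _ (centralizer_le (by simpa using hb.2))
    exact h2.trans (hcyc _ _ h1 inf_le_left hB1 hc)

end Cfsg.Agent.Lib.Helper23U
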