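/-
Helper library (helper23): Bender–Glauberman 4.x: a `p`-group `R` of rank at most two with `R = [R, A]`,
`A` of odd order prime to `p`, modulo the metacyclic case.
-/
import Cfsg.Agent.Lib.Helper23.R2e
import Cfsg.Agent.Lib.Helper50.OmegaRank
import Cfsg.Agent.S0639
import Cfsg.Agent.S0640

set_option autoImplicit false
set_option linter.unusedSectionVars false

namespace Cfsg.Agent.Lib.Helper23R

open Subgroup Cfsg.Agent.Lib.Helper24 Cfsg.Agent.Lib.Helper29 Cfsg.Agent.Lib.Helper50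
open scoped commutatorElement

variable {G : Type*} [Group G] [Finite G]

theorem three_lt (p : ℕ) [Fact p.Prime] (hp : p ≠ 2) (R A : Subgroup G) (hR : IsPGroup p R)
    (hR1 : R ≠ ⊥) (hr : Cfsg.PRankLE p 2 R) (hA : A ≤ normalizer (R : Set G))
    (hcop : (Nat.card A).Coprime p) (hAodd : Odd (Nat.card A)) (hRA : ⁅R, A⁆ = R) : 3 < p := by
  have hpp : p.Prime := Fact.out
  have hnc : ¬ A ≤ centralizer (R : Set G) := by
    intro hc
    apply hR1
    rw [← hRA, commutator_comm, commutator_eq_bot_iff_le_centralizer]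
    exact hc
  obtain ⟨a, ha, haC⟩ := SetLike.not_le_iff_exists.1 hnc
  have : Finite (MulAut R) := Finite.of_injective (fun e : MulAut R => (e : R → R)) DFunLike.coe_injective
  set α := R.normalizerMonoidHom ⟨a, hA ha⟩ with hα
  have hα1 : α ≠ 1 := by
    intro h1
    have h2 : (⟨a, hA ha⟩ : normalizer (R : Set G)) ∈ R.normalizerMonoidHom.ker := h1
    rw [normalizerMonoidHom_ker, mem_subgroupOf] at h2
    exact haC h2
  have hord : orderOf α ≠ 1 := fun h => hα1 (orderOf_eq_one_iff.1 h)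
  obtain ⟨q, hq, hqd⟩ := Nat.exists_prime_and_dvd hord
  have h1 : orderOf α ∣ orderOf a := by
    have h2 := orderOf_map_dvd R.normalizerMonoidHom (⟨a, hA ha⟩ : normalizer (R : Set G))
    rwa [Subgroup.orderOf_mk] at h2
  have hqA : q ∣ Nat.card A := (hqd.trans h1).trans (Subgroup.orderOf_dvd_natCard A ha)
  have hq2 : q ≠ 2 := by
    rintro rfl
    exact (Nat.not_even_iff_odd.2 hAodd) (even_iff_two_dvd.2 hqA)
  have hqp : q ≠ p := by
    rintro rfl
    have := Nat.dvd_gcd hqA (dvd_refl q)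
    rw [hcop] at this
    exact hq.one_lt.ne' (Nat.dvd_one.1 this)
  have h3 := (Cfsg.Agent.S0640.result hp hR hr q hq hqp (hqd.trans (orderOf_dvd_natCard α))).2
  have := hq.two_le
  omega

theorem rank2_main (p : ℕ) [Fact p.Prime] (hp : p ≠ 2) (R A : Subgroup G) (hR : IsPGroup p R)
    (hR1 : R ≠ ⊥) (hr : Cfsg.PRankLE p 2 R) (hA : A ≤ normalizer (R : Set G))
    (hcop : (Nat.card A).Coprime p) (hAodd : Odd (Nat.card A)) (hRA : ⁅R, A⁆ = R)
    (hmeta : Cfsg.IsMetacyclic R → IsMulCommutative R) :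
    3 < p ∧ (IsMulCommutative R ∨ ∃ R₁ R₂ : Subgroup G, R₁ ⊔ R₂ = R ∧ (∀ a ∈ R₁, ∀ b ∈ R₂, a * b = b * a) ∧
        ¬ IsMulCommutative R₁ ∧ Nat.card R₁ = p ^ 3 ∧ Monoid.exponent R₁ = p ∧ IsCyclic R₂ ∧
        Subgroup.closure {x : G | x ∈ R₂ ∧ x ^ p = 1} = ⁅R₁, R₁⁆) := by
  have hpp : p.Prime := Fact.out
  have hp3 := three_lt p hp R A hR hR1 hr hA hcop hAodd hRA
  refine ⟨hp3, ?_⟩
  have hΩeq : Om p (⊤ : Subgroup R) = closure {x : R | x ^ p = 1} := by
    unfold Om; congr 1; ext x; simp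
  have hcard : Nat.card (Om p R) = Nat.card (Om p (⊤ : Subgroup R)) := by
    rw [Om_eq_map, hΩeq, card_map_of_injective (subtype_injective R)]
  have hle3 : Nat.card (Om p (⊤ : Subgroup R)) ≤ p ^ 3 := Om_card_le hp3 hr (hR.to_subgroup ⊤)
  have hpow : ∀ x ∈ Om p R, x ^ p = 1 := by
    intro x hx
    rw [Om_eq_map] at hx
    obtain ⟨y, hy, rfl⟩ := hx
    exact congrArg Subtype.val (Cfsg.Agent.S0128.result hp3 hR (fun E hE => hr E hE.1 hE.2) y hy)
  by_cases hle2 : Nat.card (Om p (⊤ : Subgroup R)) ≤ p ^ 2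
  · left
    exact hmeta (Cfsg.Agent.S0639.result hp3 hR hle2)
  · right
    have hT3 : Nat.card (Om p R) = p ^ 3 := by
      rw [hcard]
      obtain ⟨k, hk⟩ := IsPGroup.iff_card.1 (hR.to_subgroup (Om p (⊤ : Subgroup R)))
      rw [hk] at hle2 hle3 ⊢
      have h1 : k ≤ 3 := (Nat.pow_le_pow_iff_right hpp.one_lt).1 hle3
      have h2 : ¬ k ≤ 2 := fun h => hle2 (Nat.pow_le_pow_right hpp.pos h)
      have : k = 3 := by omega
      rw [this]
    have hnc : ∃ t₁ ∈ Om p R, ∃ t₂ ∈ Om p R, ¬ Commute t₁ t₂ := by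
      by_contra hcon
      push Not at hcon
      apply hle2
      apply hr
      · refine ⟨⟨fun x y => ?_⟩⟩
        apply Subtype.ext
        apply Subtype.ext
        have hmem : ∀ w : Om p (⊤ : Subgroup R), ((w : R) : G) ∈ Om p R := by
          intro w
          rw [Om_eq_map, ← hΩeq]
          exact ⟨w, w.2, rfl⟩
        exact hcon _ (hmem x) _ (hmem y)
      · intro x hx
        apply Subtype.ext
        apply hpow
        rw [Om_eq_map, ← hΩeq]
        exact ⟨x, hx, rfl⟩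
    exact Cfg.core ⟨hR, Om_le p R, fun x hx hxp => mem_Om hx hxp, hpow, hT3, hnc⟩ hp hA hAodd hRA

end Cfsg.Agent.Lib.Helper23R
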