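import Cfsg.Agent.Lib.Helper23.BGU5
import Cfsg.Agent.Lib.Helper34.BGRows
import Cfsg.Agent.Lib.Helper67.PTools
import Cfsg.Agent.S1403
import Cfsg.Agent.S1429
import Cfsg.Agent.S1426
import Cfsg.Agent.S1414

/-!
# BG Theorem 15.2 (row S1437) from rows S1373, S1430 (helper23)
-/

set_option autoImplicit false
set_option linter.unusedVariables false
set_option linter.unusedSimpArgs false
set_option linter.unusedSectionVars false
set_option linter.deprecated false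
set_option linter.style.haveILetI false

namespace Cfsg.Agent.Lib.Helper23U

open Cfsg Subgroup
open Cfsg.Agent.Lib.Helper24 Cfsg.Agent.Lib.Helper34 Cfsg.Agent.Lib.Helper31.BG11
open Cfsg.Agent.Lib.Helper34.BGRows
open scoped commutatorElement Pointwise

universe u

variable {G : Type u} [Group G] [Finite G]

theorem ut (hG : IsMinSimpleOddOrder G) : UT G :=
  fun K hK h2 h3 => Cfsg.Agent.S1403.result hG K hK h2 h3

/-- if `M_σ` is not nilpotent every prime divisor of `|M|` is in `σ(M) ∪ κ(M)` -/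
theorem sigma_or_kappa (hG : IsMinSimpleOddOrder G) {M : Subgroup G} (hM : IsCoatom M)
    (hnn : ¬ Group.IsNilpotent (sigmaCore M)) {p : ℕ} (hp : p.Prime) (hd : p ∣ Nat.card M) :
    p ∈ sigma M ∨ p ∈ kappa M := by
  by_contra hc
  push Not at hc
  haveI : Fact p.Prime := ⟨hp⟩
  apply hnn
  refine (Cfsg.Agent.S1429.result hG M hM ?_ p hd ?_ default).2.2
  · intro h
    exact hc.2 (h p hp hd hc.1)
  · rintro (h | h)
    · exact hc.1 h
    · exact hc.2 h

theorem cop_sc_kappa {M K : Subgroup G} (hK : IsPiHallOf (kappa M) K M) :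
    (Nat.card (sigmaCore M)).Coprime (Nat.card K) := by
  apply Nat.coprime_of_dvd
  intro p hp h1 h2
  exact (hK.2.1 p hp h2).2.2.1 (sc_primes M hp h1)

/-- the decomposition when `U = 1` -/
theorem compl_of_U_bot {M K U : Subgroup G} (hKU : IsSigmaDecomposition M K U) (hU : U = ⊥) :
    IsComplIn (sigmaCore M) K M ∧ IsComplIn K (sigmaCore M) M := by
  have hcop := cop_sc_kappa hKU.hall
  have h1 := Cfsg.Agent.Lib.Helper23.complIn_card_mul hKU.compl
  rw [hU, card_bot, one_mul] at h1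
  have h2 := Cfsg.Agent.Lib.Helper1.card_sup_of_disjoint (hKU.hall.1.trans (sc_norm M))
    (disjoint_of_coprime_natCard hcop.symm)
  rw [h1] at h2
  exact ⟨BG13.isComplIn_of_card (sc_le M) hKU.hall.1 hcop (by rw [h2, mul_comm]),
    BG13.isComplIn_of_card hKU.hall.1 (sc_le M) hcop.symm h2.symm⟩

theorem U_bot_of_not_nilpotent (hG : IsMinSimpleOddOrder G) {M K U : Subgroup G} (hM : IsCoatom M)
    (hKU : IsSigmaDecomposition M K U) (hnn : ¬ Group.IsNilpotent (sigmaCore M)) : U = ⊥ := by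
  by_contra hU
  have h1 : Nat.card U ≠ 1 := fun h => hU ((card_eq_one (H := U)).1 h)
  have hp := Nat.minFac_prime h1
  have hd : (Nat.card U).minFac ∣ Nat.card U := Nat.minFac_dvd _
  set p := (Nat.card U).minFac with hpdef
  have hr := Cfsg.Agent.Lib.Helper23.complIn_relIndex_right hKU.compl
  rcases sigma_or_kappa hG hM hnn hp (hd.trans (card_dvd_of_le hKU.compl.1)) with h | h
  · apply (sc_hall hG (ut hG) hM).2.2 p hp h
    rw [← relIndex_mul_relIndex (sigmaCore M) (K ⊔ sigmaCore M) M le_sup_right hKU.compl.2.1, hr]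
    exact Dvd.dvd.mul_left hd _
  · apply hKU.hall.2.2 p hp h
    rw [← relIndex_mul_relIndex K (K ⊔ sigmaCore M) M le_sup_left hKU.compl.2.1, hr]
    exact Dvd.dvd.mul_left hd _

theorem cfg_of_ne (hG : IsMinSimpleOddOrder G) (h73 : H1373 G) (h30 : H1430 G) {M K U : Subgroup G}
    (hM : IsCoatom M) (hKU : IsSigmaDecomposition M K U)
    (hne : fittingHallOf M ≠ sigmaCore M) :
    U = ⊥ ∧ (Nat.card ↥(sigmaCore M ⊓ centralizer (K : Set G))).Prime ∧
      C152 M (sigmaCore M) K (Nat.card ↥(sigmaCore M ⊓ centralizer (K : Set G))) := by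
  have hU := ut hG
  have hnn : ¬ Group.IsNilpotent (sigmaCore M) :=
    fun h => hne ((fittingHallOf_eq_sc_iff hG hU hM).2 h)
  have hUb := U_bot_of_not_nilpotent hG hM hKU hnn
  obtain ⟨hc1, hc2⟩ := compl_of_U_bot hKU hUb
  have hcomm := (Cfsg.Agent.S1426.result hG M hM K hc2).2.1
  have hK1 : K ≠ ⊥ := by
    intro hK
    rw [hK, commutator_bot_right] at hcomm
    apply hnn
    rw [← hcomm]
    infer_instance
  refine ⟨hUb, h73 M hM K U hKU hK1 hUb, ?_⟩
  exact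
    { solv := MS_solvable hG hM.1
      odd := MS_odd hG M
      compl := hc1
      Sn := sc_norm M
      cop := cop_sc_kappa hKU.hall
      K1 := hK1
      pr := (h30 M hM K hKU.hall hK1).1
      hq := rfl
      comm := hcomm
      nn := hnn }

/-- `M' ≤ S` when `M = S K` with `S ⊴ M` and `K` abelian -/
theorem commutator_le_of_compl {M S K : Subgroup G} (hc : IsComplIn S K M)
    (hn : M ≤ normalizer (S : Set G)) (hab : ∀ a ∈ K, ∀ b ∈ K, a * b = b * a) : ⁅M, M⁆ ≤ S := by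
  rw [commutator_le]
  intro a ha b hb
  obtain ⟨s₁, hs₁, k₁, hk₁, rfl⟩ := hc.2.2.2 a ha
  obtain ⟨s₂, hs₂, k₂, hk₂, rfl⟩ := hc.2.2.2 b hb
  have h1 : ⁅s₁ * k₁, s₂ * k₂⁆ = s₁ * (k₁ * s₂ * k₁⁻¹) * (k₂ * s₁⁻¹ * k₂⁻¹) * s₂⁻¹ := by
    have h2 : k₂ * k₁⁻¹ = k₁⁻¹ * k₂ := by
      have := hab k₁ hk₁ k₂ hk₂
      calc k₂ * k₁⁻¹ = k₁⁻¹ * (k₁ * k₂) * k₁⁻¹ := by group
        _ = k₁⁻¹ * (k₂ * k₁) * k₁⁻¹ := by rw [this]
        _ = k₁⁻¹ * k₂ := by group
    rw [commutatorElement_def]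
    calc s₁ * k₁ * (s₂ * k₂) * (s₁ * k₁)⁻¹ * (s₂ * k₂)⁻¹
        = s₁ * k₁ * s₂ * (k₂ * k₁⁻¹) * s₁⁻¹ * k₂⁻¹ * s₂⁻¹ := by group
      _ = s₁ * k₁ * s₂ * (k₁⁻¹ * k₂) * s₁⁻¹ * k₂⁻¹ * s₂⁻¹ := by rw [h2]
      _ = _ := by group
  rw [h1]
  exact mul_mem (mul_mem (mul_mem hs₁ (conj_mem_of_le_normalizer hn (hc.2.1 hk₁) hs₂))
    (conj_mem_of_le_normalizer hn (hc.2.1 hk₂) (inv_mem hs₁))) (inv_mem hs₂)

end Cfsg.Agent.Lib.Helper23U
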