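/-
Helper library (helper23): Bender–Glauberman Section 12: tools around `τ₂(M)`, relative to the statement of
S1417 (BG Theorem 12.5) taken as a hypothesis.
-/
import Cfsg.Agent.Lib.Helper31.BG11a
import Cfsg.Agent.Lib.Helper9.BG12a
import Cfsg.Agent.S1451

set_option autoImplicit false
set_option linter.unusedSectionVars false
set_option linter.unusedVariables false

namespace Cfsg.Agent.Lib.Helper23T

open Subgroup Cfsg
open Cfsg.Agent.Lib
open Cfsg.Agent.Lib.Helper24 Cfsg.Agent.Lib.Helper34 Cfsg.Agent.Lib.Helper31.BG11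

universe u

variable {G : Type u} [Group G]

/-- the statement of S1417 -/
def H1417 (G : Type u) [Group G] : Prop :=
  ∀ (M : Subgroup G), IsCoatom M → ∀ (p : ℕ) [Fact p.Prime], p ∈ tau2 M → ∀ A : Subgroup G,
    (A ≤ M ∧ IsElementaryAbelian p A ∧ Nat.card A = p ^ 2) → ExcConcl M p A

variable [Finite G]

/-- a maximal subgroup normalizing a nontrivial proper subgroup is its full normalizer -/
theorem normalizer_le_of_le_normalizer (hG : IsMinSimpleOddOrder G) {M X : Subgroup G}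
    (hM : IsCoatom M) (hX1 : X ≠ ⊥) (hXt : X ≠ ⊤) (h : M ≤ normalizer (X : Set G)) :
    normalizer (X : Set G) ≤ M := by
  rcases eq_or_lt_of_le h with h1 | h1
  · exact h1.ge
  · exact absurd (hM.2 _ h1) (MS_normalizer_ne_top hG hX1 hXt)

theorem sigma_nonempty (hG : IsMinSimpleOddOrder G) (hU : UT G) {M : Subgroup G} (hM : IsCoatom M) :
    ∃ p, p ∈ sigma M := by
  by_cases hα : ∃ p, p ∈ alpha M
  · obtain ⟨p, hp⟩ := hα
    exact ⟨p, alpha_subset_sigma hG hU hM hp⟩
  push Not at hα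
  have hr : RankLE 2 M := by
    intro p hp
    by_contra h
    exact hα p ⟨hp, h⟩
  have hsolv : Group.IsSolvable M := MS_solvable hG hM.1
  have hcard : Nat.card M ≠ 1 := fun h => MS_coatom_ne_bot hG hM (card_eq_one.1 h)
  have hne : (Nat.card M).primeFactors.Nonempty := by
    obtain ⟨q, hq, hqd⟩ := Nat.exists_prime_and_dvd hcard
    exact ⟨q, Nat.mem_primeFactors.2 ⟨hq, hqd, Nat.card_pos.ne'⟩⟩
  set p := (Nat.card M).primeFactors.max' hne with hp
  have hpmem := (Nat.card M).primeFactors.max'_mem hne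
  rw [← hp, Nat.mem_primeFactors] at hpmem
  obtain ⟨hpp, hpd, -⟩ := hpmem
  have hmax : ∀ q : ℕ, q.Prime → q ∣ Nat.card M → q ≤ p := fun q hq hqd =>
    (Nat.card M).primeFactors.le_max' q (Nat.mem_primeFactors.2 ⟨hq, hqd, Nat.card_pos.ne'⟩)
  have : Fact p.Prime := ⟨hpp⟩
  obtain ⟨N, hNc, hN1, hN2⟩ := (Cfsg.Agent.S1451.result (G := M) (MS_odd hG M) (Or.inl hr)).2.2 (p - 1)
  have hpg : IsPGroup p (N.map M.subtype) := by
    apply Helper22.isPGroup_of_primes
    intro q hq hqd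
    rw [card_map_of_injective M.subtype_injective] at hqd
    have h1 := (hN1 q hq hqd).2
    have h2 := hmax q hq (hqd.trans (card_subgroup_dvd_card N))
    show q = p
    omega
  have hS : IsSylowIn p (N.map M.subtype) M := by
    refine ⟨map_subtype_le _, hpg, ?_⟩
    rw [relIndex_map_subtype]
    exact hN2 p hpp ⟨hpp, by have := hpp.pos; omega⟩
  have hnorm : M ≤ normalizer ((N.map M.subtype : Subgroup G) : Set G) :=
    le_normalizer.trans (Helper22.normalizer_le_normalizer_map_subtype' M N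
      (fun φ => characteristic_iff_map_eq.1 hNc φ))
  exact ⟨p, mem_sigma_iff.2 ⟨hpd, _, hS, normalizer_le_of_le_normalizer hG hM
    (sylow_ne_bot_of_dvd hS hpd) (MS_isPGroup_ne_top hG hpg) hnorm⟩⟩

theorem sc_ne_bot (hG : IsMinSimpleOddOrder G) (hU : UT G) {M : Subgroup G} (hM : IsCoatom M) :
    sigmaCore M ≠ ⊥ := by
  intro h
  obtain ⟨p, hp⟩ := sigma_nonempty hG hU hM
  have h1 := (sc_hall hG hU hM).2.2 p hp.1 hp
  rw [h, relIndex_bot_left] at h1
  exact h1 hp.2.1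

theorem rank2_of_not_sigma (hG : IsMinSimpleOddOrder G) (hU : UT G) {M : Subgroup G}
    (hM : IsCoatom M) {p : ℕ} (hpp : p.Prime) (hp : p ∉ sigma M) : PRankLE p 2 M := by
  by_contra h
  exact hp (alpha_subset_sigma hG hU hM ⟨hpp, h⟩)

/-- a `σ(M)'`-subgroup of `M` meets `M_σ` trivially. -/
theorem inf_sc_eq_bot {M X : Subgroup G} (hX : ∀ q : ℕ, q.Prime → q ∣ Nat.card X → q ∉ sigma M) :
    X ⊓ sigmaCore M = ⊥ := by
  rw [← card_eq_one]
  by_contra h
  obtain ⟨q, hq, hqd⟩ := Nat.exists_prime_and_dvd h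
  exact hX q hq (hqd.trans (card_dvd_of_le inf_le_left))
    (sc_primes M hq (hqd.trans (card_dvd_of_le inf_le_right)))

theorem primes_of_pgroup {p : ℕ} [Fact p.Prime] {M X : Subgroup G} (hX : IsPGroup p X)
    (hp : p ∉ sigma M) : ∀ q : ℕ, q.Prime → q ∣ Nat.card X → q ∉ sigma M := by
  intro q hq hqd
  have h1 : q = p := Helper22.primes_of_isPGroup Fact.out hX q hq hqd
  rw [h1]; exact hp

/-- a subgroup of `M` normalized by `M_σ` and meeting it trivially centralizes it. -/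
theorem le_centralizer_sc {M X : Subgroup G} (hXM : X ≤ M)
    (hn : sigmaCore M ≤ normalizer (X : Set G)) (hX : X ⊓ sigmaCore M = ⊥) :
    X ≤ centralizer (sigmaCore M : Set G) := by
  rw [← commutator_eq_bot_iff_le_centralizer, eq_bot_iff, ← hX]
  apply le_inf
  · exact le_normalizer_iff_commutator_le_left.1 hn
  · exact le_normalizer_iff_commutator_le_right.1 (hXM.trans (sc_norm M))

/-- `p`-subgroups of `M` are abelian for `p ∉ σ(M)`. -/
theorem commute_of_isPGroup (hG : IsMinSimpleOddOrder G) (hU : UT G) (h17 : H1417 G)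
    {M : Subgroup G} (hM : IsCoatom M) {p : ℕ} [Fact p.Prime] (hp : p ∉ sigma M) {X : Subgroup G}
    (hXM : X ≤ M) (hX : IsPGroup p X) : ∀ a ∈ X, ∀ b ∈ X, a * b = b * a := by
  have hpp : p.Prime := Fact.out
  by_cases hX1 : X = ⊥
  · intro a ha b hb
    rw [hX1, mem_bot] at ha hb
    rw [ha, hb]
  have hpM : p ∣ Nat.card M := by
    obtain ⟨k, hk⟩ := IsPGroup.iff_card.1 hX
    have hk0 : k ≠ 0 := by
      rintro rfl
      rw [pow_zero] at hk
      exact hX1 (card_eq_one.1 hk)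
    exact (hk ▸ dvd_pow_self p hk0 : p ∣ Nat.card X).trans (card_dvd_of_le hXM)
  have hp2 : p ≠ 2 := MS_prime_ne_two hG hpM
  have hr2 := rank2_of_not_sigma hG hU hM hpp hp
  obtain ⟨Q, hQ, hXQ⟩ := exists_isSylowIn_ge hXM hX
  by_cases hr1 : PRankLE p 1 M
  · have hcyc : IsCyclic Q := isCyclic_of_pRankLE_one hp2 hQ.2.1 (pRankLE_mono hQ.1 hr1)
    have hc : IsMulCommutative Q := IsCyclic.isMulCommutative
    intro a ha b hb
    exact congrArg Subtype.val (hc.is_comm.comm ⟨a, hXQ ha⟩ ⟨b, hXQ hb⟩)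
  · obtain ⟨A, hA⟩ := exists_elemAb_sq hr2 hr1
    have hc := ((h17 M hM p ⟨hpp, hp, hr2, hr1⟩ A hA).2.1 hQ.toSylow).1
    intro a ha b hb
    have h1 := hc.is_comm.comm ⟨⟨a, hXM ha⟩, mem_subgroupOf.2 (hXQ ha)⟩
      ⟨⟨b, hXM hb⟩, mem_subgroupOf.2 (hXQ hb)⟩
    exact congrArg Subtype.val (congrArg Subtype.val h1)

/-- a nontrivial normal `p`-subgroup of `M`, `p ∉ σ(M)`, forces `p ∈ τ₂(M)`. -/
theorem mem_tau2_of_normal (hG : IsMinSimpleOddOrder G) (hU : UT G) {M : Subgroup G}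
    (hM : IsCoatom M) {p : ℕ} [Fact p.Prime] (hp : p ∉ sigma M) {R : Subgroup G} (hRM : R ≤ M)
    (hR : IsPGroup p R) (hR1 : R ≠ ⊥) (hn : M ≤ normalizer (R : Set G)) : p ∈ tau2 M := by
  have hpp : p.Prime := Fact.out
  have hr2 := rank2_of_not_sigma hG hU hM hpp hp
  refine ⟨hpp, hp, hr2, fun hr1 => ?_⟩
  obtain ⟨z, hzR, -, hz1, hzp⟩ := exists_central_order_p hR hR1
  have hpM : p ∣ Nat.card M := by
    have h1 : orderOf z = p := orderOf_eq_prime hzp hz1
    rw [← h1]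
    exact Subgroup.orderOf_dvd_natCard M (hRM hzR)
  have hp2 : p ≠ 2 := MS_prime_ne_two hG hpM
  have hcyc : IsCyclic R := isCyclic_of_pRankLE_one hp2 hR (pRankLE_mono hRM hr1)
  have hzcard : Nat.card (zpowers z) = p := by
    rw [Nat.card_zpowers]; exact orderOf_eq_prime hzp hz1
  have h1 : M ≤ normalizer ((zpowers z : Subgroup G) : Set G) :=
    hn.trans (Helper9.BG12.normalizer_le_normalizer_of_isCyclic hcyc (zpowers_le.2 hzR))
  have hzpg : IsPGroup p (zpowers z) := IsPGroup.of_card (n := 1) (by rw [hzcard, pow_one])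
  have h2 := normalizer_le_of_le_normalizer hG hM (fun h => hz1 (zpowers_eq_bot.1 h))
    (MS_isPGroup_ne_top hG hzpg) h1
  exact (sigma'_norm_mmax_rank2 hG hU hM hp hzcard h2).1.2 hr1

/-- a normal `p`-subgroup of `M`, `p ∉ σ(M)`, is cyclic. -/
theorem isCyclic_of_normal (hG : IsMinSimpleOddOrder G) (hU : UT G) (h17 : H1417 G)
    {M : Subgroup G} (hM : IsCoatom M) {p : ℕ} [Fact p.Prime] (hp : p ∉ sigma M) {R X : Subgroup G}
    (hRM : R ≤ M) (hR : IsPGroup p R) (hn : M ≤ normalizer (R : Set G)) (hXR : X ≤ R) :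
    IsCyclic X := by
  by_cases hR1 : R = ⊥
  · have : X = ⊥ := le_bot_iff.1 (hR1 ▸ hXR)
    rw [this]; infer_instance
  have hτ := mem_tau2_of_normal hG hU hM hp hRM hR hR1 hn
  have hpM : p ∣ Nat.card M := by
    obtain ⟨z, hzR, -, hz1, hzp⟩ := exists_central_order_p hR hR1
    have h1 : orderOf z = p := orderOf_eq_prime hzp hz1
    rw [← h1]
    exact Subgroup.orderOf_dvd_natCard M (hRM hzR)
  have hp2 : p ≠ 2 := MS_prime_ne_two hG hpM
  by_contra hnc
  obtain ⟨A, hAX, hAe, hAc⟩ := Helper9.BG12.exists_elemAb_sq_of_not_isCyclic hp2 (hR.to_le hXR) hnc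
  have h1 := (h17 M hM p hτ A ⟨(hAX.trans hXR).trans hRM, hAe, hAc⟩).2.2.2.1
  have h2 : R ≤ centralizer (sigmaCore M : Set G) :=
    le_centralizer_sc hRM ((sc_le M).trans hn) (inf_sc_eq_bot (primes_of_pgroup hR hp))
  apply sc_ne_bot hG hU hM
  rw [eq_bot_iff, ← h1]
  exact le_inf le_rfl (le_centralizer_iff.1 ((hAX.trans hXR).trans h2))

end Cfsg.Agent.Lib.Helper23T
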