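import Cfsg.Agent.Lib.Helper23.BGU9
import Cfsg.Agent.Lib.Helper23.BGT2
import Cfsg.Agent.Lib.Helper10.BG124
import Cfsg.Agent.S1415

/-!
# Row S1355 from rows S1351 S1352 S1373 S1430 (helper23)
-/

set_option autoImplicit false
set_option linter.unusedVariables false
set_option linter.unusedSimpArgs false
set_option linter.unusedSectionVars false
set_option linter.deprecated false
set_option linter.style.haveILetI false

namespace Cfsg.Agent.Lib.Helper23U

open Cfsg Subgroup
open Cfsg.Agent.Lib.Helper24 Cfsg.Agent.Lib.Helper34 Cfsg.Agent.Lib.Helper31.BG11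
open Cfsg.Agent.Lib.Helper34.BGRows
open scoped commutatorElement Pointwise

universe u

variable {G : Type u} [Group G] [Finite G]

/-- `M' ≤ S E'` when `M = S E` with `S ⊴ M` -/
theorem commutator_le_sup_of_compl {M S E : Subgroup G} (hc : IsComplIn S E M)
    (hn : M ≤ normalizer (S : Set G)) : ⁅M, M⁆ ≤ S ⊔ ⁅E, E⁆ := by
  rw [commutator_le]
  intro a ha b hb
  obtain ⟨s₁, hs₁, e₁, he₁, rfl⟩ := hc.2.2.2 a ha
  obtain ⟨s₂, hs₂, e₂, he₂, rfl⟩ := hc.2.2.2 b hb
  have h1 : ⁅s₁ * e₁, s₂ * e₂⁆ = s₁ * (e₁ * s₂ * e₁⁻¹) *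
      ((e₁ * e₂ * e₁⁻¹) * s₁⁻¹ * (e₁ * e₂ * e₁⁻¹)⁻¹) * (⁅e₁, e₂⁆ * s₂⁻¹ * ⁅e₁, e₂⁆⁻¹) * ⁅e₁, e₂⁆ := by
    simp only [commutatorElement_def]
    group
  rw [h1]
  have hE := hc.2.1
  have hcm : ⁅e₁, e₂⁆ ∈ ⁅E, E⁆ := commutator_mem_commutator he₁ he₂
  have hcM : ⁅e₁, e₂⁆ ∈ M := hE (commutator_le_self E hcm)
  refine mul_mem (mem_sup_left ?_) (mem_sup_right hcm)
  exact mul_mem (mul_mem (mul_mem hs₁ (conj_mem_of_le_normalizer hn (hE he₁) hs₂))
    (conj_mem_of_le_normalizer hn (mul_mem (mul_mem (hE he₁) (hE he₂)) (inv_mem (hE he₁)))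
      (inv_mem hs₁))) (conj_mem_of_le_normalizer hn hcM (inv_mem hs₂))

/-- `M'/M_F` is nilpotent as soon as `M' ≤ M_F T` with `T ≤ M` nilpotent -/
theorem nilpotent_map_of_le {M T : Subgroup G} (hTM : T ≤ M) (hT : Group.IsNilpotent T)
    (h : ⁅M, M⁆ ≤ fittingHallOf M ⊔ T) :
    Group.IsNilpotent ↥((commutator ↥M).map (QuotientGroup.mk' (fittingHall ↥M))) := by
  have h1 : commutator ↥M ≤ fittingHall ↥M ⊔ T.subgroupOf M := by
    rw [← map_le_map_iff_of_injective M.subtype_injective, map_subtype_commutator,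
      Subgroup.map_sup, map_subgroupOf_eq_of_le hTM]
    exact h
  have h2 : (commutator ↥M).map (QuotientGroup.mk' (fittingHall ↥M)) ≤
      (T.subgroupOf M).map (QuotientGroup.mk' (fittingHall ↥M)) := by
    refine (map_mono h1).trans ?_
    rw [Subgroup.map_sup]
    apply sup_le _ le_rfl
    rw [(Subgroup.map_eq_bot_iff _).2 (by rw [QuotientGroup.ker_mk'])]
    exact bot_le
  have h3 : Group.IsNilpotent (T.subgroupOf M) :=
    Group.nilpotent_of_mulEquiv (subgroupOfEquivOfLe hTM).symm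
  have h4 : Group.IsNilpotent ↥((T.subgroupOf M).map (QuotientGroup.mk' (fittingHall ↥M))) :=
    Group.nilpotent_of_surjective ((QuotientGroup.mk' (fittingHall ↥M)).subgroupMap _)
      (MonoidHom.subgroupMap_surjective _ _)
  exact Cfsg.Agent.Lib.Helper25.isNilpotent_of_le' h2 h4

theorem commutator_lt (hG : IsMinSimpleOddOrder G) {M : Subgroup G} (hM : IsCoatom M) :
    ⁅M, M⁆ < M := by
  refine lt_of_le_of_ne (commutator_le_self M) ?_
  intro h
  haveI := MS_solvable hG hM.1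
  haveI : Nontrivial ↥M := (nontrivial_iff_ne_bot M).2 (MS_coatom_ne_bot hG hM)
  have h1 := IsSolvable.commutator_lt_top_of_nontrivial ↥M
  apply h1.ne
  apply map_injective M.subtype_injective
  rw [map_subtype_commutator, h, ← MonoidHom.range_eq_map, range_subtype]

/-- existence of a `σ`-decomposition -/
theorem exists_decomp (h51 : H1351 G) (h52 : H1352 G) {M : Subgroup G} (hM : IsCoatom M) :
    ∃ K U : Subgroup G, IsSigmaDecomposition M K U := by
  obtain ⟨⟨K, hK⟩, hc⟩ := h51 M hM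
  obtain ⟨⟨U, hU⟩, -⟩ := h52 M hM K (hc K hK) hK
  exact ⟨K, U, hU⟩

theorem row1355 (hG : IsMinSimpleOddOrder G) (h51 : H1351 G) (h52 : H1352 G) (h73 : H1373 G)
    (h30 : H1430 G) : H1355 G := by
  intro M hM
  have hU := ut hG
  refine ⟨?_, fittingHallOf_le_sc hG hM, Cfsg.Agent.Lib.Helper10.BG124.sc_le_commutator hG hU hM,
    commutator_lt hG hM, ?_⟩
  · by_cases hne : fittingHallOf M = sigmaCore M
    · rw [hne]
      exact Cfsg.Agent.Lib.Helper23T.sc_ne_bot hG hU hM
    · obtain ⟨K, U, hKU⟩ := exists_decomp h51 h52 hM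
      obtain ⟨hUb, hq, hc⟩ := cfg_of_ne hG h73 h30 hM hKU hne
      intro hb
      have h1 := Ks_le_fittingHallOf hG h73 h30 hM hKU
      rw [hb, le_bot_iff] at h1
      rw [h1, card_bot] at hq
      exact Nat.not_prime_one hq
  · by_cases hne : fittingHallOf M = sigmaCore M
    · obtain ⟨E, hE, -⟩ := BG13.exists_compl_ge hG hU hM (K := ⊥) bot_le (by
        intro r hr hd
        rw [card_bot] at hd
        exact absurd (Nat.dvd_one.1 hd) hr.one_lt.ne')
      have hE' : IsComplIn (sigmaCore M) E M :=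
        BG13.isComplIn_of_card (sc_le M) hE.1
          (by
            apply Nat.coprime_of_dvd
            intro p hp h1 h2
            exact BG13.compl_not_sigma hG hU hM hE hp h2 (sc_primes M hp h1))
          (by rw [mul_comm]; exact Cfsg.Agent.Lib.Helper23.complIn_card_mul hE)
      apply nilpotent_map_of_le ((commutator_le_self E).trans hE.1)
        (Cfsg.Agent.S1415.result hG M hM E hE).1
      rw [hne]
      exact commutator_le_sup_of_compl hE' (sc_norm M)
    · obtain ⟨K, U, hKU⟩ := exists_decomp h51 h52 hM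
      obtain ⟨hUb, hq, hc⟩ := cfg_of_ne hG h73 h30 hM hKU hne
      haveI hqF : Fact (Nat.card ↥(sigmaCore M ⊓ centralizer (K : Set G))).Prime := ⟨hq⟩
      obtain ⟨D, hD, hKD⟩ := hc.exists_inv
      apply nilpotent_map_of_le (hD.2.1.trans (sc_le M)) (hc.nilD hD hKD)
      rw [← (row1437 hG h73 h30 M hM K U hKU hne).2.1, ← hc.sup_QD hD]
      exact sup_le_sup hc.Q_le_fittingHallOf le_rfl

end Cfsg.Agent.Lib.Helper23U
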