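import Cfsg.Agent.Lib.Helper23.BGU8
import Cfsg.Agent.Lib.Helper22.BG.Basic

/-!
# Row S1357 from rows S1373 S1430 (helper23): `F(M)` is TI when `M_F ≠ M_σ`
-/

set_option autoImplicit false
set_option linter.unusedVariables false
set_option linter.unusedSimpArgs false
set_option linter.unusedSectionVars false
set_option linter.deprecated false
set_option linter.style.haveILetI false

namespace Cfsg.Agent.Lib.Helper23U

open Cfsg Subgroup
open Cfsg.Agent.Lib.Helper24 Cfsg.Agent.Lib.Helper34 Cfsg.Agent.Lib.Helper31.BG11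
open Cfsg.Agent.Lib.Helper34.BGRows
open scoped commutatorElement Pointwise

universe u

variable {G : Type u} [Group G] [Finite G]

theorem fittingOf_le (M : Subgroup G) : fittingOf M ≤ M := map_subtype_le _

theorem fittingOf_subgroupOf (M : Subgroup G) :
    (fittingOf M).subgroupOf M = fittingSubgroup ↥M := by
  unfold fittingOf
  exact comap_map_eq_self_of_injective (subtype_injective M) _

theorem fittingOf_norm (M : Subgroup G) : M ≤ normalizer (fittingOf M : Set G) := by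
  have h : (fittingSubgroup ↥M).Normal := Cfsg.Agent.Lib.Helper91.fittingSubgroup_normal
  rw [← fittingOf_subgroupOf] at h
  exact (normal_subgroupOf_iff_le_normalizer (fittingOf_le M)).mp h

theorem mem_pCoreOf_of_mem_fittingOf {M : Subgroup G} {p : ℕ} [Fact p.Prime] {x : G}
    (hx : x ∈ fittingOf M) {n : ℕ} (hxp : x ^ p ^ n = 1) : x ∈ pCoreOf p M := by
  obtain ⟨y, hy, rfl⟩ := hx
  have h2 : y ^ p ^ n = 1 := Subtype.ext (by simpa using hxp)
  exact ⟨y, Cfsg.Agent.Lib.Helper24.mem_pCore_of_mem_fitting p y hy n h2, rfl⟩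

theorem pCoreOf_commute {M : Subgroup G} {r q : ℕ} [hr : Fact r.Prime] [hq : Fact q.Prime]
    (hrq : r ≠ q) : ∀ a ∈ pCoreOf r M, ∀ b ∈ pCoreOf q M, a * b = b * a := by
  intro a ha b hb
  have hcop : (Nat.card (pCoreOf r M)).Coprime (Nat.card (pCoreOf q M)) := by
    obtain ⟨n, hn⟩ := IsPGroup.iff_card.1 (Cfsg.Agent.Lib.Helper47.pCoreOf_isPGroup (p := r) M)
    obtain ⟨m, hm⟩ := IsPGroup.iff_card.1 (Cfsg.Agent.Lib.Helper47.pCoreOf_isPGroup (p := q) M)
    rw [hn, hm]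
    exact Nat.Coprime.pow _ _ ((Nat.coprime_primes hr.out hq.out).2 hrq)
  have h1 : a * b * a⁻¹ * b⁻¹ ∈ pCoreOf r M ⊓ pCoreOf q M := by
    refine mem_inf.2 ⟨?_, ?_⟩
    · have h2 := conj_mem_of_le_normalizer (Cfsg.Agent.Lib.Helper47.le_normalizer_pCoreOf (p := r) M)
        (Cfsg.Agent.Lib.Helper47.pCoreOf_le M hb) (inv_mem ha)
      have h3 := mul_mem ha h2
      simpa [mul_assoc] using h3
    · have h2 := conj_mem_of_le_normalizer (Cfsg.Agent.Lib.Helper47.le_normalizer_pCoreOf (p := q) M)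
        (Cfsg.Agent.Lib.Helper47.pCoreOf_le M ha) hb
      exact mul_mem h2 (inv_mem hb)
  rw [(disjoint_of_coprime_natCard hcop).eq_bot, mem_bot] at h1
  calc a * b = (a * b * a⁻¹ * b⁻¹) * (b * a) := by group
    _ = b * a := by rw [h1, one_mul]

/-- a normal Sylow `q`-subgroup `Q` of `M` of rank at least 3: if `w ≠ 1` and `g w g⁻¹` both
centralize `Q` then `g ∈ M`. -/
theorem mem_of_centralize_rank3 (hG : IsMinSimpleOddOrder G) {M Q : Subgroup G} (hM : IsCoatom M)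
    {q : ℕ} [hq : Fact q.Prime] (hQ : IsSylowIn q Q M) (hQn : M ≤ normalizer (Q : Set G))
    (hα : q ∈ alpha M) {w g : G} (hw1 : w ≠ 1) (h1 : Q ≤ centralizer ({w} : Set G))
    (h2 : Q ≤ centralizer ({g * w * g⁻¹} : Set G)) : g ∈ M := by
  have hQtop : Q ≠ ⊤ := ne_top_of_le_ne_top hM.1 hQ.1
  have hr : ¬ PRankLE q 2 Q := fun h => hα.2 (pRankLE_of_isSylowIn hQ h)
  have hQU := (ut hG).of_rank3 hq.out hQtop hr
  have hC : centralizer ({w} : Set G) ≤ M :=
    le_of_inUniqueMaximal hQU hM hQ.1 (Cfsg.Agent.Lib.Helper22.BG.centralizer_ne_top hG hw1) h1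
  have h3 : cj g⁻¹ Q ≤ centralizer ({w} : Set G) := by
    rintro _ ⟨y, hy, rfl⟩
    have h4 := (mem_centralizer_iff.1 (h2 hy)) _ (Set.mem_singleton _)
    rw [mem_centralizer_iff]
    intro z hz
    rw [Set.mem_singleton_iff.1 hz]
    change w * (g⁻¹ * y * g⁻¹⁻¹) = g⁻¹ * y * g⁻¹⁻¹ * w
    calc w * (g⁻¹ * y * g⁻¹⁻¹) = g⁻¹ * ((g * w * g⁻¹) * y) * g := by group
      _ = g⁻¹ * (y * (g * w * g⁻¹)) * g := by rw [h4]
      _ = g⁻¹ * y * g⁻¹⁻¹ * w := by group
  have h5 : cj g⁻¹ Q ≤ Q :=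
    le_of_normal_of_not_dvd hQ.1 hQn hQ.2.2 (h3.trans hC) (hQ.2.1.map _)
  have h6 : cj g⁻¹ Q = Q := cj_eq_of_le_of_card h5 le_rfl
  have h7 : g⁻¹ ∈ normalizer (Q : Set G) := mem_normalizer_of_map_conj_eq h6
  have hQ1 : Q ≠ ⊥ := by
    rintro rfl
    apply hr
    rw [pRankLE_iff]
    intro F hF _ _
    rw [le_bot_iff.1 hF, card_bot]
    exact Nat.one_le_pow _ _ hq.out.pos
  have h8 := Cfsg.Agent.Lib.Helper25.BG11.normalizer_le_of_normal hG hM hQ1 hQ.1 hQn h7
  simpa using M.inv_mem h8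

theorem row1357 (hG : IsMinSimpleOddOrder G) (h73 : H1373 G) (h30 : H1430 G) : H1357 G := by
  intro M hM K U hKU hne
  obtain ⟨hUb, hq, hc⟩ := cfg_of_ne hG h73 h30 hM hKU hne
  haveI hqF : Fact (Nat.card ↥(sigmaCore M ⊓ centralizer (K : Set G))).Prime := ⟨hq⟩
  have hβ := (row1437 hG h73 h30 M hM K U hKU hne).2.2.2.2.2.1
  set q := Nat.card ↥(sigmaCore M ⊓ centralizer (K : Set G)) with hqdef
  refine ⟨hUb, ?_, hc.K_prime⟩
  intro g hg x hx hgx
  by_contra hx1
  have hgM : g ∉ M := fun h => hg (fittingOf_norm M h)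
  have hQ : IsSylowIn q (pCoreOf q M) M := by
    refine ⟨Cfsg.Agent.Lib.Helper47.pCoreOf_le M, hc.Qp, ?_⟩
    rw [← relIndex_mul_relIndex (pCoreOf q M) (sigmaCore M) M hc.Q_le hc.compl.1,
      Cfsg.Agent.Lib.Helper23.complIn_relIndex_left hc.compl]
    apply hq.not_dvd_mul hc.Q_syl
    rw [← Nat.Prime.coprime_iff_not_dvd hq]
    exact hc.cop_qK
  -- a power of prime order
  have ho : orderOf x ≠ 1 := fun h => hx1 (orderOf_eq_one_iff.1 h)
  have hr := Nat.minFac_prime ho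
  set r := (orderOf x).minFac with hrdef
  haveI : Fact r.Prime := ⟨hr⟩
  set w := x ^ (orderOf x / r) with hwdef
  have hwo : orderOf w = r := orderOf_pow_orderOf_div (orderOf_pos x).ne' (Nat.minFac_dvd _)
  have hw1 : w ≠ 1 := by
    intro h
    rw [h, orderOf_one] at hwo
    exact hr.one_lt.ne hwo
  have hwF : w ∈ fittingOf M := pow_mem hx _
  have hgw : g * w * g⁻¹ ∈ fittingOf M := by
    rw [hwdef, ← conj_pow]
    exact pow_mem hgx _
  have hwr : w ^ r ^ 1 = 1 := by rw [pow_one, ← hwo]; exact pow_orderOf_eq_one w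
  have hgwr : (g * w * g⁻¹) ^ r ^ 1 = 1 := by rw [conj_pow, hwr]; group
  have hwP := mem_pCoreOf_of_mem_fittingOf hwF hwr
  have hgwP := mem_pCoreOf_of_mem_fittingOf hgw hgwr
  by_cases hrq : r = q
  · -- `w ∈ M_σ ∩ M^{g⁻¹}`, impossible as `q ∈ β(M)`
    have h1 : w ∈ sigmaCore M ⊓ M.map (MulAut.conj g⁻¹).toMonoidHom := by
      refine mem_inf.2 ⟨?_, ?_⟩
      · apply hc.Q_le
        rw [← hrq]
        exact hwP
      · rw [mem_map_conj, inv_inv]
        exact fittingOf_le M hgw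
    have h2 := ((Cfsg.Agent.S1426.result hG M hM K (compl_of_U_bot hKU hUb).2).2.2 g⁻¹
      (fun h => hgM (by simpa using M.inv_mem h))).2.1 q hq
    apply h2 _ hβ
    rw [← hrq, ← hwo]
    have := orderOf_dvd_natCard (⟨w, h1⟩ : ↥(sigmaCore M ⊓ M.map (MulAut.conj g⁻¹).toMonoidHom))
    rwa [Subgroup.orderOf_mk] at this
  · apply hgM
    apply mem_of_centralize_rank3 hG hM hQ hc.QM hβ.1 hw1
    · intro b hb
      rw [mem_centralizer_iff]
      intro z hz
      rw [Set.mem_singleton_iff.1 hz]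
      exact pCoreOf_commute hrq w hwP b hb
    · intro b hb
      rw [mem_centralizer_iff]
      intro z hz
      rw [Set.mem_singleton_iff.1 hz]
      exact pCoreOf_commute hrq _ hgwP b hb

end Cfsg.Agent.Lib.Helper23U
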