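import Cfsg.Agent.Lib.Helper23.BGU11
import Cfsg.Agent.Lib.Helper68.BG121
import Cfsg.Agent.S1374
import Cfsg.Agent.S1384

/-!
# Row S1438, second half (BG 15.1(b)) (helper23)
-/

set_option autoImplicit false
set_option linter.unusedVariables false
set_option linter.unusedSimpArgs false
set_option linter.unusedSectionVars false
set_option linter.deprecated false
set_option linter.style.haveILetI false

namespace Cfsg.Agent.Lib.Helper23U

open Cfsg Subgroup
open Cfsg.Agent.Lib.Helper24 Cfsg.Agent.Lib.Helper34 Cfsg.Agent.Lib.Helper31.BG11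
open Cfsg.Agent.Lib.Helper34.BGRows
open scoped commutatorElement Pointwise

universe u

variable {G : Type u} [Group G] [Finite G]

/-- `M` controls fusion of the elements of `M_σ` in `M` -/
theorem fusion_in_M (hG : IsMinSimpleOddOrder G) {M : Subgroup G} (hM : IsCoatom M) {x g : G}
    (hx : x ∈ sigmaCore M) (hgx : g * x * g⁻¹ ∈ M) : ∃ m ∈ M, m * x * m⁻¹ = g * x * g⁻¹ := by
  by_cases hx1 : x = 1
  · exact ⟨1, M.one_mem, by rw [hx1]; group⟩
  obtain ⟨-, R, -, hRc, hR⟩ := Cfsg.Agent.S1374.result hG M hM x hx hx1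
  have h1 : x ∈ M.map (MulAut.conj g⁻¹).toMonoidHom := by
    rw [mem_map_conj, inv_inv]
    exact hgx
  obtain ⟨r, ⟨hrR, hr⟩, -⟩ := hR g⁻¹ h1
  have h2 : cj (g * r) M = M := by
    rw [← cj_cj, show cj r M = cj g⁻¹ M from hr, cj_cj_inv]
  refine ⟨g * r, MS_mem_of_cj_eq hG hM h2, ?_⟩
  have h3 : x * r = r * x := (mem_centralizer_iff.1 (hRc.2.1 hrR)) x (Set.mem_singleton _)
  calc g * r * x * (g * r)⁻¹ = g * (r * x) * r⁻¹ * g⁻¹ := by group
    _ = g * (x * r) * r⁻¹ * g⁻¹ := by rw [h3]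
    _ = g * x * g⁻¹ := by group

theorem pCoreOf_sylow_of_nilpotent {H : Subgroup G} (hnil : Group.IsNilpotent H) (r : ℕ)
    [Fact r.Prime] : IsSylowIn r (pCoreOf r H) H := by
  obtain ⟨P, hP, -⟩ := exists_isSylowIn_ge (bot_le : (⊥ : Subgroup G) ≤ H) (IsPGroup.of_bot (p := r))
  have h2 : P ≤ pCoreOf r H := by
    intro x hx
    obtain ⟨n, hn⟩ := hP.2.1 ⟨x, hx⟩
    exact mem_pCoreOf_of_mem_fittingOf
      (Cfsg.Agent.Lib.Helper72.le_fittingOf le_rfl le_normalizer hnil (hP.1 hx)) (n := n)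
      (by simpa using congrArg Subtype.val hn)
  have h3 := hP.eq_of_le (Cfsg.Agent.Lib.Helper47.pCoreOf_le H)
    (Cfsg.Agent.Lib.Helper47.pCoreOf_isPGroup H) h2
  rw [← h3]
  exact hP

/-- a Sylow subgroup of a Hall subgroup -/
theorem isSylowIn_of_hall {H S R : Subgroup G} {r : ℕ} [hr : Fact r.Prime] (hHS : H ≤ S)
    (hHall : (Nat.card H).Coprime (H.relIndex S)) (hd : r ∣ Nat.card H) (hR : IsSylowIn r R H) :
    IsSylowIn r R S := by
  refine ⟨hR.1.trans hHS, hR.2.1, ?_⟩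
  rw [← relIndex_mul_relIndex R H S hR.1 hHS]
  apply hr.out.not_dvd_mul hR.2.2
  intro h2
  have := Nat.dvd_gcd hd h2
  rw [hHall] at this
  exact hr.out.one_lt.ne' (Nat.dvd_one.1 this)

/-- the normalizer of a nilpotent Hall subgroup of `M_σ` lies in `M` -/
theorem normalizer_hall_le (hG : IsMinSimpleOddOrder G) {M H : Subgroup G} (hM : IsCoatom M)
    (hH : H ≤ sigmaCore M) (hH1 : H ≠ ⊥)
    (hHall : (Nat.card H).Coprime (H.relIndex (sigmaCore M))) (hnil : Group.IsNilpotent H) :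
    normalizer (H : Set G) ≤ M := by
  have hU := ut hG
  have hc1 : Nat.card H ≠ 1 := fun h => hH1 ((card_eq_one (H := H)).1 h)
  have hr := Nat.minFac_prime hc1
  have hd : (Nat.card H).minFac ∣ Nat.card H := Nat.minFac_dvd _
  set r := (Nat.card H).minFac with hrdef
  haveI : Fact r.Prime := ⟨hr⟩
  have hσ : r ∈ sigma M := sc_primes M hr (hd.trans (card_dvd_of_le hH))
  have h1 := isSylowIn_of_hall hH hHall hd (pCoreOf_sylow_of_nilpotent hnil r)
  have h2 := sc_sylow hG hU hM hσ h1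
  exact (Cfsg.Agent.Lib.Helper47.normalizer_le_normalizer_pCoreOf H).trans
    (sigma_normalizer_le hσ h2)

theorem hall_index_coprime (hG : IsMinSimpleOddOrder G) {M H : Subgroup G} (hM : IsCoatom M)
    (hH : H ≤ sigmaCore M) (hHall : (Nat.card H).Coprime (H.relIndex (sigmaCore M))) :
    (Nat.card H).Coprime H.index := by
  have hU := ut hG
  rw [← relIndex_mul_index hH]
  apply Nat.Coprime.mul_right hHall
  apply Nat.coprime_of_dvd
  intro p hp h1 h2
  have hσ : p ∈ sigma M := sc_primes M hp (h1.trans (card_dvd_of_le hH))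
  exact (piCoreOf_hall hG hU hM (sigma M) (fun _ h => alpha_subset_sigma hG hU hM h)
    subset_rfl).2.2 p hp hσ h2

/-- a normal Hall subgroup of `S ⊴ M` is normal in `M` -/
theorem le_normalizer_of_normal_hall {M S H : Subgroup G} (hSn : M ≤ normalizer (S : Set G))
    (hHS : H ≤ S) (hHn : S ≤ normalizer (H : Set G))
    (hHall : (Nat.card H).Coprime (H.relIndex S)) : M ≤ normalizer (H : Set G) := by
  apply le_normalizer_of_conj_mem
  intro m hm h hh
  have h1 : m * h * m⁻¹ ∈ S := conj_mem_of_le_normalizer hSn hm (hHS hh)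
  have h2 := BG16.pow_relIndex_mem hHS hHn h1
  refine BG16.mem_of_pow_mem_of_coprime hHall ?_ h2
  rw [conj_pow]
  have h3 : h ^ Nat.card H = 1 := by
    have := pow_card_eq_one' (G := H) (x := ⟨h, hh⟩)
    exact congrArg Subtype.val this
  rw [h3]
  simp

namespace C152

variable {M S K : Subgroup G} {q : ℕ} [hqF : Fact q.Prime]

/-- a non-nilpotent Hall subgroup of `S` is normal in `M` -/
theorem hall_normal (h : C152 M S K q) {H : Subgroup G} (hHS : H ≤ S)
    (hHall : (Nat.card H).Coprime (H.relIndex S)) (hnn : ¬ Group.IsNilpotent H) :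
    M ≤ normalizer (H : Set G) := by
  have hq := hqF.out
  -- `q` divides `|H|`
  have hd : q ∣ Nat.card H := by
    by_contra hnd
    obtain ⟨D', hD', -, hHD'⟩ := (Cfsg.Agent.S3745.result ⊥ S bot_le (by simp) h.solvS
      {p | p ≠ q}).2.2 H hHS bot_le (by
        intro r hr hrd hrq
        have hrq' : r = q := hrq
        rw [hrq'] at hrd
        exact hnd hrd)
    exact hnn (Cfsg.Agent.Lib.Helper25.isNilpotent_of_le' hHD'
      (h.main.2.2.2.2 D' (h.compl_of_hall hD')).1)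
  -- `Q ≤ H`
  have hQH : pCoreOf q M ≤ H := by
    obtain ⟨R, hR, -⟩ := exists_isSylowIn_ge (bot_le : (⊥ : Subgroup G) ≤ H)
      (IsPGroup.of_bot (p := q))
    have hR' := isSylowIn_of_hall hHS hHall hd hR
    have h1 : R ≤ pCoreOf q M :=
      le_of_normal_of_not_dvd h.Q_le (h.compl.1.trans h.QM) h.Q_syl hR'.1 hR'.2.1
    rw [← hR'.eq_of_le h.Q_le h.Qp h1]
    exact hR.1
  obtain ⟨D, hD, hKD⟩ := h.exists_inv
  have hDn := h.nilD hD hKD
  have hc : IsComplIn (pCoreOf q M) (H ⊓ D) H := by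
    refine ⟨hQH, inf_le_left, ?_, ?_⟩
    · rw [eq_bot_iff, ← hD.2.2.1]
      exact inf_le_inf le_rfl inf_le_right
    · intro x hx
      obtain ⟨a, ha, b, hb, rfl⟩ := hD.2.2.2 x (hHS hx)
      refine ⟨a, ha, b, mem_inf.2 ⟨?_, hb⟩, rfl⟩
      have := H.mul_mem (H.inv_mem (hQH ha)) hx
      simpa using this
  have hcop : (Nat.card ↥(H ⊓ D)).Coprime ((H ⊓ D).relIndex D) := by
    have e1 := Cfsg.Agent.Lib.Helper23.complIn_card_mul hc
    have e2 := Cfsg.Agent.Lib.Helper23.complIn_card_mul hD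
    have e3 := Cfsg.Agent.Lib.Helper23.card_mul_relIndex hHS
    have e4 := Cfsg.Agent.Lib.Helper23.card_mul_relIndex (inf_le_right : H ⊓ D ≤ D)
    have e5 : (H ⊓ D).relIndex D = H.relIndex S := by
      have : Nat.card (pCoreOf q M) * Nat.card ↥(H ⊓ D) * (H ⊓ D).relIndex D =
          Nat.card (pCoreOf q M) * Nat.card ↥(H ⊓ D) * H.relIndex S := by
        rw [mul_assoc, e4, e2, e1, e3]
      exact Nat.eq_of_mul_eq_mul_left (Nat.mul_pos Nat.card_pos Nat.card_pos) this
    rw [e5]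
    exact Nat.Coprime.coprime_dvd_left (card_dvd_of_le inf_le_left) hHall
  have hDD : D ≤ normalizer ((H ⊓ D : Subgroup G) : Set G) :=
    le_normalizer.trans
      (Cfsg.Agent.Lib.Helper68.BG121.normalizer_le_normalizer_of_hall_nilpotent inf_le_right hDn hcop)
  have hSH : S ≤ normalizer (H : Set G) := by
    rw [← h.sup_QD hD]
    apply sup_le (hQH.trans le_normalizer)
    apply le_normalizer_of_conj_mem
    intro d hd x hx
    obtain ⟨a, ha, b, hb, rfl⟩ := hc.2.2.2 x hx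
    have h1 : d * (a * b) * d⁻¹ = (d * a * d⁻¹) * (d * b * d⁻¹) := by group
    rw [h1]
    exact mul_mem (hQH (conj_mem_of_le_normalizer h.QM (h.compl.1 (hD.2.1 hd)) ha))
      ((conj_mem_of_le_normalizer hDD hd hb : d * b * d⁻¹ ∈ H ⊓ D)).1
  exact le_normalizer_of_normal_hall h.Sn hHS hSH hHall

end C152

theorem row1438 (hG : IsMinSimpleOddOrder G) (h51 : H1351 G) (h52 : H1352 G) (h73 : H1373 G)
    (h30 : H1430 G) (h31 : H1431 G) : H1438 G := by
  intro M hM H hH hH1 hHall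
  refine ⟨row1438a hG h30 h31 hM hH hH1 hHall, ?_⟩
  intro x hx g hgx
  by_cases hnil : Group.IsNilpotent H
  · obtain ⟨n, hn, hnx⟩ := Cfsg.Agent.S1384.result hG H hnil (hall_index_coprime hG hM hH hHall)
      x hx g hgx
    exact ⟨n, mem_inf.2 ⟨normalizer_hall_le hG hM hH hH1 hHall hnil hn, hn⟩, hnx⟩
  · have hne : fittingHallOf M ≠ sigmaCore M := by
      intro h
      exact hnil (Cfsg.Agent.Lib.Helper25.isNilpotent_of_le' hH
        ((fittingHallOf_eq_sc_iff hG (ut hG) hM).1 h))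
    obtain ⟨K, U, hKU⟩ := exists_decomp h51 h52 hM
    obtain ⟨hUb, hq, hc⟩ := cfg_of_ne hG h73 h30 hM hKU hne
    haveI hqF : Fact (Nat.card ↥(sigmaCore M ⊓ centralizer (K : Set G))).Prime := ⟨hq⟩
    have hMH := hc.hall_normal hH hHall hnil
    obtain ⟨m, hm, hmx⟩ := fusion_in_M hG hM (hH hx) (sc_le M (hH hgx))
    exact ⟨m, mem_inf.2 ⟨hm, hMH hm⟩, hmx⟩

end Cfsg.Agent.Lib.Helper23U
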