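import Cfsg.Agent.Lib.Helper23.BGU7
import Cfsg.Agent.Lib.Helper48.FF1
import Cfsg.Agent.Lib.Helper1.FrobComplement

/-!
# Row S1364 from rows S1354 S1366 S1368 S1373 S1430 S1431 (helper23)
-/

set_option autoImplicit false
set_option linter.unusedVariables false
set_option linter.unusedSimpArgs false
set_option linter.unusedSectionVars false
set_option linter.deprecated false
set_option linter.style.haveILetI false

namespace Cfsg.Agent.Lib.Helper23U

open Cfsg Subgroup
open Cfsg.Agent.Lib.Helper24 Cfsg.Agent.Lib.Helper34 Cfsg.Agent.Lib.Helper31.BG11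
open Cfsg.Agent.Lib.Helper34.BGRows
open scoped commutatorElement Pointwise

universe u

variable {G : Type u} [Group G] [Finite G]

theorem isCyclic_of_le {A B : Subgroup G} (h : A ≤ B) (hB : IsCyclic B) : IsCyclic A := by
  haveI := hB
  exact isCyclic_of_surjective (subgroupOfEquivOfLe h) (MulEquiv.surjective _)

theorem exists_order_p {p : ℕ} [hp : Fact p.Prime] {H : Subgroup G} (hH : IsPGroup p H)
    (h1 : H ≠ ⊥) : ∃ w ∈ H, orderOf w = p := by
  obtain ⟨n, hn⟩ := IsPGroup.iff_card.1 hH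
  have hn0 : n ≠ 0 := by
    rintro rfl
    rw [pow_zero] at hn
    exact h1 ((card_eq_one (H := H)).1 hn)
  have hd : p ∣ Nat.card H := by
    rw [hn]
    exact dvd_pow_self p hn0
  obtain ⟨w, hw⟩ := exists_prime_orderOf_dvd_card' (G := H) p hd
  exact ⟨w, w.2, by rw [← hw, Subgroup.orderOf_coe]⟩

/-- a `p'`-group acting on a cyclic `p`-group and fixing a nontrivial element acts trivially -/
theorem centralizes_cyclic_pgroup {p : ℕ} [hp : Fact p.Prime] {P K : Subgroup G}
    (hP : IsPGroup p P) (hPc : IsCyclic P) (hKP : K ≤ normalizer (P : Set G))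
    (hcop : (Nat.card K).Coprime p) {z : G} (hzP : z ∈ P) (hz1 : z ≠ 1)
    (hzK : z ∈ centralizer (K : Set G)) : P ≤ centralizer (K : Set G) := by
  rw [← commutator_eq_bot_iff_le_centralizer]
  by_contra hC
  have hCP : ⁅P, K⁆ ≤ P := by
    rw [commutator_le]
    intro a ha k hk
    rw [commutatorElement_def]
    have h1 := conj_mem_of_le_normalizer hKP hk (inv_mem ha)
    have h2 := mul_mem ha h1
    simpa [mul_assoc] using h2
  have hab : IsMulCommutative P := by
    obtain ⟨g, hg⟩ := IsCyclic.exists_generator (α := P)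
    refine ⟨⟨fun a b => ?_⟩⟩
    obtain ⟨i, hi⟩ := mem_zpowers_iff.1 (hg a)
    obtain ⟨j, hj⟩ := mem_zpowers_iff.1 (hg b)
    rw [← hi, ← hj, ← zpow_add, ← zpow_add, add_comm]
  have h0 : ⁅P, K⁆ ⊓ centralizer (K : Set G) = ⊥ := by
    apply Cfsg.Agent.Lib.Helper48.commutator_inf_centralizer_eq_bot hab hKP
    intro v hv hvK
    obtain ⟨n, hn⟩ := hP ⟨v, hv⟩
    have hn' : v ^ p ^ n = 1 := by simpa using congrArg Subtype.val hn
    exact Cfsg.Agent.Lib.Helper23.eq_one_of_pow_coprime (Nat.Coprime.pow_right n hcop) hvK hn'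
  obtain ⟨w, hw, hwp⟩ := exists_order_p (hP.to_le hCP) hC
  have hzle : zpowers z ≤ P := by rw [zpowers_le]; exact hzP
  obtain ⟨z', hz', hz'p⟩ := exists_order_p (hP.to_le hzle)
    (by rw [Ne, zpowers_eq_bot]; exact hz1)
  have hwle : zpowers w ≤ P := by rw [zpowers_le]; exact hCP hw
  have hz'le : zpowers z' ≤ P := by rw [zpowers_le]; exact hzle hz'
  have heq : (zpowers w).subgroupOf P = (zpowers z').subgroupOf P := by
    haveI := hPc
    apply Cfsg.Agent.Lib.Helper1.FrobComplement.eq_of_card_eq_of_isCyclic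
    rw [Nat.card_congr (subgroupOfEquivOfLe hwle).toEquiv,
      Nat.card_congr (subgroupOfEquivOfLe hz'le).toEquiv, Nat.card_zpowers, Nat.card_zpowers, hwp,
      hz'p]
  have h3 : z' ∈ zpowers w := by
    have h4 : (⟨z', hz'le (mem_zpowers z')⟩ : P) ∈ (zpowers z').subgroupOf P :=
      mem_subgroupOf.2 (mem_zpowers z')
    rw [← heq] at h4
    exact mem_subgroupOf.1 h4
  have h5 : z' ∈ ⁅P, K⁆ ⊓ centralizer (K : Set G) := by
    refine mem_inf.2 ⟨?_, ?_⟩
    · exact (zpowers_le.2 hw) h3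
    · exact (zpowers_le.2 hzK) hz'
  rw [h0, mem_bot] at h5
  rw [h5, orderOf_one] at hz'p
  exact hp.out.one_lt.ne hz'p

theorem pCoreOf_le_fittingHallOf_of_dvd {M : Subgroup G} {p : ℕ} [hp : Fact p.Prime]
    (hd : p ∣ Nat.card (fittingHallOf M)) : pCoreOf p M ≤ fittingHallOf M := by
  have hnd : ¬ p ∣ (fittingHallOf M).relIndex M := by
    intro h
    have := Nat.dvd_gcd hd h
    rw [fittingHallOf_coprime M] at this
    exact hp.out.one_lt.ne' (Nat.dvd_one.1 this)
  exact le_of_normal_of_not_dvd (Cfsg.Agent.Lib.Helper23.fittingHallOf_le M) (fittingHallOf_norm M)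
    hnd (Cfsg.Agent.Lib.Helper47.pCoreOf_le M) (Cfsg.Agent.Lib.Helper47.pCoreOf_isPGroup M)

/-- `K* ≤ M_F` -/
theorem Ks_le_fittingHallOf (hG : IsMinSimpleOddOrder G) (h73 : H1373 G) (h30 : H1430 G)
    {M K U : Subgroup G} (hM : IsCoatom M) (hKU : IsSigmaDecomposition M K U) :
    sigmaCore M ⊓ centralizer (K : Set G) ≤ fittingHallOf M := by
  by_cases hne : fittingHallOf M = sigmaCore M
  · rw [hne]
    exact inf_le_left
  · obtain ⟨hUb, hq, hc⟩ := cfg_of_ne hG h73 h30 hM hKU hne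
    haveI : Fact (Nat.card ↥(sigmaCore M ⊓ centralizer (K : Set G))).Prime := ⟨hq⟩
    exact hc.Ks_le.trans hc.Q_le_fittingHallOf

theorem row1364 (hG : IsMinSimpleOddOrder G) (h54 : H1354 G) (h66 : H1366 G) (h68 : H1368 G)
    (h73 : H1373 G) (h30 : H1430 G) (h31 : H1431 G) : H1364 G := by
  intro M hM K U hKU hK1
  have hne := (h54 M hM K hKU.cyclic hKU.hall).1
  have hF := Ks_le_fittingHallOf hG h73 h30 hM hKU
  refine ⟨?_, hne, hF, ?_⟩
  · obtain ⟨Ms, ⟨hMs, h1, h2⟩, -⟩ := h66 M hM K U hKU hK1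
    exact isCyclic_of_le le_sup_right (h68 M hM K U hKU hK1 Ms hMs h1 h2).2
  · intro hcyc
    set Ks := sigmaCore M ⊓ centralizer (K : Set G) with hKs
    have h1 : Nat.card Ks ≠ 1 := fun h => hne ((card_eq_one (H := Ks)).1 h)
    have hp := Nat.minFac_prime h1
    have hd : (Nat.card Ks).minFac ∣ Nat.card Ks := Nat.minFac_dvd _
    set p := (Nat.card Ks).minFac with hpdef
    haveI : Fact p.Prime := ⟨hp⟩
    have hdF : p ∣ Nat.card (fittingHallOf M) := hd.trans (card_dvd_of_le hF)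
    have hS := pCoreOf_sylow_of_dvd hdF
    have hPF := pCoreOf_le_fittingHallOf_of_dvd hdF
    have hPσ : pCoreOf p M ≤ sigmaCore M := hPF.trans (fittingHallOf_le_sc hG hM)
    obtain ⟨z, hz⟩ := exists_prime_orderOf_dvd_card' (G := Ks) p hd
    have hzo : orderOf (z : G) = p := by rw [← hz, Subgroup.orderOf_coe]
    have hz1 : (z : G) ≠ 1 := by
      intro h
      rw [h, orderOf_one] at hzo
      exact hp.one_lt.ne hzo
    have hzP : (z : G) ∈ pCoreOf p M := by
      have h2 : zpowers (z : G) ≤ pCoreOf p M := by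
        apply le_of_normal_of_not_dvd hS.1 (Cfsg.Agent.Lib.Helper47.le_normalizer_pCoreOf M) hS.2.2
        · rw [zpowers_le]
          exact sc_le M (mem_inf.1 z.2).1
        · apply IsPGroup.of_card (n := 1)
          rw [Nat.card_zpowers, hzo, pow_one]
      exact h2 (mem_zpowers _)
    have hcop : (Nat.card K).Coprime p :=
      (Nat.Coprime.coprime_dvd_left (hd.trans (card_dvd_of_le inf_le_left))
        (cop_sc_kappa hKU.hall)).symm
    have hcent := centralizes_cyclic_pgroup hS.2.1 (isCyclic_of_le hPF hcyc)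
      (hKU.hall.1.trans (Cfsg.Agent.Lib.Helper47.le_normalizer_pCoreOf M)) hcop hzP hz1
      (mem_inf.1 z.2).2
    have hS' : IsSylowIn p (pCoreOf p M) (sigmaCore M) := hS.of_le hPσ (sc_le M)
    have h3 := ((h31 M hM K hKU.hall hK1).2.2.1 p hp hd hS'.toSylow).2.2
    apply h3
    rw [hS'.coe_toSylow, map_subgroupOf_eq_of_le hPσ]
    exact le_inf hPσ hcent

end Cfsg.Agent.Lib.Helper23U
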