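/-
Helper library (helper23): a `p`-group acting on an elementary abelian group of order `p ^ 2`
(used for Bender–Glauberman 12.7).
-/
import Cfsg.Agent.Lib.Helper23.BGT2
import Cfsg.Agent.Lib.Helper23.R2a

set_option autoImplicit false
set_option linter.unusedSectionVars false
set_option linter.unusedVariables false

namespace Cfsg.Agent.Lib.Helper23T

open Subgroup Cfsg
open Cfsg.Agent.Lib
open Cfsg.Agent.Lib.Helper24 Cfsg.Agent.Lib.Helper34 Cfsg.Agent.Lib.Helper31.BG11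
open Cfsg.Agent.Lib.Helper23R
open scoped commutatorElement

universe u

variable {G : Type u} [Group G] [Finite G]

/-- a `p`-group `T` normalizing `A ≤ T` elementary abelian of order `p ^ 2`: there is a central line `Z` of `A`
with `[A, T] ≤ Z`. -/
theorem pp_action {p : ℕ} [Fact p.Prime] {T A : Subgroup G} (hT : IsPGroup p T) (hAT : A ≤ T)
    (hTA : T ≤ normalizer (A : Set G)) (hAe : IsElementaryAbelian p A) (hAc : Nat.card A = p ^ 2) :
    ∃ Z : Subgroup G, Z ≤ A ∧ Nat.card Z = p ∧ Z ≤ centralizer (T : Set G) ∧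
      ∀ a ∈ A, ∀ g ∈ T, ⁅a, g⁆ ∈ Z := by
  have hpp : p.Prime := Fact.out
  have hA1 : ¬ A ≤ ⊥ := by
    intro h
    rw [le_bot_iff] at h
    rw [h, card_bot] at hAc
    have := hpp.one_lt
    nlinarith
  obtain ⟨z, hzA, hz1, hzc⟩ := exists_central_mod hT.isNilpotent hAT hTA hA1
  rw [mem_bot] at hz1
  have hzcard : Nat.card (zpowers z) = p := by
    rw [Nat.card_zpowers]; exact orderOf_eq_prime (hAe.2 z hzA) hz1
  have hzA' : zpowers z ≤ A := zpowers_le.2 hzA
  have hzC : zpowers z ≤ centralizer (T : Set G) := by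
    rw [zpowers_le, mem_centralizer_iff]
    intro g hg
    exact (commutatorElement_eq_one_iff_mul_comm.1 (mem_bot.1 (hzc g hg))).symm
  have hA2 : ¬ A ≤ zpowers z := by
    intro h
    have h1 := card_le_of_le h
    rw [hAc, hzcard] at h1
    have := hpp.one_lt
    nlinarith
  obtain ⟨f, hfA, hfz, hfc⟩ := exists_central_mod hT.isNilpotent hAT hTA hA2
  have hAcomm : ∀ a ∈ A, ∀ b ∈ A, a * b = b * a := fun a ha b hb =>
    congrArg Subtype.val (hAe.1.is_comm.comm ⟨a, ha⟩ ⟨b, hb⟩)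
  have hAn : A ≤ normalizer ((zpowers z : Subgroup G) : Set G) := by
    intro a ha
    rw [mem_normalizer_iff]
    intro x
    constructor
    · intro hx
      rw [hAcomm a ha x (hzA' hx), mul_inv_cancel_right]; exact hx
    · intro hx
      have h1 : x ∈ A := by
        have := A.mul_mem (A.mul_mem (A.inv_mem ha) (hzA' hx)) ha
        simpa [mul_assoc] using this
      rw [hAcomm a ha x h1, mul_inv_cancel_right] at hx; exact hx
  refine ⟨zpowers z, hzA', hzcard, hzC, ?_⟩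
  intro a ha g hg
  obtain ⟨i, n, hn, rfl⟩ := exists_pow_mul_of_card hpp hzA' (by rw [hAc, hzcard, sq]) hfA hfz
    (hAn hfA) a ha
  have h1 : ⁅f ^ i * n, g⁆ = f ^ i * ⁅n, g⁆ * (f ^ i)⁻¹ * ⁅f ^ i, g⁆ := by
    simp only [commutatorElement_def]; group
  have h2 : ⁅n, g⁆ = 1 := by
    rw [commutatorElement_eq_one_iff_mul_comm]
    exact ((mem_centralizer_iff.1 (hzC hn)) g hg).symm
  rw [h1, h2, mul_one, mul_inv_cancel, one_mul]
  exact comm_pow_left_mem (hAn hfA) (hfc g hg) i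

/-- the lines of `A` different from the line `Z = C_A(t)` are conjugate under `⟨t⟩`. -/
theorem lines_conj {p : ℕ} [Fact p.Prime] {A Z X Y : Subgroup G} {t : G}
    (hAe : IsElementaryAbelian p A) (hAc : Nat.card A = p ^ 2) (hZA : Z ≤ A) (hZc : Nat.card Z = p)
    (hZt : ∀ z ∈ Z, Commute z t) (hAt : ∀ a ∈ A, ⁅t, a⁆ ∈ Z) (hCt : ∀ a ∈ A, Commute a t → a ∈ Z)
    (hXA : X ≤ A) (hXc : Nat.card X = p) (hXZ : X ≠ Z) (hYA : Y ≤ A) (hYc : Nat.card Y = p)
    (hYZ : Y ≠ Z) : ∃ i : ℕ, Y = cj (t ^ i) X := by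
  have hpp : p.Prime := Fact.out
  have hAcomm : ∀ a ∈ A, ∀ b ∈ A, a * b = b * a := fun a ha b hb =>
    congrArg Subtype.val (hAe.1.is_comm.comm ⟨a, ha⟩ ⟨b, hb⟩)
  obtain ⟨x, hx, hx1⟩ := exists_ne_one_of_card_prime hpp hXc
  obtain ⟨y, hy, hy1⟩ := exists_ne_one_of_card_prime hpp hYc
  have hxZ : x ∉ Z := fun h => hXZ (by
    rw [eq_zpowers_of_card_prime hpp hXc hx hx1, eq_zpowers_of_card_prime hpp hZc h hx1])
  have hyZ : y ∉ Z := fun h => hYZ (by
    rw [eq_zpowers_of_card_prime hpp hYc hy hy1, eq_zpowers_of_card_prime hpp hZc h hy1])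
  have hAn : A ≤ normalizer (Z : Set G) := by
    intro a ha
    rw [mem_normalizer_iff]
    intro x
    constructor
    · intro hx
      rw [hAcomm a ha x (hZA hx), mul_inv_cancel_right]; exact hx
    · intro hx
      have h1 : x ∈ A := by
        have := A.mul_mem (A.mul_mem (A.inv_mem ha) (hZA hx)) ha
        simpa [mul_assoc] using this
      rw [hAcomm a ha x h1, mul_inv_cancel_right] at hx; exact hx
  obtain ⟨i, n, hn, hyi⟩ := exists_pow_mul_of_card hpp hZA (by rw [hAc, hZc, sq]) (hXA hx) hxZ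
    (hAn (hXA hx)) y (hYA hy)
  set x' := x ^ i with hx'
  have hx'X : x' ∈ X := X.pow_mem hx i
  have hx'Z : x' ∉ Z := by
    intro h
    apply hyZ
    rw [hyi]; exact Z.mul_mem h hn
  have hc1 : ⁅t, x'⁆ ≠ 1 := by
    intro h
    rw [commutatorElement_eq_one_iff_mul_comm] at h
    exact hx'Z (hCt x' (hXA hx'X) h.symm)
  obtain ⟨k, hk⟩ := exists_pow_of_card_prime hpp hZc (hAt x' (hXA hx'X)) hc1 n hn
  have h1 := conj_pow_left (conj_eq_comm_mul t x') (hZt _ (hAt x' (hXA hx'X))) k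
  refine ⟨k, ?_⟩
  have h2 : y ∈ cj (t ^ k) X := by
    refine ⟨x', hx'X, ?_⟩
    show t ^ k * x' * (t ^ k)⁻¹ = y
    rw [h1, hyi, hk]
    exact hAcomm _ (A.pow_mem (hZA (hAt x' (hXA hx'X))) k) _ (hXA hx'X)
  have h3 : Nat.card (cj (t ^ k) X) = p := by
    rw [← hXc]; exact card_map_conj _ _
  rw [eq_zpowers_of_card_prime hpp hYc hy hy1, eq_zpowers_of_card_prime hpp h3 h2 hy1]

end Cfsg.Agent.Lib.Helper23T
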