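/-
Helper library (helper23): Bender–Glauberman 12.7 (`p ∈ τ₂(M)` with nonabelian Sylow `p`-subgroups of `G`),
relative to the statements of S1414, S1417, S1418 taken as hypotheses.
-/
import Cfsg.Agent.Lib.Helper23.BGT3
import Cfsg.Agent.Lib.Helper34.BG13a
import Cfsg.Agent.Lib.Helper10.BG124
import Cfsg.Agent.Lib.Helper11.EA
import Cfsg.Agent.Lib.Helper72.BG37b
import Cfsg.Agent.S1453

set_option autoImplicit false
set_option linter.unusedSectionVars false
set_option linter.unusedVariables false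

namespace Cfsg.Agent.Lib.Helper23T

open Subgroup Cfsg
open Cfsg.Agent.Lib
open Cfsg.Agent.Lib.Helper24 Cfsg.Agent.Lib.Helper34 Cfsg.Agent.Lib.Helper31.BG11
open Cfsg.Agent.Lib.Helper23R
open scoped commutatorElement

universe u

variable {G : Type u} [Group G] [Finite G]

/-- the configuration of BG 12.7 -/
structure D127 (M A : Subgroup G) (p : ℕ) (S Z : Subgroup G) (t : G) : Prop where
  hS : IsSylowIn p S ⊤
  hAS : A ≤ S
  hSM : ∀ g ∈ S, g ∈ M → ∀ a ∈ A, g * a = a * g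
  hSMp : ∀ g ∈ S, g ∈ M → g ^ p = 1 → g ∈ A
  htS : t ∈ S
  htM : t ∉ M
  htA : t ∈ normalizer (A : Set G)
  hZA : Z ≤ A
  hZc : Nat.card Z = p
  hZS : Z ≤ centralizer (S : Set G)
  hAt : ∀ a ∈ A, ⁅t, a⁆ ∈ Z
  hCt : ∀ a ∈ A, Commute a t → a ∈ Z
  hNS : normalizer (S : Set G) ≤ normalizer (Z : Set G)
  hSyl : IsSylowIn p (S ⊓ M) M

theorem exists_D127 (hG : IsMinSimpleOddOrder G) (hU : UT G) (h17 : H1417 G) {M : Subgroup G}
    (hM : IsCoatom M) {p : ℕ} [Fact p.Prime] (hp : p ∈ tau2 M)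
    (hS : ∀ S : Sylow p G, ¬ IsMulCommutative (S : Subgroup G)) {A : Subgroup G}
    (hA : A ≤ M ∧ IsElementaryAbelian p A ∧ Nat.card A = p ^ 2)
    (hCA : centralizer (A : Set G) ≤ M) : ∃ (S : Sylow p G) (Z : Subgroup G) (t : G), D127 M A p S Z t := by
  have hpp : p.Prime := Fact.out
  have hApg : IsPGroup p A := isPGroup_of_exponent hA.2.1.2
  have hAcomm : ∀ a ∈ A, ∀ b ∈ A, a * b = b * a := fun a ha b hb =>
    congrArg Subtype.val (hA.2.1.1.is_comm.comm ⟨a, ha⟩ ⟨b, hb⟩)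
  obtain ⟨P, hP, hAP⟩ := exists_isSylowIn_ge hA.1 hApg
  obtain ⟨S, hPS⟩ := hP.2.1.exists_le_sylow
  have hStop : IsSylowIn p (S : Subgroup G) ⊤ := Sylow.isSylowIn_top S
  have h17' := (h17 M hM p hp A hA).2.1 hP.toSylow
  have hmap : ((hP.toSylow : Subgroup M)).map M.subtype = P := by
    rw [hP.coe_toSylow, subgroupOf_map_subtype, inf_eq_left]; exact hP.1
  rw [hmap] at h17'
  obtain ⟨hΩ, -⟩ := h17'.2 hAP
  have hPcomm := commute_of_isPGroup hG hU h17 hM hp.2.1 hP.1 hP.2.1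
  have hSMP : (S : Subgroup G) ⊓ M = P :=
    (hP.eq_of_le inf_le_right (S.2.to_le inf_le_left) (le_inf hPS hP.1)).symm
  have hne : P ≠ (S : Subgroup G) := by
    intro h
    apply hS S
    rw [← h]
    exact ⟨⟨fun a b => Subtype.ext (hPcomm a a.2 b b.2)⟩⟩
  obtain ⟨t, htS, htN, htP⟩ := exists_mem_normalizer_not_mem S.2.isNilpotent (lt_of_le_of_ne hPS hne)
  have htM : t ∉ M := fun h => htP (hSMP ▸ mem_inf.2 ⟨htS, h⟩)
  have htA : t ∈ normalizer (A : Set G) := by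
    rw [mem_normalizer_iff]
    intro x
    constructor
    · intro hx
      have h1 : t * x * t⁻¹ ∈ P := (mem_normalizer_iff.1 htN x).1 (hAP hx)
      rw [← hΩ _ h1, conj_pow, hA.2.1.2 x hx, mul_one, mul_inv_cancel]
    · intro hx
      have h1 : x ∈ P := (mem_normalizer_iff.1 htN x).2 (hAP hx)
      rw [← hΩ _ h1]
      have h2 := hA.2.1.2 _ hx
      rw [conj_pow] at h2
      exact conj_eq_one_iff.1 h2
  have hAS : A ≤ (S : Subgroup G) := hAP.trans hPS
  obtain ⟨Z, hZA, hZc, hZT, hcomm⟩ := pp_action (T := (S : Subgroup G) ⊓ normalizer (A : Set G))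
    (S.2.to_le inf_le_left) (le_inf hAS le_normalizer) inf_le_right hA.2.1 hA.2.2
  have htT : t ∈ (S : Subgroup G) ⊓ normalizer (A : Set G) := mem_inf.2 ⟨htS, htA⟩
  have hZt : ∀ z ∈ Z, Commute z t := fun z hz => ((mem_centralizer_iff.1 (hZT hz)) t htT).symm
  have hAn : A ≤ normalizer (Z : Set G) := by
    intro a ha
    rw [mem_normalizer_iff]
    intro x
    constructor
    · intro hx
      rw [hAcomm a ha x (hZA hx), mul_inv_cancel_right]; exact hx
    · intro hx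
      have h1 : x ∈ A := by
        have := A.mul_mem (A.mul_mem (A.inv_mem ha) (hZA hx)) ha
        simpa [mul_assoc] using this
      rw [hAcomm a ha x h1, mul_inv_cancel_right] at hx; exact hx
  have hCt : ∀ a ∈ A, Commute a t → a ∈ Z := by
    intro a ha hat
    by_contra haZ
    apply htM
    apply hCA
    rw [mem_centralizer_iff]
    intro b hb
    obtain ⟨i, n, hn, rfl⟩ := exists_pow_mul_of_card hpp hZA (by rw [hA.2.2, hZc, sq]) ha haZ
      (hAn ha) b hb
    exact ((hat.pow_left i).mul_left (hZt n hn)).eq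
  have hcen : ∀ x ∈ (S : Subgroup G), x ∈ centralizer ((S : Subgroup G) : Set G) → x ^ p = 1 → x ∈ Z := by
    intro x hxS hxC hxp
    have h1 : x ∈ M := hCA (centralizer_le hAS hxC)
    have h2 : x ∈ P := hSMP ▸ mem_inf.2 ⟨hxS, h1⟩
    exact hCt x ((hΩ x h2).1 hxp) ((mem_centralizer_iff.1 hxC) t htS).symm
  have hS1 : (S : Subgroup G) ≠ ⊥ := by
    intro h
    rw [h] at htS
    exact htM ((mem_bot.1 htS) ▸ M.one_mem)
  obtain ⟨z₁, hz₁S, hz₁C, hz₁1, hz₁p⟩ := exists_central_order_p S.2 hS1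
  have hZeq : Z = zpowers z₁ := eq_zpowers_of_card_prime hpp hZc (hcen z₁ hz₁S hz₁C hz₁p) hz₁1
  have hZS : Z ≤ centralizer ((S : Subgroup G) : Set G) := by
    rw [hZeq, zpowers_le]; exact hz₁C
  refine ⟨S, Z, t, hStop, hAS, ?_, ?_, htS, htM, htA, hZA, hZc, hZS, ?_, hCt, ?_, hSMP ▸ hP⟩
  · intro g hgS hgM a ha
    exact hPcomm g (hSMP ▸ mem_inf.2 ⟨hgS, hgM⟩) a (hAP ha)
  · intro g hgS hgM hgp
    exact (hΩ g (hSMP ▸ mem_inf.2 ⟨hgS, hgM⟩)).1 hgp
  · intro a ha
    exact comm_swap_mem (hcomm a ha t htT)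
  · apply Helper10.BG124.le_normalizer_of_forall_cj_le
    rintro g hg _ ⟨x, hx, rfl⟩
    show g * x * g⁻¹ ∈ Z
    have hxS : x ∈ (S : Subgroup G) := hAS (hZA hx)
    apply hcen
    · exact (mem_normalizer_iff.1 hg x).1 hxS
    · rw [mem_centralizer_iff]
      intro s hs
      have h1 : g⁻¹ * s * g ∈ (S : Subgroup G) := by
        have := (mem_normalizer_iff.1 (inv_mem hg) s).1 hs
        rwa [inv_inv] at this
      have h2 := (mem_centralizer_iff.1 (hZS hx)) _ h1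
      calc s * (g * x * g⁻¹) = g * ((g⁻¹ * s * g) * x) * g⁻¹ := by group
        _ = g * (x * (g⁻¹ * s * g)) * g⁻¹ := by rw [h2]
        _ = g * x * g⁻¹ * s := by group
    · rw [conj_pow, hA.2.1.2 x (hZA hx), mul_one, mul_inv_cancel]

theorem le_normalizer_of_comm {A Z : Subgroup G} (hAcomm : ∀ a ∈ A, ∀ b ∈ A, a * b = b * a)
    (hZA : Z ≤ A) : A ≤ normalizer (Z : Set G) := by
  intro a ha
  rw [mem_normalizer_iff]
  intro x
  constructor
  · intro hx
    rw [hAcomm a ha x (hZA hx), mul_inv_cancel_right]; exact hx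
  · intro hx
    have h1 : x ∈ A := by
      have := A.mul_mem (A.mul_mem (A.inv_mem ha) (hZA hx)) ha
      simpa [mul_assoc] using this
    rw [hAcomm a ha x h1, mul_inv_cancel_right] at hx; exact hx

/-- conjugating a line with nontrivial centralizer in `M_σ` by an element of `N(A) ∖ M`. -/
theorem line_cj (hG : IsMinSimpleOddOrder G) {M A X : Subgroup G} (hM : IsCoatom M) (hAM : A ≤ M)
    (hstar : ∀ Mstar : Subgroup G, IsCoatom Mstar → Mstar ≠ M → A ≤ Mstar → sigmaCore M ⊓ Mstar = ⊥)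
    (hX : centralizer (X : Set G) ≤ M ∧
      ∀ L : Subgroup G, IsCoatom L → centralizer (X : Set G) ≤ L → L = M)
    {g : G} (hgA : g ∈ normalizer (A : Set G)) (hgM : g ∉ M) :
    sigmaCore M ⊓ centralizer ((cj g X : Subgroup G) : Set G) = ⊥ ∧
      ¬ centralizer ((cj g X : Subgroup G) : Set G) ≤ M := by
  constructor
  · have h1 : cj g M ≠ M := fun h => hgM (MS_mem_of_cj_eq hG hM h)
    have h2 : A ≤ cj g M := by
      calc A = cj g A := (map_conj_eq_self_of_mem_normalizer hgA).symm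
        _ ≤ cj g M := cj_mono g hAM
    rw [eq_bot_iff, ← hstar _ (isCoatom_cj hM g) h1 h2, centralizer_map_conj]
    exact inf_le_inf_left _ (cj_mono g hX.1)
  · intro h
    rw [centralizer_map_conj, map_conj_le_iff] at h
    have h1 := hX.2 _ (isCoatom_cj hM g⁻¹) h
    exact hgM (by simpa using M.inv_mem (MS_mem_of_cj_eq hG hM h1))

theorem lines127 (hG : IsMinSimpleOddOrder G) (hU : UT G) {M A S Z : Subgroup G} {t : G} {p : ℕ}
    [Fact p.Prime] (hM : IsCoatom M) (hp : p ∉ sigma M)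
    (hA : A ≤ M ∧ IsElementaryAbelian p A ∧ Nat.card A = p ^ 2) (hD : D127 M A p S Z t)
    (hCA : sigmaCore M ⊓ centralizer (A : Set G) = ⊥)
    (hstar : ∀ Mstar : Subgroup G, IsCoatom Mstar → Mstar ≠ M → A ≤ Mstar → sigmaCore M ⊓ Mstar = ⊥)
    (huniq : ∀ X : Subgroup G, X ≤ A → Nat.card X = p →
      sigmaCore M ⊓ centralizer (X : Set G) ≠ ⊥ → (centralizer (X : Set G) ≤ M ∧
        ∀ L : Subgroup G, IsCoatom L → centralizer (X : Set G) ≤ L → L = M)) :
    Nat.card ↥(A ⊓ centralizer (sigmaCore M : Set G)) = p ∧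
      A ⊓ centralizer (sigmaCore M : Set G) ≠ Z ∧
      ∀ Y : Subgroup G, Y ≤ A → Nat.card Y = p → Y ≠ A ⊓ centralizer (sigmaCore M : Set G) →
        sigmaCore M ⊓ centralizer (Y : Set G) = ⊥ ∧ ¬ centralizer (Y : Set G) ≤ M := by
  have hpp : p.Prime := Fact.out
  have hAcomm : ∀ a ∈ A, ∀ b ∈ A, a * b = b * a := fun a ha b hb =>
    congrArg Subtype.val (hA.2.1.1.is_comm.comm ⟨a, ha⟩ ⟨b, hb⟩)
  have hσ1 := sc_ne_bot hG hU hM
  have hpσ : ¬ p ∣ Nat.card (sigmaCore M) := fun h => hp (sc_primes M hpp h)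
  have hAσ : A ≤ normalizer (sigmaCore M : Set G) := hA.1.trans (sc_norm M)
  have hZt : ∀ z ∈ Z, Commute z t := fun z hz =>
    ((mem_centralizer_iff.1 (hD.hZS hz)) t hD.htS).symm
  have htZ : t ∈ centralizer (Z : Set G) := by
    rw [mem_centralizer_iff]; intro z hz; exact (hZt z hz).eq
  have hZbot : sigmaCore M ⊓ centralizer (Z : Set G) = ⊥ := by
    by_contra h
    exact hD.htM ((huniq Z hD.hZA hD.hZc h).1 htZ)
  have hcz : ∀ a ∈ A, a ≠ 1 → Nat.card (zpowers a) = p := fun a ha ha1 => by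
    rw [Nat.card_zpowers]; exact orderOf_eq_prime (hA.2.1.2 a ha) ha1
  obtain ⟨X, hXA, hXc, hX1⟩ : ∃ X ≤ A, Nat.card X = p ∧
      sigmaCore M ⊓ centralizer (X : Set G) ≠ ⊥ := by
    by_contra hcon
    push Not at hcon
    apply hσ1
    rw [eq_bot_iff]
    apply Helper22.le_of_forall_centralizer_le A (sigmaCore M) ⊥ hAcomm hA.2.1.2 hA.2.2.ge hpσ hAσ
    intro a ha ha1
    have := hcon (zpowers a) (zpowers_le.2 ha) (hcz a ha ha1)
    rw [Helper22.centralizer_zpowers] at this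
    exact this.le
  have hXZ : X ≠ Z := fun h => hX1 (h ▸ hZbot)
  have hXu := huniq X hXA hXc hX1
  have hother : ∀ Y : Subgroup G, Y ≤ A → Nat.card Y = p → Y ≠ X →
      sigmaCore M ⊓ centralizer (Y : Set G) = ⊥ ∧ ¬ centralizer (Y : Set G) ≤ M := by
    intro Y hYA hYc hYX
    by_cases hYZ : Y = Z
    · rw [hYZ]; exact ⟨hZbot, fun h => hD.htM (h htZ)⟩
    obtain ⟨i, rfl⟩ := lines_conj hA.2.1 hA.2.2 hD.hZA hD.hZc hZt hD.hAt hD.hCt hXA hXc hXZ hYA hYc hYZ
    have hti : t ^ i ∉ M := by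
      intro h
      apply hYX
      apply cj_eq_of_mem_centralizer
      rw [mem_centralizer_iff]
      intro x hx
      exact (hD.hSM _ (S.pow_mem hD.htS i) h x (hXA hx)).symm
    exact line_cj hG hM hA.1 hstar hXu (pow_mem hD.htA i) hti
  have hσX : sigmaCore M ≤ centralizer (X : Set G) := by
    apply Helper22.le_of_forall_centralizer_le A (sigmaCore M) _ hAcomm hA.2.1.2 hA.2.2.ge hpσ hAσ
    intro a ha ha1
    by_cases haX : a ∈ X
    · rw [centralizer_eq_of_card_prime hpp hXc haX ha1]; exact inf_le_right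
    · have h1 : zpowers a ≠ X := fun h => haX (h ▸ mem_zpowers a)
      have := (hother _ (zpowers_le.2 ha) (hcz a ha ha1) h1).1
      rw [Helper22.centralizer_zpowers] at this
      rw [this]; exact bot_le
  have hA0 : A ⊓ centralizer (sigmaCore M : Set G) = X := by
    apply le_antisymm
    · intro a ha
      by_contra haX
      obtain ⟨haA, haC⟩ := mem_inf.1 ha
      apply hσ1
      rw [eq_bot_iff, ← hCA]
      refine le_inf le_rfl ?_
      rw [le_centralizer_iff]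
      intro b hb
      obtain ⟨i, n, hn, rfl⟩ := exists_pow_mul_of_card hpp hXA (by rw [hA.2.2, hXc, sq]) haA haX
        (le_normalizer_of_comm hAcomm hXA haA) b hb
      exact mul_mem (pow_mem haC i) (le_centralizer_iff.1 hσX hn)
    · exact le_inf hXA (le_centralizer_iff.1 hσX)
  rw [hA0]
  exact ⟨hXc, hXZ, hother⟩

theorem tau2_127 (hG : IsMinSimpleOddOrder G) (hU : UT G) (h14 : Helper34.BG13.H1414 G)
    (h17 : H1417 G) (h18 : Helper34.BG13.H1418 G)
    {M E A S Z : Subgroup G} {t : G} {p : ℕ} [Fact p.Prime] (hM : IsCoatom M)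
    (h08 : ∀ q : ℕ, q ∈ tau2 M → ¬ IsIdealPrime q G)
    (hE : IsComplIn E (sigmaCore M) M) (hp : p ∈ tau2 M)
    (hA : A ≤ E ∧ IsElementaryAbelian p A ∧ Nat.card A = p ^ 2) (hD : D127 M A p S Z t) :
    tau2 M = {p} := by
  have hpp : p.Prime := Fact.out
  ext q
  simp only [Set.mem_singleton_iff]
  constructor
  swap
  · rintro rfl; exact hp
  intro hq
  by_contra hqp
  have : Fact q.Prime := ⟨hq.1⟩
  obtain ⟨B₀, hB₀M, hB₀e, hB₀c⟩ := exists_elemAb_sq hq.2.2.1 hq.2.2.2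
  obtain ⟨Q, hQ, -⟩ := exists_isSylowIn_ge (p := q) (bot_le : ⊥ ≤ E) IsPGroup.of_bot
  have hQM := Helper34.BG13.compl_sylow hE hq.2.1 hQ
  obtain ⟨n, hn, hle⟩ := hQM.exists_conj_le hB₀M (isPGroup_of_exponent hB₀e.2)
  set B := cj n B₀ with hB
  have hBE : B ≤ E := hle.trans hQ.1
  have hBe : IsElementaryAbelian q B := Helper11.IsElementaryAbelian.map hB₀e _
  have hBc : Nat.card B = q ^ 2 := by rw [hB, card_map_conj]; exact hB₀c
  obtain ⟨⟨hEA, -⟩, ⟨hCAE, hMNA, -⟩, -⟩ := h18 M hM E hE p hp A hA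
  obtain ⟨⟨hEB, hBlines⟩, ⟨hCBE, -, -⟩, -⟩ := h18 M hM E hE q hq B ⟨hBE, hBe, hBc⟩
  have hcop : (Nat.card A).Coprime (Nat.card B) := by
    rw [hA.2.2, hBc]
    exact Nat.Coprime.pow _ _ ((Nat.coprime_primes hpp hq.1).2 (Ne.symm hqp))
  have hAB : A ⊓ B = ⊥ := (disjoint_of_coprime_natCard hcop).eq_bot
  have hcomm : ∀ a ∈ A, ∀ b ∈ B, a * b = b * a := by
    intro a ha b hb
    rw [← commutatorElement_eq_one_iff_mul_comm, ← mem_bot, ← hAB, mem_inf]
    constructor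
    · have h1 := (mem_normalizer_iff.1 (hEA (hBE hb)) a⁻¹).1 (A.inv_mem ha)
      have h2 : ⁅a, b⁆ = a * (b * a⁻¹ * b⁻¹) := by rw [commutatorElement_def]; group
      rw [h2]; exact A.mul_mem ha h1
    · have h1 := (mem_normalizer_iff.1 (hEB (hA.1 ha)) b).1 hb
      rw [commutatorElement_def]; exact B.mul_mem h1 (B.inv_mem hb)
  have htB : ∀ b ∈ B, t * b * t⁻¹ ∈ B := by
    intro b hb
    by_cases hb1 : b = 1
    · rw [hb1, mul_one, mul_inv_cancel]; exact B.one_mem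
    have h1 : t * b * t⁻¹ ∈ centralizer (A : Set G) := by
      have hbC : b ∈ centralizer (A : Set G) := by
        rw [mem_centralizer_iff]; intro a ha; exact hcomm a ha b hb
      have := conj_mem_map_conj (g := t) hbC
      rwa [← centralizer_map_conj, map_conj_eq_self_of_mem_normalizer hD.htA] at this
    have h2 : t * b * t⁻¹ ∈ E := by rw [← hMNA]; exact hCAE h1
    have h3 : Nat.card (zpowers (t * b * t⁻¹)) = q := by
      rw [Nat.card_zpowers]; apply orderOf_eq_prime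
      · rw [conj_pow, hBe.2 b hb, mul_one, mul_inv_cancel]
      · intro h; exact hb1 (conj_eq_one_iff.1 h)
    exact hBlines _ (zpowers_le.2 h2) h3 (mem_zpowers _)
  have hZpg : IsPGroup p Z := IsPGroup.of_card (n := 1) (by rw [hD.hZc, pow_one])
  have hZ1 : Z ≠ ⊥ := by
    intro h
    have := hD.hZc
    rw [h, card_bot] at this
    exact hpp.one_lt.ne this
  obtain ⟨L, hL, hNL⟩ := exists_coatom_ge (MS_normalizer_ne_top hG hZ1 (MS_isPGroup_ne_top hG hZpg))
  have hSL : S ≤ L := le_normalizer.trans (hD.hNS.trans hNL)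
  have hZL : Z ≤ L := (hD.hZA.trans hD.hAS).trans hSL
  have hpL : p ∈ sigma L := mem_sigma_iff.2
    ⟨(hD.hZc ▸ card_dvd_of_le hZL : p ∣ Nat.card L), S, hD.hS.of_le hSL le_top, hD.hNS.trans hNL⟩
  have hBL : B ≤ L := by
    intro b hb
    apply hNL
    apply centralizer_le_normalizer' Z
    rw [mem_centralizer_iff]
    intro z hz
    exact hcomm z (hD.hZA hz) b hb
  have hLM : M ≠ L := fun h => hD.htM (h ▸ hSL hD.htS)
  have hZσ : Z ≤ sigmaCore L := le_sc hG hU hL hpL hZL hZpg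
  have hq1 := hq.1.one_lt
  have hqL : q ∈ sigma L := by
    by_contra h
    have hτ : q ∈ tau2 L := ⟨hq.1, h, rank2_of_not_sigma hG hU hL hq.1 h,
      not_pRankLE_of_le hBL hBe.1 hBe.2 (by rw [hBc, pow_one]; nlinarith)⟩
    have := (h17 L hL q hτ B ⟨hBL, hBe, hBc⟩).2.2.2.2.1 M hM hLM (hBE.trans hE.1)
    apply hZ1
    rw [eq_bot_iff, ← this]
    exact le_inf hZσ (hD.hZA.trans (hA.1.trans hE.1))
  have hqβ : q ∉ beta L := fun h => h08 q hq h.2
  have hc := (h14 L hL q hq.1 hqL.2.1 hqβ).2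
  have htpg : IsPGroup p (zpowers t) := hD.hS.2.1.to_le (zpowers_le.2 hD.htS)
  have htq : ¬ q ∣ Nat.card (zpowers t) := by
    intro h
    exact hqp (Helper22.primes_of_isPGroup hpp htpg q hq.1 h)
  have htN : t ∈ normalizer (B : Set G) := by
    apply mem_normalizer_of_map_conj_eq
    apply cj_eq_of_le_of_card _ le_rfl
    rintro _ ⟨b, hb, rfl⟩
    exact htB b hb
  have h1 := Helper34.BG13.comm_eq_bot_of_normalPComplement (L := L) (N := sigmaCore L) (X := B)
    (Y := zpowers t) (sc_norm L) hc hBL (isPGroup_of_exponent hBe.2)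
    (le_sc hG hU hL hpL (zpowers_le.2 (hSL hD.htS)) htpg) htq (zpowers_le.2 htN)
  apply hD.htM
  apply (hCBE _).1
  rw [commutator_eq_bot_iff_le_centralizer, le_centralizer_iff] at h1
  exact h1 (mem_zpowers t)

/-- the conclusion of S1412 for the Sylow subgroup `S` -/
def C1412 (p : ℕ) (S : Subgroup G) : Prop :=
  IsMulCommutative S ∨ ∃ P₁ P₂ : Subgroup G, P₁ ⊔ P₂ = S ∧ (∀ a ∈ P₁, ∀ b ∈ P₂, a * b = b * a) ∧
    ¬ IsMulCommutative P₁ ∧ Nat.card P₁ = p ^ 3 ∧ Monoid.exponent P₁ = p ∧ IsCyclic P₂ ∧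
    closure {x : G | x ∈ P₂ ∧ x ^ p = 1} = P₁ ⊓ centralizer (P₁ : Set G)

/-- `p`-th powers of elements of `S` lying in `A` lie in `Z`. -/
theorem no_psq {M A S Z : Subgroup G} {t : G} {p : ℕ} [Fact p.Prime] (hp2 : p ≠ 2)
    (hD : D127 M A p S Z t) (hAe : IsElementaryAbelian p A) (hAc : Nat.card A = p ^ 2)
    (hmax : ∀ B : Subgroup G, IsElementaryAbelian p B → A ≤ B → B = A)
    (h12 : PRankLE p 2 S → C1412 p S) (hSn : ¬ IsMulCommutative S)
    {y : G} (hyS : y ∈ S) (hyA : y ^ p ∈ A) : y ^ p ∈ Z := by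
  have hpp : p.Prime := Fact.out
  have hAcomm : ∀ a ∈ A, ∀ b ∈ A, a * b = b * a := fun a ha b hb =>
    congrArg Subtype.val (hAe.1.is_comm.comm ⟨a, ha⟩ ⟨b, hb⟩)
  by_cases hr : PRankLE p 2 S
  · obtain ⟨P₁, P₂, hsup, hcomm, -, -, hexp, hcyc, hcl⟩ := (h12 hr).resolve_left hSn
    obtain ⟨a, ha, b, hb, rfl⟩ := exists_mul_of_mem_sup_of_commute hcomm (hsup ▸ hyS)
    have hap : a ^ p = 1 := by
      have h1 := Monoid.pow_exponent_eq_one (⟨a, ha⟩ : P₁)
      rw [hexp] at h1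
      exact congrArg Subtype.val h1
    have hab : (a * b) ^ p = b ^ p := by
      rw [(show Commute a b from hcomm a ha b hb).mul_pow, hap, one_mul]
    rw [hab] at hyA ⊢
    apply hD.hCt _ hyA
    have h1 : b ^ p ∈ P₁ ⊓ centralizer (P₁ : Set G) := by
      rw [← hcl]
      exact subset_closure ⟨P₂.pow_mem hb p, hAe.2 _ hyA⟩
    have h2 : ∀ c ∈ P₂, c * b ^ p = b ^ p * c := by
      intro c hc
      have hc2 : IsMulCommutative P₂ := IsCyclic.isMulCommutative
      exact congrArg Subtype.val (hc2.is_comm.comm ⟨c, hc⟩ ⟨b ^ p, P₂.pow_mem hb p⟩)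
    obtain ⟨c, hc, d, hd, htcd⟩ := exists_mul_of_mem_sup_of_commute hcomm (hsup ▸ hD.htS)
    rw [htcd]
    have h3 : Commute (b ^ p) c := ((mem_centralizer_iff.1 (mem_inf.1 h1).2) c hc).symm
    have h4 : Commute (b ^ p) d := (h2 d hd).symm
    exact h3.mul_right h4
  · by_contra hyZ
    have hAS' : IsElementaryAbelian p (A.subgroupOf S) :=
      Helper11.IsElementaryAbelian.comap_of_injective hAe S.subtype S.subtype_injective
    have hc' : Nat.card (A.subgroupOf S) = p ^ 2 := by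
      rw [← hAc]; exact Nat.card_congr (subgroupOfEquivOfLe hD.hAS).toEquiv
    have hmax' : ∀ B : Subgroup S, IsElementaryAbelian p B → A.subgroupOf S ≤ B →
        B = A.subgroupOf S := by
      intro B hB hAB
      have h1 : A ≤ B.map S.subtype := by
        intro a ha
        exact ⟨⟨a, hD.hAS ha⟩, hAB (mem_subgroupOf.2 ha), rfl⟩
      have h2 := hmax _ (Helper11.IsElementaryAbelian.map hB S.subtype) h1
      rw [← h2, subgroupOf, comap_map_eq_self_of_injective S.subtype_injective]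
    obtain ⟨h1, -, -, h4, h5⟩ := Cfsg.Agent.S1453.result (R := S) p hp2 hD.hS.2.1 hr
      (A.subgroupOf S) hAS' hc' hmax'
    set T := centralizer ((closure {x : S | x ∈ Subgroup.upperCentralSeries S 2 ∧ x ^ p = 1} :
      Subgroup S) : Set S) with hT
    have hTn : T.Normal := by have := h4; infer_instance
    apply h1
    intro a ha
    obtain ⟨i, n, hn, hai⟩ := exists_pow_mul_of_card hpp hD.hZA (by rw [hAc, hD.hZc, sq]) hyA hyZ
      (le_normalizer_of_comm hAcomm hD.hZA hyA) a (mem_subgroupOf.1 ha)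
    have h6 : (⟨y, hyS⟩ : S) ^ p ∈ T := by
      have := T.pow_index_mem (⟨y, hyS⟩ : S)
      rwa [h5] at this
    have hnS : n ∈ S := hD.hAS (hD.hZA hn)
    have h7 : (⟨n, hnS⟩ : S) ∈ T := by
      rw [hT, mem_centralizer_iff]
      intro s _
      exact Subtype.ext ((mem_centralizer_iff.1 (hD.hZS hn)) s s.2)
    have h8 : a = ((⟨y, hyS⟩ : S) ^ p) ^ i * ⟨n, hnS⟩ := Subtype.ext hai
    rw [h8]
    exact T.mul_mem (T.pow_mem h6 i) h7

theorem fitting127 (hG : IsMinSimpleOddOrder G) (hU : UT G) {M E A S Z : Subgroup G} {t : G} {p : ℕ}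
    [Fact p.Prime] (hM : IsCoatom M) (hE : IsComplIn E (sigmaCore M) M) (hp : p ∉ sigma M)
    (hτ : tau2 M = {p}) (hnil : Group.IsNilpotent (sigmaCore M)) (hAM : A ≤ M)
    (hEA : E ≤ normalizer (A : Set G)) (hD : D127 M A p S Z t)
    (hA0c : Nat.card ↥(A ⊓ centralizer (sigmaCore M : Set G)) = p)
    (hA0Z : A ⊓ centralizer (sigmaCore M : Set G) ≠ Z)
    (hpsq : ∀ y ∈ S, y ^ p ∈ A → y ^ p ∈ Z) :
    fittingOf M = sigmaCore M ⊔ (A ⊓ centralizer (sigmaCore M : Set G)) := by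
  have hpp : p.Prime := Fact.out
  set A₀ := A ⊓ centralizer (sigmaCore M : Set G) with hA₀
  have hA₀M : A₀ ≤ M := inf_le_left.trans hAM
  have hA₀pg : IsPGroup p A₀ := IsPGroup.of_card (n := 1) (by rw [hA0c, pow_one])
  have hMA₀ : M ≤ normalizer (A₀ : Set G) := by
    apply Helper10.BG124.le_normalizer_of_forall_cj_le
    rintro m hm _ ⟨x, hx, rfl⟩
    show m * x * m⁻¹ ∈ A₀
    obtain ⟨e, he, b, hb, rfl⟩ := hE.2.2.2 m hm
    obtain ⟨hxA, hxC⟩ := mem_inf.1 hx
    have h1 : b * x * b⁻¹ = x := by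
      rw [(mem_centralizer_iff.1 hxC) b hb, mul_inv_cancel_right]
    have h2 : e * b * x * (e * b)⁻¹ = e * x * e⁻¹ := by
      calc e * b * x * (e * b)⁻¹ = e * (b * x * b⁻¹) * e⁻¹ := by group
        _ = e * x * e⁻¹ := by rw [h1]
    rw [h2, hA₀, mem_inf]
    refine ⟨(mem_normalizer_iff.1 (hEA he) x).1 hxA, ?_⟩
    have := conj_mem_map_conj (g := e) hxC
    rwa [← centralizer_map_conj, map_conj_eq_self_of_mem_normalizer (sc_norm M (hE.1 he))] at this
  apply le_antisymm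
  · rw [Cfsg.Agent.S1482.fittingOf_eq_iSup]
    refine iSup_le fun r => ?_
    have : Fact (r : ℕ).Prime := ⟨r.2⟩
    have hpg := Helper47.pCoreOf_isPGroup (p := (r : ℕ)) M
    have hle := Helper47.pCoreOf_le (p := (r : ℕ)) M
    have hn := Helper47.le_normalizer_pCoreOf (p := (r : ℕ)) M
    by_cases hσ : (r : ℕ) ∈ sigma M
    · exact (le_sc hG hU hM hσ hle hpg).trans le_sup_left
    by_cases hR1 : pCoreOf (r : ℕ) M = ⊥
    · rw [hR1]; exact bot_le
    have hrp : (r : ℕ) = p := by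
      have := mem_tau2_of_normal hG hU hM hσ hle hpg hR1 hn
      rw [hτ] at this
      exact this
    refine le_trans ?_ le_sup_right
    rw [hrp] at hpg hle hn ⊢
    set R := pCoreOf p M with hR
    have hRC : R ≤ centralizer (sigmaCore M : Set G) :=
      le_centralizer_sc hle ((sc_le M).trans hn) (inf_sc_eq_bot (primes_of_pgroup hpg hp))
    have hRS : R ≤ S ⊓ M := by
      obtain ⟨n, hnM, hle'⟩ := hD.hSyl.exists_conj_le hle hpg
      rwa [map_conj_eq_self_of_mem_normalizer (hn hnM)] at hle'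
    have hRp : ∀ y ∈ R, y ^ p = 1 := by
      intro y hy
      by_contra hy1
      obtain ⟨k, hk⟩ := hpg ⟨y ^ p, R.pow_mem hy p⟩
      have hk' : (y ^ p) ^ p ^ k = 1 := congrArg Subtype.val hk
      obtain ⟨j, hj1, hj2⟩ := exists_pow_not_mem p ⊥ (y ^ p) (by rwa [mem_bot])
        ⟨k, by rw [hk']; exact one_mem _⟩
      rw [mem_bot] at hj1 hj2
      have e1 : (y ^ p) ^ p ^ j = (y ^ p ^ j) ^ p := pow_right_comm y p (p ^ j)
      rw [e1] at hj1 hj2
      have hy'R : y ^ p ^ j ∈ R := R.pow_mem hy _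
      have h1 : (y ^ p ^ j) ^ p ∈ A :=
        hD.hSMp _ (mem_inf.1 (hRS (R.pow_mem hy'R p))).1 (mem_inf.1 (hRS (R.pow_mem hy'R p))).2 hj2
      have h2 := hpsq _ (mem_inf.1 (hRS hy'R)).1 h1
      have h3 : (y ^ p ^ j) ^ p ∈ A₀ := mem_inf.2 ⟨h1, hRC (R.pow_mem hy'R p)⟩
      apply hA0Z
      rw [eq_zpowers_of_card_prime hpp hA0c h3 hj1, eq_zpowers_of_card_prime hpp hD.hZc h2 hj1]
    intro y hy
    exact mem_inf.2 ⟨hD.hSMp y (mem_inf.1 (hRS hy)).1 (mem_inf.1 (hRS hy)).2 (hRp y hy), hRC hy⟩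
  · exact sup_le (Helper72.le_fittingOf (sc_le M) (sc_norm M) hnil)
      (Helper72.le_fittingOf hA₀M hMA₀ hA₀pg.isNilpotent)

end Cfsg.Agent.Lib.Helper23T
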