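import Cfsg.Agent.Lib.Helper62.HallCoprime
import Cfsg.Agent.Lib.Helper33.Frattini
import Cfsg.Agent.Lib.Helper96.ClassPow
import Cfsg.Agent.Lib.Helper24.Rank2Fitting
import Cfsg.Agent.Lib.Helper47.PCore
import Cfsg.Agent.Lib.Helper31.BG11a
import Cfsg.Agent.Lib.Helper72.BG37b
import Cfsg.Agent.S1445
import Cfsg.Agent.S1545
import Cfsg.Agent.S0012

/-!
# BG section 15, group theoretic core of Theorem 15.2 (helper23)
-/

set_option autoImplicit false
set_option linter.unusedVariables false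
set_option linter.unusedSimpArgs false
set_option linter.style.haveILetI false

namespace Cfsg.Agent.Lib.Helper23U

open Cfsg Subgroup
open scoped commutatorElement

variable {G : Type*} [Group G]

/-- two commuting nilpotent subgroups generate a nilpotent subgroup -/
theorem nilpotent_sup_of_commute {A B : Subgroup G} (hA : Group.IsNilpotent A)
    (hB : Group.IsNilpotent B) (hc : ∀ a ∈ A, ∀ b ∈ B, a * b = b * a) :
    Group.IsNilpotent ↥(A ⊔ B) := by
  have hcc : ∀ (a : A) (b : B), Commute (A.subtype a) (B.subtype b) := fun a b => hc a a.2 b b.2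
  let f : A × B →* G := MonoidHom.noncommCoprod A.subtype B.subtype hcc
  have hr : f.range = A ⊔ B := by
    rw [MonoidHom.noncommCoprod_range, Subgroup.range_subtype, Subgroup.range_subtype]
  rw [← hr]
  exact Group.nilpotent_of_surjective f.rangeRestrict f.rangeRestrict_surjective

/-- If `k` of prime order `r` acts coprimely on `S ⊴ M` with `C_S(k) ≤ O_q(M) ≤ S`, then every
`q`-element of `S` lies in `O_q(M)`. -/
theorem mem_pCoreOf_of_fpf [Finite G] {M S : Subgroup G} {q r : ℕ} [Fact q.Prime] (hr : r.Prime)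
    {k : G} (hSM : S ≤ M) (hSn : M ≤ normalizer (S : Set G)) (hkM : k ∈ M) (hkr : k ^ r = 1)
    (hcop : (Nat.card S).Coprime r) (hQS : pCoreOf q M ≤ S)
    (hC : S ⊓ centralizer ({k} : Set G) ≤ pCoreOf q M) {y : G} (hy : y ∈ S) {n : ℕ}
    (hyq : y ^ q ^ n = 1) : y ∈ pCoreOf q M := by
  have hq : q.Prime := Fact.out
  haveI hQn : (pCore q ↥M).Normal := Cfsg.Agent.Lib.Helper47.pCore_normal
  let π := QuotientGroup.mk' (pCore q ↥M)
  have hπ : Function.Surjective π := QuotientGroup.mk'_surjective _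
  haveI hS' : (S.subgroupOf M).Normal := (normal_subgroupOf_iff_le_normalizer hSM).mpr hSn
  let Sb : Subgroup (↥M ⧸ pCore q ↥M) := (S.subgroupOf M).map π
  haveI hSb : Sb.Normal := Subgroup.Normal.map hS' π hπ
  let xb : ↥M ⧸ pCore q ↥M := π ⟨k, hkM⟩
  have hmemQ : ∀ z : ↥M, π z = 1 ↔ (z : G) ∈ pCoreOf q M := by
    intro z
    rw [QuotientGroup.mk'_apply, QuotientGroup.eq_one_iff]
    constructor
    · intro h
      exact ⟨z, h, rfl⟩
    · rintro ⟨w, hw, hwz⟩
      have : w = z := Subtype.ext hwz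
      rwa [← this]
  have hfpf : Sb ⊓ centralizer ({xb} : Set (↥M ⧸ pCore q ↥M)) = ⊥ := by
    rw [eq_bot_iff]
    rintro _ ⟨⟨z, hz, rfl⟩, hzc⟩
    rw [mem_bot]
    have hzS : (z : G) ∈ S := mem_subgroupOf.1 hz
    have hcomm : Commute xb (π z) := by
      have := (mem_centralizer_iff.1 hzc) xb (Set.mem_singleton _)
      exact this
    have hx : ∀ a ∈ zpowers k, (z : G)⁻¹ * a * z * a⁻¹ ∈ pCoreOf q M := by
      intro a ha
      obtain ⟨i, rfl⟩ := mem_zpowers_iff.1 ha
      have h1 : π (z⁻¹ * (⟨k, hkM⟩ : ↥M) ^ i * z * ((⟨k, hkM⟩ : ↥M) ^ i)⁻¹) = 1 := by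
        rw [map_mul, map_mul, map_mul, map_inv, map_inv, map_zpow]
        have h2 : Commute (xb ^ i) (π z) := hcomm.zpow_left i
        change (π z)⁻¹ * xb ^ i * π z * (xb ^ i)⁻¹ = 1
        rw [mul_assoc (π z)⁻¹, h2.eq]
        group
      have h3 := (hmemQ _).1 h1
      simpa using h3
    have hcop' : (Nat.card (zpowers k)).Coprime (Nat.card S) := by
      rw [Nat.card_zpowers]
      exact (Nat.Coprime.coprime_dvd_right (orderOf_dvd_of_pow_eq_one hkr) hcop).symm
    obtain ⟨d, hd, hd'⟩ := Cfsg.Agent.Lib.Helper1.exists_fixed_in_coset (zpowers k) S (pCoreOf q M)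
      (by rw [zpowers_le]; exact hSn hkM) hcop' (Or.inl inferInstance) hQS
      (by rw [zpowers_le]; exact Cfsg.Agent.Lib.Helper47.le_normalizer_pCoreOf M hkM) z hzS hx
    have h4 : (z : G) * d ∈ pCoreOf q M := by
      apply hC
      refine ⟨hd'.1, ?_⟩
      exact centralizer_le (by
        intro w hw
        rw [Set.mem_singleton_iff.1 hw]
        exact mem_zpowers k) hd'.2
    have h5 : (z : G) ∈ pCoreOf q M := by
      have := (pCoreOf q M).mul_mem h4 ((pCoreOf q M).inv_mem hd)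
      simpa using this
    exact (hmemQ z).2 h5
  have hnil : Group.IsNilpotent Sb := by
    refine Cfsg.Agent.Lib.Helper31.BG11.nilpotent_of_fpf_elem hr (x := xb) ?_ ?_ hfpf
    · rw [normalizer_eq_top]; exact mem_top _
    · change (π ⟨k, hkM⟩) ^ r = 1
      rw [← map_pow]
      have : (⟨k, hkM⟩ : ↥M) ^ r = 1 := Subtype.ext (by simpa using hkr)
      rw [this, map_one]
  have hle : Sb ≤ fittingSubgroup (↥M ⧸ pCore q ↥M) :=
    Cfsg.Agent.Lib.Helper1.le_fittingSubgroup hSb hnil
  have hcore : pCore q (↥M ⧸ pCore q ↥M) = ⊥ := Cfsg.Agent.Lib.Helper33.pCore_quotient_pCore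
  have hcF := Cfsg.Agent.Lib.Helper96.card_fittingSubgroup_coprime hq _ hcore
  have hcS : (Nat.card Sb).Coprime q := Nat.Coprime.coprime_dvd_left (card_dvd_of_le hle) hcF
  have hyb : π ⟨y, hSM hy⟩ ∈ Sb := ⟨⟨y, hSM hy⟩, mem_subgroupOf.2 hy, rfl⟩
  have h1 : (π ⟨y, hSM hy⟩) ^ q ^ n = 1 := by
    rw [← map_pow]
    have : (⟨y, hSM hy⟩ : ↥M) ^ q ^ n = 1 := Subtype.ext (by simpa using hyq)
    rw [this, map_one]
  have h2 : (π ⟨y, hSM hy⟩) ^ Nat.card Sb = 1 := by
    have := pow_card_eq_one' (G := Sb) (x := ⟨_, hyb⟩)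
    exact congrArg Subtype.val this
  have h3 : π ⟨y, hSM hy⟩ = 1 := by
    have h4 : orderOf (π ⟨y, hSM hy⟩) ∣ Nat.gcd (Nat.card Sb) (q ^ n) :=
      Nat.dvd_gcd (orderOf_dvd_of_pow_eq_one h2) (orderOf_dvd_of_pow_eq_one h1)
    rw [Nat.Coprime.pow_right n hcS, Nat.dvd_one] at h4
    exact orderOf_eq_one_iff.1 h4
  exact (hmemQ _).1 h3

/-- BG 3.? (S1445) in ambient form: prime action with `[S,K] = S` non-nilpotent forces
`C_S(K)`, of prime order `q`, into `O_q(M)`. -/
theorem cent_le_pCoreOf [Finite G] {M S K : Subgroup G} {q : ℕ} [Fact q.Prime]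
    (hsolv : Group.IsSolvable M) (hodd : Odd (Nat.card M)) (hSM : S ≤ M)
    (hSn : M ≤ normalizer (S : Set G)) (hKM : K ≤ M) (hsup : S ⊔ K = M)
    (hcop : (Nat.card S).Coprime (Nat.card K))
    (hpr : ∀ k ∈ K, k ≠ 1 → S ⊓ centralizer ({k} : Set G) = S ⊓ centralizer (K : Set G))
    (hq : Nat.card ↥(S ⊓ centralizer (K : Set G)) = q) (hcomm : ⁅S, K⁆ = S)
    (hnn : ¬ Group.IsNilpotent S) : S ⊓ centralizer (K : Set G) ≤ pCoreOf q M := by
  have hqp : q.Prime := Fact.out
  by_contra hcon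
  haveI hS' : (S.subgroupOf M).Normal := (normal_subgroupOf_iff_le_normalizer hSM).mpr hSn
  have hmapS : (S.subgroupOf M).map M.subtype = S := map_subgroupOf_eq_of_le hSM
  have hmapK : (K.subgroupOf M).map M.subtype = K := map_subgroupOf_eq_of_le hKM
  have hcent : ∀ (T : Set ↥M) (z : ↥M), z ∈ centralizer T ↔
      (z : G) ∈ centralizer (M.subtype '' T) := by
    intro T z
    rw [mem_centralizer_iff, mem_centralizer_iff]
    constructor
    · rintro h _ ⟨w, hw, rfl⟩
      exact congrArg Subtype.val (h w hw)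
    · intro h w hw
      exact Subtype.ext (h _ ⟨w, hw, rfl⟩)
  have himK : M.subtype '' ((K.subgroupOf M : Subgroup ↥M) : Set ↥M) = (K : Set G) := by
    rw [← coe_map, hmapK]
  have hF : fittingOf (S.subgroupOf M) ⊓ centralizer ((K.subgroupOf M : Subgroup ↥M) : Set ↥M) = ⊥ := by
    rw [eq_bot_iff]
    rintro z ⟨⟨w, hw, rfl⟩, hzc⟩
    rw [mem_bot]
    by_contra hz1
    have hzK : (((S.subgroupOf M).subtype w : ↥M) : G) ∈ S ⊓ centralizer (K : Set G) := by
      refine ⟨mem_subgroupOf.1 w.2, ?_⟩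
      have := (hcent _ _).1 hzc
      rwa [himK] at this
    have hwq : w ^ q ^ 1 = 1 := by
      have h1 := pow_card_eq_one' (G := ↥(S ⊓ centralizer (K : Set G))) (x := ⟨_, hzK⟩)
      rw [hq] at h1
      have h2 := congrArg Subtype.val h1
      rw [pow_one]
      apply Subtype.ext
      apply Subtype.ext
      simpa using h2
    have h3 := Cfsg.Agent.Lib.Helper24.mem_pCore_of_mem_fitting q w hw 1 hwq
    have h4 : (S.subgroupOf M).subtype w ∈ pCoreOf q (S.subgroupOf M) := ⟨w, h3, rfl⟩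
    have h5 : pCoreOf q (S.subgroupOf M) ≤ pCoreOf q (⊤ : Subgroup ↥M) :=
      Cfsg.Agent.Lib.Helper47.pCoreOf_le_pCoreOf_of_normal le_top (by rw [normalizer_eq_top])
    have h6 := h5 h4
    rw [Cfsg.Agent.Lib.Helper47.pCoreOf_top] at h6
    have h7 : (((S.subgroupOf M).subtype w : ↥M) : G) ∈ pCoreOf q M := ⟨_, h6, rfl⟩
    apply hcon
    have h8 : (((S.subgroupOf M).subtype w : ↥M) : G) ≠ 1 := by
      intro h
      exact hz1 (Subtype.ext h)
    rw [Cfsg.Agent.Lib.Helper31.BG11.eq_zpowers_of_card_prime hqp hq hzK h8, zpowers_le]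
    exact h7
  have hsup' : S.subgroupOf M ⊔ K.subgroupOf M = ⊤ := by
    apply map_injective M.subtype_injective
    rw [Subgroup.map_sup, hmapS, hmapK, hsup, ← MonoidHom.range_eq_map, range_subtype]
  have hcop' : (Nat.card (S.subgroupOf M)).Coprime (Nat.card (K.subgroupOf M)) := by
    have e1 : Nat.card ((S.subgroupOf M).map M.subtype) = Nat.card (S.subgroupOf M) :=
      Subgroup.card_map_of_injective M.subtype_injective
    have e2 : Nat.card ((K.subgroupOf M).map M.subtype) = Nat.card (K.subgroupOf M) :=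
      Subgroup.card_map_of_injective M.subtype_injective
    rw [hmapS] at e1
    rw [hmapK] at e2
    rw [← e1, ← e2]
    exact hcop
  have hpr' : ∀ x ∈ K.subgroupOf M, x ≠ 1 →
      S.subgroupOf M ⊓ centralizer ({x} : Set ↥M) =
        S.subgroupOf M ⊓ centralizer ((K.subgroupOf M : Subgroup ↥M) : Set ↥M) := by
    intro x hx hx1
    have h1 := hpr x (mem_subgroupOf.1 hx) (fun h => hx1 (Subtype.ext h))
    ext z
    rw [mem_inf, mem_inf, hcent, hcent, himK, Set.image_singleton]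
    have h2 : (z : G) ∈ S ⊓ centralizer ({(x : G)} : Set G) ↔
        (z : G) ∈ S ⊓ centralizer (K : Set G) := by rw [h1]
    rw [mem_inf, mem_inf] at h2
    exact h2
  have h9 := Cfsg.Agent.S1445.result hodd (S.subgroupOf M) (K.subgroupOf M) hsup' hcop' hpr' hF
  have h10 : ⁅S.subgroupOf M, K.subgroupOf M⁆ = S.subgroupOf M := by
    apply map_injective M.subtype_injective
    rw [map_commutator, hmapS, hmapK, hcomm]
  rw [h10] at h9
  apply hnn
  have h11 : Group.IsNilpotent (fittingOf (S.subgroupOf M)) := by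
    have := Cfsg.Agent.Lib.Helper1.fittingSubgroup_isNilpotent (G := ↥(S.subgroupOf M))
    exact Group.nilpotent_of_mulEquiv
      ((fittingSubgroup ↥(S.subgroupOf M)).equivMapOfInjective _ (subtype_injective _))
  have h12 : Group.IsNilpotent (S.subgroupOf M) :=
    Group.nilpotent_of_mulEquiv (subgroupOfEquivOfLe h9)
  exact Group.nilpotent_of_mulEquiv (subgroupOfEquivOfLe hSM)

end Cfsg.Agent.Lib.Helper23U
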