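import Cfsg.Agent.Lib.Helper23.BGU10
import Cfsg.Agent.Lib.Helper34.BG16e
import Cfsg.Agent.Lib.Helper24.BG10c
import Cfsg.Agent.S3745
import Cfsg.Agent.S1417

/-!
# Row S1438, first half (BG 15.1(a)) from rows S1430 S1431 (helper23)
-/

set_option autoImplicit false
set_option linter.unusedVariables false
set_option linter.unusedSimpArgs false
set_option linter.unusedSectionVars false
set_option linter.deprecated false
set_option linter.style.haveILetI false

namespace Cfsg.Agent.Lib.Helper23U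

open Cfsg Subgroup
open Cfsg.Agent.Lib.Helper24 Cfsg.Agent.Lib.Helper34 Cfsg.Agent.Lib.Helper31.BG11
open Cfsg.Agent.Lib.Helper34.BGRows
open scoped commutatorElement Pointwise

universe u

variable {G : Type u} [Group G] [Finite G]

/-- a nontrivial Hall subgroup of `M_σ` is not centralized by an element of prime order in `κ(M)` -/
theorem hall_not_centralized (hG : IsMinSimpleOddOrder G) (h30 : H1430 G) (h31 : H1431 G)
    {M H : Subgroup G} (hM : IsCoatom M) (hH : H ≤ sigmaCore M) (hH1 : H ≠ ⊥)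
    (hHall : (Nat.card H).Coprime (H.relIndex (sigmaCore M))) {p : ℕ} (hp : p.Prime)
    (hκ : p ∈ kappa M) {y : G} (hyM : y ∈ M) (hyo : orderOf y = p)
    (hyH : y ∈ centralizer (H : Set G)) : False := by
  have hsolv := MS_solvable hG hM.1
  have hy1 : y ≠ 1 := by
    intro h
    rw [h, orderOf_one] at hyo
    exact hp.one_lt.ne hyo
  obtain ⟨K, hK, -, hyK⟩ := (Cfsg.Agent.S3745.result ⊥ M bot_le (by simp) hsolv (kappa M)).2.2
    (zpowers y) (by rw [zpowers_le]; exact hyM) bot_le (by
      intro r hr hd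
      rw [Nat.card_zpowers, hyo] at hd
      rw [(Nat.prime_dvd_prime_iff_eq hr hp).1 hd]
      exact hκ)
  have hyK' : y ∈ K := hyK (mem_zpowers y)
  have hK1 : K ≠ ⊥ := by
    intro h
    rw [h, mem_bot] at hyK'
    exact hy1 hyK'
  have h1 := (h30 M hM K hK hK1).1 y hyK' hy1
  have hHK : H ≤ sigmaCore M ⊓ centralizer (K : Set G) := by
    rw [← h1]
    apply le_inf hH
    intro h hh
    rw [mem_centralizer_iff]
    intro z hz
    rw [Set.mem_singleton_iff.1 hz]
    exact ((mem_centralizer_iff.1 hyH) h hh).symm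
  have hc1 : Nat.card H ≠ 1 := fun h => hH1 ((card_eq_one (H := H)).1 h)
  have hr := Nat.minFac_prime hc1
  have hd : (Nat.card H).minFac ∣ Nat.card H := Nat.minFac_dvd _
  set r := (Nat.card H).minFac with hrdef
  haveI : Fact r.Prime := ⟨hr⟩
  obtain ⟨R, hR, -⟩ := exists_isSylowIn_ge (bot_le : (⊥ : Subgroup G) ≤ H) (IsPGroup.of_bot (p := r))
  have hR' : IsSylowIn r R (sigmaCore M) := by
    refine ⟨hR.1.trans hH, hR.2.1, ?_⟩
    rw [← relIndex_mul_relIndex R H (sigmaCore M) hR.1 hH]
    apply hr.not_dvd_mul hR.2.2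
    intro h2
    have := Nat.dvd_gcd hd h2
    rw [hHall] at this
    exact hr.one_lt.ne' (Nat.dvd_one.1 this)
  have h3 := ((h31 M hM K hK hK1).2.2.1 r hr (hd.trans (card_dvd_of_le hHK)) hR'.toSylow).2.2
  apply h3
  rw [hR'.coe_toSylow, map_subgroupOf_eq_of_le hR'.1]
  exact hR.1.trans hHK

theorem row1438a (hG : IsMinSimpleOddOrder G) (h30 : H1430 G) (h31 : H1431 G)
    {M H : Subgroup G} (hM : IsCoatom M) (hH : H ≤ sigmaCore M) (hH1 : H ≠ ⊥)
    (hHall : (Nat.card H).Coprime (H.relIndex (sigmaCore M))) :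
    ∃ X : Subgroup G, IsCyclic X ∧ (∀ p : ℕ, p.Prime → p ∣ Nat.card X → p ∈ tau2 M) ∧
      M ⊓ centralizer (H : Set G) = (sigmaCore M ⊓ centralizer (H : Set G)) ⊔ X := by
  have hU := ut hG
  set C := M ⊓ centralizer (H : Set G) with hCdef
  set N := sigmaCore M ⊓ centralizer (H : Set G) with hNdef
  have hNC : N ≤ C := inf_le_inf (sc_le M) le_rfl
  have hn : C ≤ normalizer (N : Set G) := by
    refine le_trans (le_inf (inf_le_left.trans (sc_norm M)) ?_) (normalizer_inf_le_centralizer _ _)
    exact inf_le_right.trans (centralizer_le_normalizer (H : Set G))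
  have hnd : ∀ p : ℕ, p.Prime → p ∈ sigma M → ¬ p ∣ N.relIndex C := by
    intro p hp hσ hd
    haveI : Fact p.Prime := ⟨hp⟩
    obtain ⟨P, hP, -⟩ := exists_isSylowIn_ge (bot_le : (⊥ : Subgroup G) ≤ C)
      (IsPGroup.of_bot (p := p))
    have h1 : P ≤ N := le_inf (le_sc hG hU hM hσ (hP.1.trans inf_le_left) hP.2.1)
      (hP.1.trans inf_le_right)
    exact hP.2.2 (hd.trans (relIndex_dvd_of_le_left C h1))
  have hcop : (Nat.card N).Coprime (N.relIndex C) := by
    apply Nat.coprime_of_dvd
    intro p hp h1 h2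
    exact hnd p hp (sc_primes M hp (h1.trans (card_dvd_of_le inf_le_left))) h2
  obtain ⟨X, hXC, hXcard, hXsup⟩ := Cfsg.Agent.Lib.Helper1.sz_exists_rel N C hNC hn hcop
  have hXσ : ∀ r : ℕ, r.Prime → r ∣ Nat.card X → r ∉ sigma M := by
    intro r hr hd hσ
    rw [hXcard] at hd
    exact hnd r hr hσ hd
  obtain ⟨E, hE, hXE⟩ := BG13.exists_compl_ge hG hU hM (hXC.trans inf_le_left) hXσ
  obtain ⟨x₀, hx₀, hx₀1⟩ := exists_ne_one_of_ne_bot hH1
  have hτ : ∀ p : ℕ, p.Prime → p ∣ Nat.card X → p ∈ tau2 M := by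
    intro p hp hd
    rcases BG16.compl_primes hG hM hE hp (hd.trans (card_dvd_of_le hXE)) with h | h
    · exact h
    · exfalso
      haveI : Fact p.Prime := ⟨hp⟩
      have hrk : PRankLE p 1 M := by
        rcases h with h | h
        · exact h.2.2.2.2
        · exact h.2.2.2
      obtain ⟨y, hy⟩ := exists_prime_orderOf_dvd_card' (G := X) p hd
      have hyo : orderOf (y : G) = p := by rw [← hy, Subgroup.orderOf_coe]
      have hyC := hXC y.2
      have hyH : (y : G) ∈ centralizer (H : Set G) := (mem_inf.1 hyC).2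
      have hκ : p ∈ kappa M := BG16.mem_kappa_of hG hM hp (hXσ p hp hd) hrk (mem_inf.1 hyC).1 hyo
        (hH hx₀) hx₀1 ((mem_centralizer_iff.1 hyH) x₀ hx₀).symm
      exact hall_not_centralized hG h30 h31 hM hH hH1 hHall hp hκ (mem_inf.1 hyC).1 hyo hyH
  refine ⟨X, ?_, hτ, by rw [← hXsup, sup_comm]⟩
  have hab := BG16.tau2_subgroup_isMulCommutative hG hM hE hXE hτ
  haveI : Group.IsNilpotent X := by
    letI : CommGroup X := { (inferInstance : Group X) with mul_comm := hab.is_comm.comm }
    infer_instance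
  haveI : IsZGroup X := by
    refine ⟨fun p hp P => ?_⟩
    haveI : Fact p.Prime := ⟨hp⟩
    by_cases hd : p ∣ Nat.card X
    · have hτp := hτ p hp hd
      have hrk : PRankLE p 1 X := by
        by_contra hr1
        obtain ⟨A, hAX, hAe, hAc⟩ := exists_elemAb_sq
          (pRankLE_mono (hXC.trans inf_le_left) hτp.2.2.1) hr1
        have h1 := (Cfsg.Agent.S1417.result hG M hM p hτp A
          ⟨hAX.trans (hXC.trans inf_le_left), hAe, hAc⟩).2.2.2.1
        apply hH1
        rw [eq_bot_iff, ← h1]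
        apply le_inf hH
        rw [le_centralizer_iff]
        exact hAX.trans (hXC.trans inf_le_right)
      have h2 : PRankLE p 1 ((P : Subgroup X).map X.subtype) :=
        pRankLE_mono (map_subtype_le _) hrk
      have h3 : IsCyclic ((P : Subgroup X).map X.subtype) :=
        isCyclic_of_pRankLE_one (MS_prime_ne_two hG hd) (P.2.map _) h2
      exact isCyclic_of_surjective
        ((P : Subgroup X).equivMapOfInjective _ X.subtype_injective).symm (MulEquiv.surjective _)
    · have h1 : Nat.card (P : Subgroup X) = 1 := by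
        obtain ⟨n, hn⟩ := IsPGroup.iff_card.1 P.2
        have h2 : Nat.card (P : Subgroup X) ∣ Nat.card X := card_subgroup_dvd_card _
        rcases Nat.eq_zero_or_pos n with h0 | h0
        · rw [hn, h0, pow_zero]
        · exact absurd ((hn ▸ dvd_pow_self p h0.ne').trans h2) hd
      haveI : Subsingleton (P : Subgroup X) := (Nat.card_eq_one_iff_unique.1 h1).1
      infer_instance
  infer_instance

end Cfsg.Agent.Lib.Helper23U
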