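import Cfsg.Agent.Lib.Helper23.BGU12
import Cfsg.Agent.Lib.Helper62.Bar
import Cfsg.Agent.Lib.Helper62.HallCoprime
import Cfsg.Agent.Lib.Helper1.Coprime
import Cfsg.Agent.Lib.Helper24.Basic
import Cfsg.Agent.S1446

/-!
# BG 15.2: the derived group of a `q`-complement of `M_σ` centralizes `O_q(M)` (helper23)
-/

set_option autoImplicit false
set_option linter.unusedVariables false
set_option linter.unusedSimpArgs false
set_option linter.unusedSectionVars false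
set_option linter.deprecated false
set_option linter.style.haveILetI false

namespace Cfsg.Agent.Lib.Helper23U

open Cfsg Subgroup
open Cfsg.Agent.Lib.Helper62
open scoped commutatorElement Pointwise

variable {G : Type*} [Group G] [Finite G] {M S K D : Subgroup G} {q : ℕ} [hqF : Fact q.Prime]

namespace C152

theorem derived_cent (h : C152 M S K q) (hD : IsComplIn (pCoreOf q M) D S)
    (hKD : K ≤ normalizer (D : Set G)) : ⁅D, D⁆ ≤ centralizer (pCoreOf q M : Set G) := by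
  set Q := pCoreOf q M with hQdef
  set Q₀ := Q ⊓ centralizer (D : Set G) with hQ₀def
  have hMQ₀ : M ≤ normalizer (Q₀ : Set G) := h.Q0_normal hD hKD
  have hDM : D ≤ M := hD.2.1.trans h.compl.1
  have hKM : K ≤ M := h.compl.2.1
  have hQM : Q ≤ M := h.Q_le.trans h.compl.1
  have hMQ : M ≤ normalizer (Q : Set G) := h.QM
  have hDn := hDM.trans hMQ₀
  have hKn := hKM.trans hMQ₀
  have hQn := hQM.trans hMQ₀
  have hK1 : bar Q₀ D ≠ ⊥ := by
    intro e
    have h1 : D ≤ Q₀ := (bar_eq_bot_iff hDn).1 e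
    apply h.D_ne hD hKD
    rw [eq_bot_iff, ← hD.2.2.1]
    exact le_inf (h1.trans inf_le_left) le_rfl
  have hR1 : bar Q₀ K ≠ ⊥ := by
    intro e
    have h1 : K ≤ Q₀ := (bar_eq_bot_iff hKn).1 e
    apply h.K1
    rw [eq_bot_iff, ← h.compl.2.2.1]
    exact le_inf (h1.trans (inf_le_left.trans h.Q_le)) le_rfl
  have hKR : bar Q₀ D ⊓ bar Q₀ K = ⊥ := by
    rw [eq_bot_iff]
    intro y hy
    obtain ⟨hy1, hy2⟩ := mem_inf.1 hy
    obtain ⟨d, hdN, hd, rfl⟩ := mem_bar_iff.1 hy1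
    obtain ⟨k, hk, n, hn, e⟩ := mk_mem_bar_iff.1 hy2
    simp only at e
    have hkS : k ∈ S := by
      have : k = d * n⁻¹ := by rw [e]; group
      rw [this]
      exact S.mul_mem (hD.2.1 hd) (S.inv_mem (h.Q_le (mem_inf.1 hn).1))
    have hk1 : k = 1 := by
      have : k ∈ S ⊓ K := mem_inf.2 ⟨hkS, hk⟩
      rwa [h.compl.2.2.1, mem_bot] at this
    rw [mem_bot, secMk_eq_one_iff]
    simp only
    rw [e, hk1, one_mul]
    exact hn
  have hfrob : ∀ r ∈ bar Q₀ K, r ≠ 1 → bar Q₀ D ⊓ centralizer ({r} : Set (Sec Q₀)) = ⊥ := by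
    intro r hr hr1
    obtain ⟨k, hkN, hk, rfl⟩ := mem_bar_iff.1 hr
    have hk1 : k ≠ 1 := by
      rintro rfl
      apply hr1
      rw [secMk_eq_one_iff]
      exact Q₀.one_mem
    rw [eq_bot_iff]
    intro y hy
    obtain ⟨hy1, hy2⟩ := mem_inf.1 hy
    obtain ⟨d, hdN, hd, rfl⟩ := mem_bar_iff.1 hy1
    have h1 := (mem_centralizer_iff.1 hy2) _ (Set.mem_singleton _)
    have h2 : secMk Q₀ ((⟨k, hkN⟩ : normalizer (Q₀ : Set G)) * ⟨d, hdN⟩ * ⟨k, hkN⟩⁻¹ * ⟨d, hdN⟩⁻¹) = 1 := by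
      rw [map_mul, map_mul, map_mul, h1, map_inv, map_inv]
      group
    rw [secMk_eq_one_iff] at h2
    have h2' : k * d * k⁻¹ * d⁻¹ ∈ Q₀ := h2
    have h3 : k * d * k⁻¹ * d⁻¹ ∈ D :=
      D.mul_mem (conj_mem_of_le_normalizer hKD hk hd) (D.inv_mem hd)
    have h4 : k * d * k⁻¹ * d⁻¹ = 1 := by
      have : k * d * k⁻¹ * d⁻¹ ∈ Q ⊓ D := mem_inf.2 ⟨(mem_inf.1 h2').1, h3⟩
      rwa [hD.2.2.1, mem_bot] at this
    have h5 : k * d = d * k := by
      calc k * d = (k * d * k⁻¹ * d⁻¹) * (d * k) := by group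
        _ = d * k := by rw [h4, one_mul]
    have h6 := h.fpfD hD k hk hk1 d hd h5
    subst h6
    rw [mem_bot, secMk_eq_one_iff]
    exact Q₀.one_mem
  have hsup : bar Q₀ D ⊔ bar Q₀ K = bar Q₀ (D ⊔ K) := (bar_sup hDn hKn).symm
  have hDKM : D ⊔ K ≤ M := sup_le hDM hKM
  have hsolv : Group.IsSolvable ↥(bar Q₀ D ⊔ bar Q₀ K) := by
    rw [hsup]
    exact isSolvable_bar (Cfsg.Agent.Lib.Helper1.isSolvable_of_le hDKM h.solv)
  have hodd : Odd (Nat.card ↥(bar Q₀ D ⊔ bar Q₀ K)) := by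
    rw [hsup]
    exact Odd.of_dvd_nat h.odd ((card_bar_dvd _ _).trans (card_dvd_of_le hDKM))
  have hM1 : bar Q₀ Q ≠ ⊥ := by
    intro e
    have h1 : Q ≤ Q₀ := (bar_eq_bot_iff hQn).1 e
    exact h.not_cent hD hKD (h1.trans inf_le_right)
  have hQp : IsPGroup q Q := h.Qp
  have hMn : Group.IsNilpotent (bar Q₀ Q) := (isPGroup_bar hQp).isNilpotent
  have hKM' : bar Q₀ D ≤ normalizer (bar Q₀ Q : Set (Sec Q₀)) := bar_le_normalizer (hDM.trans hMQ)
  have hRM' : bar Q₀ K ≤ normalizer (bar Q₀ Q : Set (Sec Q₀)) := bar_le_normalizer (hKM.trans hMQ)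
  have hRK : bar Q₀ K ≤ normalizer (bar Q₀ D : Set (Sec Q₀)) := bar_le_normalizer hKD
  have hdisj : Disjoint K D := by
    rw [disjoint_iff, eq_bot_iff, ← h.compl.2.2.1]
    exact le_inf (inf_le_right.trans hD.2.1) inf_le_left
  have hcardDK : Nat.card (D ⊔ K : Subgroup G) = Nat.card K * Nat.card D := by
    rw [sup_comm]
    exact Cfsg.Agent.Lib.Helper1.card_sup_of_disjoint hKD hdisj
  have hcopq : (Nat.card (D ⊔ K : Subgroup G)).Coprime q := by
    rw [hcardDK]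
    exact Nat.Coprime.mul_left h.cop_qK.symm (h.copD hD).symm
  obtain ⟨nQ, hnQ⟩ := IsPGroup.iff_card.1 (isPGroup_bar (N := Q₀) hQp)
  have hcop : (Nat.card ↥(bar Q₀ D ⊔ bar Q₀ K)).Coprime (Nat.card (bar Q₀ Q)) := by
    rw [hsup, hnQ]
    exact Nat.Coprime.pow_right _ (Nat.Coprime.coprime_dvd_left (card_bar_dvd _ _) hcopq)
  have hcopDQ : (Nat.card D).Coprime (Nat.card Q) := by
    obtain ⟨n, hn⟩ := IsPGroup.iff_card.1 hQp
    rw [hn]
    exact Nat.Coprime.pow_right _ (h.copD hD).symm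
  have hCK : bar Q₀ Q ⊓ centralizer (bar Q₀ D : Set (Sec Q₀)) = ⊥ := by
    rw [eq_bot_iff]
    intro y hy
    obtain ⟨hy1, hy2⟩ := mem_inf.1 hy
    obtain ⟨x, hxN, hx, rfl⟩ := mem_bar_iff.1 hy1
    obtain ⟨d, hd, hd'⟩ := Cfsg.Agent.Lib.Helper1.exists_fixed_in_coset D Q Q₀ (hDM.trans hMQ) hcopDQ
      (Or.inl (Cfsg.Agent.Lib.Helper1.isSolvable_of_le hDM h.solv)) inf_le_left hDn x hx (by
        intro a ha
        have h1 := (mem_centralizer_iff.1 hy2) _ (mk_mem_bar ha (hDn ha))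
        have h2 : secMk Q₀ ((⟨x, hxN⟩ : normalizer (Q₀ : Set G))⁻¹ * ⟨a, hDn ha⟩ * ⟨x, hxN⟩ *
            ⟨a, hDn ha⟩⁻¹) = 1 := by
          rw [map_mul, map_mul, map_mul, mul_assoc (secMk Q₀ _⁻¹), h1, map_inv, map_inv]
          group
        rw [secMk_eq_one_iff] at h2
        exact h2)
    rw [mem_bot, secMk_eq_one_iff]
    have h3 : x = (x * d) * d⁻¹ := by group
    show x ∈ Q₀
    rw [h3]
    exact Q₀.mul_mem hd' (Q₀.inv_mem hd)
  have hKp : (Nat.card K).Prime := h.K_prime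
  have hcardK : Nat.card (bar Q₀ K) = Nat.card K := by
    rcases (Nat.dvd_prime hKp).1 (card_bar_dvd Q₀ K) with h1 | h1
    · exact absurd ((card_eq_one (H := bar Q₀ K)).1 h1) hR1
    · exact h1
  have hpr : ∀ x ∈ bar Q₀ K, x ≠ 1 → bar Q₀ Q ⊓ centralizer ({x} : Set (Sec Q₀)) =
      bar Q₀ Q ⊓ centralizer (bar Q₀ K : Set (Sec Q₀)) := by
    intro x hx hx1
    apply le_antisymm
    · apply le_inf inf_le_left
      intro y hy
      have hy2 := (mem_centralizer_iff.1 (mem_inf.1 hy).2) x (Set.mem_singleton _)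
      rw [mem_centralizer_iff]
      intro z hz
      haveI : Fact (Nat.card (bar Q₀ K)).Prime := ⟨hcardK ▸ hKp⟩
      have h1 : (⟨z, hz⟩ : bar Q₀ K) ∈ zpowers (⟨x, hx⟩ : bar Q₀ K) :=
        mem_zpowers_of_prime_card (p := Nat.card (bar Q₀ K)) rfl (by
          intro e
          exact hx1 (congrArg Subtype.val e))
      obtain ⟨n, hn⟩ := h1
      have hn' : x ^ n = z := by simpa using congrArg Subtype.val hn
      rw [← hn']
      exact ((Commute.zpow_left (show Commute x y from hy2) n)).eq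
    · apply inf_le_inf le_rfl
      apply centralizer_le
      intro z hz
      rw [Set.mem_singleton_iff.1 hz]
      exact hx
  obtain ⟨-, hc1, hc2⟩ := Cfsg.Agent.S1446.result (bar Q₀ D) (bar Q₀ K) (bar Q₀ Q) hK1 hR1 hKR hRK
    hfrob hsolv hodd hM1 hMn hKM' hRM' hcop hCK hpr
  have hcardQ : Nat.card (bar Q₀ Q) = q ^ Nat.card K := by
    have h1 := card_bar_mul hQn (inf_le_left : Q₀ ≤ Q)
    have h2 := h.card_Q hD hKD le_rfl h.K1
    rw [h2, mul_comm] at h1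
    exact Nat.eq_of_mul_eq_mul_left Nat.card_pos h1
  have hcardC : Nat.card ↥(bar Q₀ Q ⊓ centralizer (bar Q₀ K : Set (Sec Q₀))) = q := by
    rw [hcardQ, hcardK] at hc1
    exact (Nat.pow_left_injective (n := Nat.card K) hKp.ne_zero hc1).symm
  have hcyc : IsCyclic ↥(bar Q₀ Q ⊓ centralizer (bar Q₀ K : Set (Sec Q₀))) :=
    isCyclic_of_prime_card (p := q) hcardC
  have h7 := hc2 hcyc
  have hD'D : ⁅D, D⁆ ≤ D := commutator_le.2 (fun a ha b hb =>
    D.mul_mem (D.mul_mem (D.mul_mem ha hb) (D.inv_mem ha)) (D.inv_mem hb))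
  have hD'n : ⁅D, D⁆ ≤ normalizer (Q₀ : Set G) := hD'D.trans hDn
  have h8 : ⁅Q, ⁅D, D⁆⁆ ≤ Q₀ := by
    rw [← bar_eq_bot_iff ((commutator_le.2 (fun a ha b hb => (normalizer (Q₀ : Set G)).mul_mem
      ((normalizer (Q₀ : Set G)).mul_mem ((normalizer (Q₀ : Set G)).mul_mem (hQn ha) (hD'n hb))
      ((normalizer (Q₀ : Set G)).inv_mem (hQn ha))) ((normalizer (Q₀ : Set G)).inv_mem (hD'n hb))))),
      bar_commutator hQn hD'n, bar_commutator hDn hDn, commutator_comm,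
      commutator_eq_bot_iff_le_centralizer]
    exact h7
  have h9 : ⁅⁅Q, ⁅D, D⁆⁆, ⁅D, D⁆⁆ = ⊥ := by
    rw [commutator_eq_bot_iff_le_centralizer]
    refine h8.trans (inf_le_right.trans ?_)
    exact centralizer_le hD'D
  have h10 := Cfsg.Agent.Lib.Helper24.commutator_eq_bot_of_coprime
    (hD'D.trans (hDM.trans hMQ))
    (Nat.Coprime.coprime_dvd_left (card_dvd_of_le hD'D) hcopDQ) h9
  rw [commutator_comm, commutator_eq_bot_iff_le_centralizer] at h10
  exact h10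

end C152

end Cfsg.Agent.Lib.Helper23U
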