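import Cfsg.Agent.Lib.Helper23.BGU13
import Cfsg.Agent.Lib.Helper25.NilpotentCoprime
import Cfsg.Agent.Lib.Helper72.BG37b
import Cfsg.Agent.Lib.Helper47.Ncl
import Cfsg.Agent.Lib.Helper34.BG14Pc
import Cfsg.Agent.Lib.Helper10.BG124
import Cfsg.Agent.S1439
import Cfsg.Agent.S1420

/-!
# Row S1356 (BG 15.3?): `M'' ≤ F(M)`, `F(M) = C_M(M_F) M_F`, `F(M) ≤ M'` if `κ(M) ≠ ∅` (helper23)
-/

set_option autoImplicit false
set_option linter.unusedVariables false
set_option linter.unusedSimpArgs false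
set_option linter.unusedSectionVars false
set_option linter.deprecated false
set_option linter.style.haveILetI false

namespace Cfsg.Agent.Lib.Helper23U

open Cfsg Subgroup
open Cfsg.Agent.Lib.Helper24 Cfsg.Agent.Lib.Helper34 Cfsg.Agent.Lib.Helper31.BG11
open Cfsg.Agent.Lib.Helper34.BGRows
open scoped commutatorElement Pointwise

universe u

variable {G : Type u} [Group G] [Finite G]

theorem fittingOf_nilpotent (M : Subgroup G) : Group.IsNilpotent (fittingOf M) := by
  haveI := Cfsg.Agent.Lib.Helper1.fittingSubgroup_isNilpotent (G := ↥M)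
  exact Group.nilpotent_of_mulEquiv
    ((fittingSubgroup ↥M).equivMapOfInjective M.subtype M.subtype_injective)

theorem fittingHallOf_le_fittingOf (M : Subgroup G) : fittingHallOf M ≤ fittingOf M :=
  Cfsg.Agent.Lib.Helper72.le_fittingOf (Cfsg.Agent.Lib.Helper23.fittingHallOf_le M)
    (fittingHallOf_norm M) (fittingHallOf_nilpotent M)

/-- `F(M) ≤ C_M(M_F) M_F` -/
theorem fittingOf_le_sup (M : Subgroup G) :
    fittingOf M ≤ (M ⊓ centralizer (fittingHallOf M : Set G)) ⊔ fittingHallOf M := by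
  intro x hx
  have hxM := fittingOf_le M hx
  have hle := Cfsg.Agent.Lib.Helper23.fittingHallOf_le M
  have hcop := fittingHallOf_coprime M
  have h1 : x ^ (fittingHallOf M).relIndex M ∈ fittingHallOf M :=
    BG16.pow_relIndex_mem hle (fittingHallOf_norm M) hxM
  have h2 : x ^ Nat.card (fittingHallOf M) ∈ M ⊓ centralizer (fittingHallOf M : Set G) := by
    refine mem_inf.2 ⟨M.pow_mem hxM _, ?_⟩
    rw [mem_centralizer_iff]
    intro z hz
    apply Cfsg.Agent.Lib.Helper25.commute_of_coprime_orderOf_of_mem (fittingOf_nilpotent M)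
      (fittingHallOf_le_fittingOf M hz) ((fittingOf M).pow_mem hx _)
    have hz1 : orderOf z ∣ Nat.card (fittingHallOf M) := by
      have := orderOf_dvd_natCard (⟨z, hz⟩ : fittingHallOf M)
      rwa [Subgroup.orderOf_mk] at this
    have hx1 : orderOf (x ^ Nat.card (fittingHallOf M)) ∣ (fittingHallOf M).relIndex M := by
      apply orderOf_dvd_of_pow_eq_one
      rw [← pow_mul, Cfsg.Agent.Lib.Helper23.card_mul_relIndex hle]
      have h3 : (⟨x, hxM⟩ : M) ^ Nat.card M = 1 := pow_card_eq_one'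
      have h4 := congrArg Subtype.val h3
      rwa [Subgroup.coe_pow, Subgroup.coe_one] at h4
    exact Nat.Coprime.coprime_dvd_left hz1 (Nat.Coprime.coprime_dvd_right hx1 hcop)
  exact BG16.mem_of_pow_mem_of_coprime hcop (mem_sup_left h2) (mem_sup_right h1)

namespace C152

variable {M S K : Subgroup G} {q : ℕ} [hqF : Fact q.Prime]

/-- `O_q(M) C_{M_σ}(O_q(M))` is nilpotent -/
theorem T_nilpotent (h : C152 M S K q) :
    Group.IsNilpotent ↥(pCoreOf q M ⊔ (S ⊓ centralizer (pCoreOf q M : Set G))) := by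
  set Q := pCoreOf q M with hQdef
  set C := S ⊓ centralizer (Q : Set G) with hCdef
  set N := Q ⊓ centralizer (Q : Set G) with hNdef
  have hNC : N ≤ C := inf_le_inf h.Q_le le_rfl
  have hn : C ≤ normalizer (N : Set G) := by
    refine le_trans ?_ (centralizer_le_normalizer (N : Set G))
    exact inf_le_right.trans (centralizer_le (inf_le_left : N ≤ Q))
  have hnd : ¬ q ∣ N.relIndex C := by
    intro hd
    obtain ⟨P, hP, -⟩ := exists_isSylowIn_ge (bot_le : (⊥ : Subgroup G) ≤ C)
      (IsPGroup.of_bot (p := q))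
    have h1 : P ≤ N := by
      apply le_inf _ (hP.1.trans inf_le_right)
      intro y hy
      obtain ⟨n, hn⟩ := hP.2.1 ⟨y, hy⟩
      have hn' : y ^ q ^ n = 1 := by simpa using congrArg Subtype.val hn
      exact h.qelem ((hP.1.trans inf_le_left) hy) hn'
    exact hP.2.2 (hd.trans (relIndex_dvd_of_le_left C h1))
  have hNp : IsPGroup q N := h.Qp.to_le inf_le_left
  have hcop : (Nat.card N).Coprime (N.relIndex C) := by
    obtain ⟨n, hn⟩ := IsPGroup.iff_card.1 hNp
    rw [hn]
    exact Nat.Coprime.pow_left _ ((Nat.Prime.coprime_iff_not_dvd hqF.out).2 hnd)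
  obtain ⟨R, hRC, hRcard, hRsup⟩ := Cfsg.Agent.Lib.Helper1.sz_exists_rel N C hNC hn hcop
  obtain ⟨D₁, hD₁, -, hRD⟩ := (Cfsg.Agent.S3745.result ⊥ S bot_le (by simp) h.solvS {p | p ≠ q}).2.2
    R (hRC.trans inf_le_left) bot_le (by
      intro p hp hd hpq
      have hpq' : p = q := hpq
      rw [hRcard, hpq'] at hd
      exact hnd hd)
  have hD₁n : Group.IsNilpotent D₁ := (h.main.2.2.2.2 D₁ (h.compl_of_hall hD₁)).1
  have hRn : Group.IsNilpotent R := isNilpotent_of_le hRD hD₁n
  have hT : Q ⊔ C = Q ⊔ R := by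
    apply le_antisymm
    · apply sup_le le_sup_left
      rw [← hRsup]
      exact sup_le le_sup_right (inf_le_left.trans le_sup_left)
    · exact sup_le_sup le_rfl hRC
  rw [hT]
  apply nilpotent_sup_of_commute h.Qp.isNilpotent hRn
  intro a ha b hb
  exact (mem_centralizer_iff.1 (mem_inf.1 (hRC hb)).2) a ha

theorem T_le_fittingOf (h : C152 M S K q) :
    pCoreOf q M ⊔ (S ⊓ centralizer (pCoreOf q M : Set G)) ≤ fittingOf M := by
  apply Cfsg.Agent.Lib.Helper72.le_fittingOf (sup_le (h.Q_le.trans h.compl.1)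
    (inf_le_left.trans h.compl.1)) _ h.T_nilpotent
  apply Cfsg.Agent.Lib.Helper47.le_normalizer_sup h.QM
  exact (le_inf h.Sn h.QM).trans (normalizer_inf_le_centralizer _ _)

/-- `M_σ' ≤ F(M)` -/
theorem derived_le_fittingOf (h : C152 M S K q) : ⁅S, S⁆ ≤ fittingOf M := by
  obtain ⟨D, hD, hKD⟩ := h.exists_inv
  refine le_trans ?_ h.T_le_fittingOf
  refine (commutator_le_sup_of_compl hD (h.compl.1.trans h.QM)).trans ?_
  apply sup_le_sup le_rfl
  apply le_inf _ (h.derived_cent hD hKD)
  exact commutator_le.2 (fun a ha b hb => S.mul_mem (S.mul_mem (S.mul_mem (hD.2.1 ha) (hD.2.1 hb))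
    (S.inv_mem (hD.2.1 ha))) (S.inv_mem (hD.2.1 hb)))

end C152

/-- `F(M) ≤ M'` if `κ(M)` is not empty -/
theorem fittingOf_le_commutator (hG : IsMinSimpleOddOrder G) (h51 : H1351 G) (h30 : H1430 G)
    {M : Subgroup G} (hM : IsCoatom M) (hκ : (kappa M).Nonempty) : fittingOf M ≤ ⁅M, M⁆ := by
  have hU := ut hG
  obtain ⟨hYc, hYτ, hF⟩ := Cfsg.Agent.S1439.result hG M hM
  set Y := piCoreOf {q | q.Prime ∧ q ∉ sigma M} (fittingOf M) with hYdef
  rw [hF]
  apply sup_le
  · exact (fittingOf_le _).trans (Cfsg.Agent.Lib.Helper10.BG124.sc_le_commutator hG hU hM)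
  obtain ⟨p, hp⟩ := hκ
  obtain ⟨K, hK⟩ := (h51 M hM).1
  haveI : Fact p.Prime := ⟨hp.1⟩
  have hpK : p ∣ Nat.card K := by
    have h1 := Cfsg.Agent.Lib.Helper23.card_mul_relIndex hK.1
    have h2 : p ∣ Nat.card K * K.relIndex M := h1 ▸ hp.2.1
    exact (hp.1.dvd_mul.1 h2).resolve_right (hK.2.2 p hp.1 hp)
  obtain ⟨k, hk⟩ := exists_prime_orderOf_dvd_card' (G := K) p hpK
  have hko : orderOf (k : G) = p := by rw [← hk, Subgroup.orderOf_coe]
  have hk1 : (k : G) ≠ 1 := by
    intro h
    rw [h, orderOf_one] at hko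
    exact hp.1.one_lt.ne hko
  have hK1 : K ≠ ⊥ := by
    intro h
    have h2 : (k : G) ∈ (⊥ : Subgroup G) := h ▸ k.2
    exact hk1 (mem_bot.1 h2)
  obtain ⟨h30a, -, h30c⟩ := h30 M hM K hK hK1
  have hX := (h30c (zpowers (k : G)) (by rw [zpowers_le]; exact k.2)
    (by rw [Nat.card_zpowers, hko]; exact hp.1)).1
  have hYM : Y ≤ M := (Cfsg.Agent.Lib.Helper22.piCoreOf_le _ _).trans (fittingOf_le M)
  have hYn : M ≤ normalizer (Y : Set G) :=
    (fittingOf_norm M).trans (Cfsg.Agent.Lib.Helper22.normalizer_le_normalizer_piCoreOf _ _)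
  have hkM : (k : G) ∈ M := hK.1 k.2
  have hfix : ∀ y ∈ Y, (k : G) * y = y * k → y = 1 := by
    intro y hy hc
    by_contra hy1
    have h1 : y ∈ M ⊓ normalizer (zpowers (k : G) : Set G) := by
      refine mem_inf.2 ⟨hYM hy, ?_⟩
      apply centralizer_le_normalizer
      rw [mem_centralizer_iff]
      intro z hz
      obtain ⟨n, rfl⟩ := hz
      exact (Commute.zpow_left (show Commute (k : G) y from hc) n).eq
    rw [hX] at h1
    have hcop := cop_sc_kappa hK
    have hcard : Nat.card (K ⊔ (sigmaCore M ⊓ centralizer (K : Set G)) : Subgroup G) =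
        Nat.card K * Nat.card ↥(sigmaCore M ⊓ centralizer (K : Set G)) := by
      apply Cfsg.Agent.Lib.Helper1.card_sup_of_disjoint
      · refine le_trans ?_ (centralizer_le_normalizer _)
        rw [le_centralizer_iff]
        exact inf_le_right
      · exact disjoint_of_coprime_natCard
          (Nat.Coprime.coprime_dvd_right (card_dvd_of_le inf_le_left) hcop.symm)
    have ho1 : orderOf y ≠ 1 := fun h => hy1 (orderOf_eq_one_iff.1 h)
    obtain ⟨r, hr, hrd⟩ := Nat.exists_prime_and_dvd ho1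
    have hrY : r ∣ Nat.card Y := by
      have := orderOf_dvd_natCard (⟨y, hy⟩ : Y)
      rw [Subgroup.orderOf_mk] at this
      exact hrd.trans this
    have hτ := hYτ r hr hrY
    have hrKK : r ∣ Nat.card K * Nat.card ↥(sigmaCore M ⊓ centralizer (K : Set G)) := by
      rw [← hcard]
      have := orderOf_dvd_natCard
        (⟨y, h1⟩ : (K ⊔ (sigmaCore M ⊓ centralizer (K : Set G)) : Subgroup G))
      rw [Subgroup.orderOf_mk] at this
      exact hrd.trans this
    rcases (hr.dvd_mul).1 hrKK with h | h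
    · exact hτ.2.2.2 (BG14P.kappa_rank_one (hK.2.1 r hr h))
    · exact hτ.2.1 (sc_primes M hr (h.trans (card_dvd_of_le inf_le_left)))
  intro y hy
  let f : Y → Y := fun y => ⟨k * y * (k : G)⁻¹ * (y : G)⁻¹,
    Y.mul_mem (conj_mem_of_le_normalizer hYn hkM y.2) (Y.inv_mem y.2)⟩
  have hinj : Function.Injective f := by
    intro a b hab
    have h1 : (k : G) * a * (k : G)⁻¹ * (a : G)⁻¹ = k * b * (k : G)⁻¹ * (b : G)⁻¹ :=
      congrArg Subtype.val hab
    have h3 : (a : G) * (k : G)⁻¹ * (a : G)⁻¹ = b * (k : G)⁻¹ * (b : G)⁻¹ := by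
      have := congrArg (fun t => (k : G)⁻¹ * t) h1
      simpa [mul_assoc] using this
    have h2 : (k : G) * ((b : G)⁻¹ * a) = ((b : G)⁻¹ * a) * k := by
      calc (k : G) * ((b : G)⁻¹ * a) = k * ((b : G)⁻¹ * (a * (k : G)⁻¹ * (a : G)⁻¹) * a) * k := by
            group
        _ = k * ((b : G)⁻¹ * (b * (k : G)⁻¹ * (b : G)⁻¹) * a) * k := by rw [h3]
        _ = ((b : G)⁻¹ * a) * k := by group
    have h4 := hfix _ (Y.mul_mem (Y.inv_mem b.2) a.2) h2
    apply Subtype.ext
    exact (inv_mul_eq_one.1 h4).symm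
  obtain ⟨y₀, hy₀⟩ := Finite.surjective_of_injective hinj ⟨y, hy⟩
  have h5 : y = k * y₀ * (k : G)⁻¹ * (y₀ : G)⁻¹ := (congrArg Subtype.val hy₀).symm
  rw [h5]
  exact commutator_mem_commutator hkM (hYM y₀.2)

theorem row1356 (hG : IsMinSimpleOddOrder G) (h51 : H1351 G) (h52 : H1352 G) (h73 : H1373 G)
    (h30 : H1430 G) (h31 : H1431 G) : H1356 G := by
  intro M hM
  have hU := ut hG
  have hMn : M ≤ normalizer (M : Set G) := le_normalizer
  by_cases hne : fittingHallOf M = sigmaCore M
  · have hnil : Group.IsNilpotent (sigmaCore M) := (fittingHallOf_eq_sc_iff hG hU hM).1 hne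
    have hSF : sigmaCore M ≤ fittingOf M :=
      Cfsg.Agent.Lib.Helper72.le_fittingOf (sc_le M) (sc_norm M) hnil
    refine ⟨?_, ?_, fittingOf_le_commutator hG h51 h30 hM⟩
    · obtain ⟨E, hE, -⟩ := BG13.exists_compl_ge hG hU hM (K := ⊥) bot_le (by
        intro r hr hd
        rw [card_bot] at hd
        exact absurd (Nat.dvd_one.1 hd) hr.one_lt.ne')
      have hcopSE : (Nat.card (sigmaCore M)).Coprime (Nat.card E) := by
        apply Nat.coprime_of_dvd
        intro p hp h1 h2
        exact BG13.compl_not_sigma hG hU hM hE hp h2 (sc_primes M hp h1)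
      have hE' : IsComplIn (sigmaCore M) E M :=
        BG13.isComplIn_of_card (sc_le M) hE.1 hcopSE
          (by rw [mul_comm]; exact Cfsg.Agent.Lib.Helper23.complIn_card_mul hE)
      have h1 := commutator_le_sup_of_compl hE' (sc_norm M)
      have hab := (Cfsg.Agent.S1420.result hG M hM E hE).2.1
      have hE'E : ⁅E, E⁆ ≤ E := commutator_le_self E
      have hcop' : (Nat.card (sigmaCore M)).Coprime (Nat.card ↥⁅E, E⁆) :=
        Nat.Coprime.coprime_dvd_right (card_dvd_of_le hE'E) hcopSE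
      have hc2 : IsComplIn (sigmaCore M) ⁅E, E⁆ (sigmaCore M ⊔ ⁅E, E⁆) := by
        apply BG13.isComplIn_of_card le_sup_left le_sup_right hcop'
        rw [sup_comm, mul_comm]
        exact (Cfsg.Agent.Lib.Helper1.card_sup_of_disjoint ((hE'E.trans hE.1).trans (sc_norm M))
          (disjoint_of_coprime_natCard hcop'.symm)).symm
      have h2 : ⁅sigmaCore M ⊔ ⁅E, E⁆, sigmaCore M ⊔ ⁅E, E⁆⁆ ≤ sigmaCore M := by
        apply commutator_le_of_compl hc2
          ((sup_le (sc_le M) (hE'E.trans hE.1)).trans (sc_norm M))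
        intro a ha b hb
        have h3 : (⟨a, ha⟩ : ↥⁅E, E⁆) * ⟨b, hb⟩ = ⟨b, hb⟩ * ⟨a, ha⟩ := hab.is_comm.comm _ _
        exact congrArg Subtype.val h3
      exact ((commutator_mono h1 h1).trans h2).trans hSF
    · apply le_antisymm (fittingOf_le_sup M)
      apply sup_le _ (fittingHallOf_le_fittingOf M)
      rw [hne]
      obtain ⟨X, hXc, -, hX⟩ := row1438a hG h30 h31 hM (le_refl (sigmaCore M))
        (Cfsg.Agent.Lib.Helper23T.sc_ne_bot hG hU hM) (by rw [relIndex_self]; exact Nat.coprime_one_right _)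
      apply Cfsg.Agent.Lib.Helper72.le_fittingOf inf_le_left
        ((le_inf hMn (sc_norm M)).trans (normalizer_inf_le_centralizer _ _))
      have hXle : X ≤ M ⊓ centralizer (sigmaCore M : Set G) := by rw [hX]; exact le_sup_right
      rw [hX]
      apply nilpotent_sup_of_commute (isNilpotent_of_le inf_le_left hnil)
      · haveI := hXc
        letI : CommGroup X := IsCyclic.commGroup
        infer_instance
      · intro a ha b hb
        exact (mem_centralizer_iff.1 (mem_inf.1 (hXle hb)).2) a (mem_inf.1 ha).1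
  · obtain ⟨K, U, hKU⟩ := exists_decomp h51 h52 hM
    obtain ⟨hUb, hq, hc⟩ := cfg_of_ne hG h73 h30 hM hKU hne
    haveI hqF : Fact (Nat.card ↥(sigmaCore M ⊓ centralizer (K : Set G))).Prime := ⟨hq⟩
    set q := Nat.card ↥(sigmaCore M ⊓ centralizer (K : Set G)) with hqdef
    refine ⟨?_, ?_, fittingOf_le_commutator hG h51 h30 hM⟩
    · rw [← (row1437 hG h73 h30 M hM K U hKU hne).2.1]
      exact hc.derived_le_fittingOf
    · apply le_antisymm (fittingOf_le_sup M)
      apply sup_le _ (fittingHallOf_le_fittingOf M)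
      refine le_trans ?_ hc.T_le_fittingOf
      refine le_trans ?_ le_sup_right
      intro x hx
      obtain ⟨hxM, hxC⟩ := mem_inf.1 hx
      have hxQ : x ∈ centralizer (pCoreOf q M : Set G) :=
        centralizer_le hc.Q_le_fittingHallOf hxC
      refine mem_inf.2 ⟨?_, hxQ⟩
      have hp := hc.K_prime
      have h1 : x ^ Nat.card K ∈ sigmaCore M := by
        have := BG16.pow_relIndex_mem hc.compl.1 hc.Sn hxM
        rwa [Cfsg.Agent.Lib.Helper23.complIn_relIndex_left hc.compl] at this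
      have h2 : x ^ Nat.card (sigmaCore M) = 1 := by
        by_contra hy1
        have hyp : (x ^ Nat.card (sigmaCore M)) ^ Nat.card K = 1 := by
          rw [← pow_mul, Cfsg.Agent.Lib.Helper23.complIn_card_mul hc.compl]
          have h3 : (⟨x, hxM⟩ : M) ^ Nat.card M = 1 := pow_card_eq_one'
          have h4 := congrArg Subtype.val h3
          rwa [Subgroup.coe_pow, Subgroup.coe_one] at h4
        haveI : Fact (Nat.card K).Prime := ⟨hp⟩
        have hyo := orderOf_eq_prime hyp hy1
        have hQ1 : pCoreOf q M ≠ ⊥ := by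
          intro hb
          have h5 := hc.Ks_le
          rw [hb, le_bot_iff] at h5
          have h6 := hq
          rw [hqdef, h5, card_bot] at h6
          exact Nat.not_prime_one h6
        have hHall : (Nat.card (pCoreOf q M)).Coprime ((pCoreOf q M).relIndex (sigmaCore M)) := by
          obtain ⟨n, hn⟩ := IsPGroup.iff_card.1 hc.Qp
          rw [hn]
          exact Nat.Coprime.pow_left _ ((Nat.Prime.coprime_iff_not_dvd hq).2 hc.Q_syl)
        exact hall_not_centralized hG h30 h31 hM hc.Q_le hQ1 hHall hp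
          (hKU.hall.2.1 _ hp dvd_rfl) (M.pow_mem hxM _) hyo
          ((centralizer (pCoreOf q M : Set G)).pow_mem hxQ _)
      exact BG16.mem_of_pow_mem_of_coprime hc.cop (by rw [h2]; exact one_mem _) h1

end Cfsg.Agent.Lib.Helper23U
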