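import Cfsg.Agent.Lib.Helper23.BGU1
import Cfsg.Agent.Lib.Helper34.BG13a
import Cfsg.Agent.Lib.Helper34.BG16a
import Cfsg.Agent.Lib.Helper1.Tools

/-!
# BG section 15, group theoretic core of Theorem 15.2, part 2 (helper23)
-/

set_option autoImplicit false
set_option linter.unusedVariables false
set_option linter.unusedSimpArgs false
set_option linter.unusedSectionVars false
set_option linter.deprecated false
set_option linter.style.haveILetI false

namespace Cfsg.Agent.Lib.Helper23U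

open Cfsg Subgroup
open scoped commutatorElement Pointwise

variable {G : Type*} [Group G]

theorem le_normalizer_of_conj_mem {M T : Subgroup G} (h : ∀ m ∈ M, ∀ t ∈ T, m * t * m⁻¹ ∈ T) :
    M ≤ normalizer (T : Set G) := by
  intro m hm
  rw [mem_normalizer_iff]
  intro x
  constructor
  · intro hx
    exact h m hm x hx
  · intro hx
    have := h m⁻¹ (M.inv_mem hm) _ hx
    simpa [mul_assoc] using this

theorem conj_mem_of_le_normalizer {M T : Subgroup G} (h : M ≤ normalizer (T : Set G)) {m t : G}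
    (hm : m ∈ M) (ht : t ∈ T) : m * t * m⁻¹ ∈ T :=
  (mem_normalizer_iff.1 (h hm) t).1 ht

theorem normalizer_inf_le_centralizer (Q D : Subgroup G) :
    normalizer (Q : Set G) ⊓ normalizer (D : Set G) ≤
      normalizer ((Q ⊓ centralizer (D : Set G) : Subgroup G) : Set G) := by
  apply le_normalizer_of_conj_mem
  intro m hm t ht
  obtain ⟨hmQ, hmD⟩ := mem_inf.1 hm
  obtain ⟨htQ, htD⟩ := mem_inf.1 ht
  refine mem_inf.2 ⟨(mem_normalizer_iff.1 hmQ t).1 htQ, ?_⟩
  rw [mem_centralizer_iff]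
  intro d hd
  have h1 : m⁻¹ * d * m⁻¹⁻¹ ∈ D := (mem_normalizer_iff.1 (inv_mem hmD) d).1 hd
  have h2 := (mem_centralizer_iff.1 htD) _ h1
  calc d * (m * t * m⁻¹) = m * ((m⁻¹ * d * m⁻¹⁻¹) * t) * m⁻¹ := by group
    _ = m * (t * (m⁻¹ * d * m⁻¹⁻¹)) * m⁻¹ := by rw [h2]
    _ = m * t * m⁻¹ * d := by group

/-- the hypotheses of the group theoretic core of BG 15.2 -/
structure C152 (M S K : Subgroup G) (q : ℕ) : Prop where
  solv : Group.IsSolvable M
  odd : Odd (Nat.card M)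
  compl : IsComplIn S K M
  Sn : M ≤ normalizer (S : Set G)
  cop : (Nat.card S).Coprime (Nat.card K)
  K1 : K ≠ ⊥
  pr : ∀ k ∈ K, k ≠ 1 → S ⊓ centralizer ({k} : Set G) = S ⊓ centralizer (K : Set G)
  hq : Nat.card ↥(S ⊓ centralizer (K : Set G)) = q
  comm : ⁅S, K⁆ = S
  nn : ¬ Group.IsNilpotent S

namespace C152

variable [Finite G] {M S K : Subgroup G} {q : ℕ} [hqF : Fact q.Prime]

theorem sup_eq (h : C152 M S K q) : S ⊔ K = M := by
  apply le_antisymm (sup_le h.compl.1 h.compl.2.1)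
  intro m hm
  obtain ⟨a, ha, b, hb, rfl⟩ := h.compl.2.2.2 m hm
  exact mul_mem (mem_sup_left ha) (mem_sup_right hb)

theorem q_dvd (h : C152 M S K q) : q ∣ Nat.card S := by
  rw [← h.hq]
  exact card_dvd_of_le inf_le_left

theorem cop_qK (h : C152 M S K q) : q.Coprime (Nat.card K) :=
  Nat.Coprime.coprime_dvd_left h.q_dvd h.cop

theorem Ks_le (h : C152 M S K q) : S ⊓ centralizer (K : Set G) ≤ pCoreOf q M :=
  cent_le_pCoreOf h.solv h.odd h.compl.1 h.Sn h.compl.2.1 h.sup_eq h.cop h.pr h.hq h.comm h.nn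

theorem Q_le (h : C152 M S K q) : pCoreOf q M ≤ S := by
  intro y hy
  obtain ⟨n, hn⟩ := (Cfsg.Agent.Lib.Helper47.pCoreOf_isPGroup (p := q) M) ⟨y, hy⟩
  have hn' : y ^ q ^ n = 1 := by simpa using congrArg Subtype.val hn
  have hyM : y ∈ M := Cfsg.Agent.Lib.Helper47.pCoreOf_le M hy
  have h1 := Cfsg.Agent.Lib.Helper34.BG16.pow_relIndex_mem h.compl.1 h.Sn hyM
  rw [Cfsg.Agent.Lib.Helper23.complIn_relIndex_left h.compl] at h1
  refine Cfsg.Agent.Lib.Helper34.BG16.mem_of_pow_mem_of_coprime (n := q ^ n) (k := Nat.card K) ?_ ?_ h1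
  · exact Nat.Coprime.pow_left n h.cop_qK
  · rw [hn']; exact S.one_mem

theorem exists_k (h : C152 M S K q) : ∃ k ∈ K, ∃ r : ℕ, r.Prime ∧ orderOf k = r := by
  have h1 : Nat.card K ≠ 1 := by
    intro h2
    exact h.K1 ((card_eq_one (H := K)).1 h2)
  have hr := Nat.minFac_prime h1
  haveI : Fact (Nat.card K).minFac.Prime := ⟨hr⟩
  obtain ⟨k, hk⟩ := exists_prime_orderOf_dvd_card' (G := K) (Nat.card K).minFac (Nat.minFac_dvd _)
  refine ⟨k, k.2, _, hr, ?_⟩
  rw [← hk, Subgroup.orderOf_coe]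

theorem qelem (h : C152 M S K q) {y : G} (hy : y ∈ S) {n : ℕ} (hyq : y ^ q ^ n = 1) :
    y ∈ pCoreOf q M := by
  obtain ⟨k, hk, r, hr, hkr⟩ := h.exists_k
  have hk1 : k ≠ 1 := by
    intro h1
    rw [h1, orderOf_one] at hkr
    exact hr.one_lt.ne hkr
  refine mem_pCoreOf_of_fpf hr h.compl.1 h.Sn (h.compl.2.1 hk) (by rw [← hkr]; exact pow_orderOf_eq_one k)
    ?_ h.Q_le ?_ hy hyq
  · apply Nat.Coprime.coprime_dvd_right _ h.cop
    rw [← hkr]
    have := orderOf_dvd_natCard (⟨k, hk⟩ : K)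
    rwa [Subgroup.orderOf_mk] at this
  · rw [h.pr k hk hk1]
    exact h.Ks_le

theorem Q_syl (h : C152 M S K q) : ¬ q ∣ (pCoreOf q M).relIndex S := by
  let P : Sylow q ↥S := default
  have h1 : (P : Subgroup ↥S).map S.subtype ≤ pCoreOf q M := by
    rintro _ ⟨x, hx, rfl⟩
    obtain ⟨n, hn⟩ := P.2 ⟨x, hx⟩
    have hn' : ((x : ↥S) : G) ^ q ^ n = 1 := by
      have := congrArg Subtype.val (congrArg Subtype.val hn)
      simpa using this
    exact h.qelem x.2 hn'
  have h2 := relIndex_dvd_of_le_left S h1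
  have h3 : ((P : Subgroup ↥S).map S.subtype).relIndex S = (P : Subgroup ↥S).index := by
    unfold relIndex subgroupOf
    rw [comap_map_eq_self_of_injective S.subtype_injective]
  rw [h3] at h2
  intro h4
  exact P.not_dvd_index (h4.trans h2)

theorem QM (h : C152 M S K q) : M ≤ normalizer ((pCoreOf q M : Subgroup G) : Set G) :=
  Cfsg.Agent.Lib.Helper47.le_normalizer_pCoreOf M

theorem Qp (h : C152 M S K q) : IsPGroup q (pCoreOf q M) :=
  Cfsg.Agent.Lib.Helper47.pCoreOf_isPGroup M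

theorem prime_dvd_Q (h : C152 M S K q) {p : ℕ} (hp : p.Prime) (hd : p ∣ Nat.card (pCoreOf q M)) :
    p = q := by
  obtain ⟨n, hn⟩ := IsPGroup.iff_card.1 h.Qp
  rw [hn] at hd
  exact (Nat.prime_dvd_prime_iff_eq hp hqF.out).1 (hp.dvd_of_dvd_pow hd)

theorem hall_of_compl (h : C152 M S K q) {D : Subgroup G} (hD : IsComplIn (pCoreOf q M) D S) :
    IsPiHallOf {p | p ≠ q} D S := by
  refine ⟨hD.2.1, ?_, ?_⟩
  · intro p hp hd hpq
    rw [← Cfsg.Agent.Lib.Helper23.complIn_relIndex_left hD] at hd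
    have hpq' : p = q := hpq
    rw [hpq'] at hd
    exact h.Q_syl hd
  · intro p hp hpq hd
    rw [Cfsg.Agent.Lib.Helper23.complIn_relIndex_right hD] at hd
    exact hpq (h.prime_dvd_Q hp hd)

theorem compl_of_hall (h : C152 M S K q) {D : Subgroup G} (hD : IsPiHallOf {p | p ≠ q} D S) :
    IsComplIn (pCoreOf q M) D S := by
  have h1 := Cfsg.Agent.Lib.Helper23.card_mul_relIndex h.Q_le
  have h2 := Cfsg.Agent.Lib.Helper23.card_mul_relIndex hD.1
  have h3 : Nat.card D = (pCoreOf q M).relIndex S := by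
    apply Cfsg.Agent.Lib.Helper62.pi_part_unique (π := {p | p ≠ q}) (b := D.relIndex S)
      (b' := Nat.card (pCoreOf q M)) _ hD.2.1 hD.2.2
    · intro p hp hd hpq
      have hpq' : p = q := hpq
      rw [hpq'] at hd
      exact h.Q_syl hd
    · intro p hp hpq hd
      exact hpq (h.prime_dvd_Q hp hd)
    · rw [h2, mul_comm, h1]
  apply Cfsg.Agent.Lib.Helper34.BG13.isComplIn_of_card h.Q_le hD.1
  · obtain ⟨n, hn⟩ := IsPGroup.iff_card.1 h.Qp
    rw [hn]
    apply Nat.Coprime.pow_left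
    rw [Nat.Prime.coprime_iff_not_dvd hqF.out]
    intro hd
    exact hD.2.1 q hqF.out hd rfl
  · rw [h3, h1]

theorem solvS (h : C152 M S K q) : Group.IsSolvable S :=
  haveI := h.solv
  solvable_of_solvable_injective (inclusion_injective h.compl.1)

theorem exists_inv (h : C152 M S K q) :
    ∃ D : Subgroup G, IsComplIn (pCoreOf q M) D S ∧ K ≤ normalizer (D : Set G) := by
  obtain ⟨D, hD, hKD⟩ := Cfsg.Agent.Lib.Helper62.exists_invariant_hall K S
    (h.compl.2.1.trans h.Sn) h.cop.symm h.solvS {p | p ≠ q}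
  exact ⟨D, h.compl_of_hall hD, hKD⟩

end C152

end Cfsg.Agent.Lib.Helper23U
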