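import Cfsg.Agent.Lib.Helper23.BGU2

/-!
# BG section 15, group theoretic core of Theorem 15.2, part 3 (helper23)
-/

set_option autoImplicit false
set_option linter.unusedVariables false
set_option linter.unusedSimpArgs false
set_option linter.unusedSectionVars false
set_option linter.deprecated false
set_option linter.style.haveILetI false

namespace Cfsg.Agent.Lib.Helper23U

open Cfsg Subgroup
open scoped commutatorElement Pointwise

variable {G : Type*} [Group G]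

theorem exists_ne_one_of_ne_bot {H : Subgroup G} (h : H ≠ ⊥) : ∃ k ∈ H, k ≠ 1 := by
  by_contra hc
  push Not at hc
  exact h ((eq_bot_iff_forall H).2 hc)

namespace C152

variable [Finite G] {M S K : Subgroup G} {q : ℕ} [hqF : Fact q.Prime] {D : Subgroup G}

theorem fpfD (h : C152 M S K q) (hD : IsComplIn (pCoreOf q M) D S) :
    ∀ k ∈ K, k ≠ 1 → ∀ d ∈ D, k * d = d * k → d = 1 := by
  intro k hk hk1 d hd hkd
  have h1 : d ∈ S ⊓ centralizer ({k} : Set G) := by
    refine mem_inf.2 ⟨hD.2.1 hd, ?_⟩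
    rw [mem_centralizer_iff]
    intro x hx
    rw [Set.mem_singleton_iff.1 hx]
    exact hkd
  rw [h.pr k hk hk1] at h1
  have h2 : d ∈ pCoreOf q M ⊓ D := ⟨h.Ks_le h1, hd⟩
  rw [hD.2.2.1] at h2
  exact mem_bot.1 h2

theorem nilD (h : C152 M S K q) (hD : IsComplIn (pCoreOf q M) D S)
    (hKD : K ≤ normalizer (D : Set G)) : Group.IsNilpotent D := by
  obtain ⟨k, hk, r, hr, hkr⟩ := h.exists_k
  have hk1 : k ≠ 1 := by
    intro h1
    rw [h1, orderOf_one] at hkr
    exact hr.one_lt.ne hkr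
  refine Cfsg.Agent.Lib.Helper31.BG11.nilpotent_of_fpf_elem hr (x := k) (hKD hk)
    (by rw [← hkr]; exact pow_orderOf_eq_one k) ?_
  rw [eq_bot_iff]
  intro d hd
  obtain ⟨hd1, hd2⟩ := mem_inf.1 hd
  rw [mem_bot]
  exact h.fpfD hD k hk hk1 d hd1 ((mem_centralizer_iff.1 hd2) k (Set.mem_singleton _))

theorem sup_QD (h : C152 M S K q) (hD : IsComplIn (pCoreOf q M) D S) : pCoreOf q M ⊔ D = S := by
  apply le_antisymm (sup_le hD.1 hD.2.1)
  intro m hm
  obtain ⟨a, ha, b, hb, rfl⟩ := hD.2.2.2 m hm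
  exact mul_mem (mem_sup_left ha) (mem_sup_right hb)

theorem not_cent (h : C152 M S K q) (hD : IsComplIn (pCoreOf q M) D S)
    (hKD : K ≤ normalizer (D : Set G)) : ¬ pCoreOf q M ≤ centralizer (D : Set G) := by
  intro hc
  apply h.nn
  rw [← h.sup_QD hD]
  apply nilpotent_sup_of_commute h.Qp.isNilpotent (h.nilD hD hKD)
  intro a ha b hb
  exact ((mem_centralizer_iff.1 (hc ha)) b hb).symm

theorem D_ne (h : C152 M S K q) (hD : IsComplIn (pCoreOf q M) D S)
    (hKD : K ≤ normalizer (D : Set G)) : D ≠ ⊥ := by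
  intro hb
  apply h.not_cent hD hKD
  rw [hb]
  intro x hx
  rw [mem_centralizer_iff]
  intro y hy
  rw [mem_bot.1 hy]
  simp

theorem copD (h : C152 M S K q) (hD : IsComplIn (pCoreOf q M) D S) : q.Coprime (Nat.card D) := by
  rw [Nat.Prime.coprime_iff_not_dvd hqF.out]
  intro hd
  exact (h.hall_of_compl hD).2.1 q hqF.out hd rfl

theorem formula (h : C152 M S K q) (hD : IsComplIn (pCoreOf q M) D S)
    (hKD : K ≤ normalizer (D : Set G)) {H K₁ : Subgroup G} (hH : H ≤ pCoreOf q M)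
    (hDH : D ≤ normalizer (H : Set G)) (hK₁ : K₁ ≤ K) (hK₁1 : K₁ ≠ ⊥)
    (hKH : K₁ ≤ normalizer (H : Set G)) :
    Nat.card ↥(H ⊓ centralizer ((D ⊔ K₁ : Subgroup G) : Set G)) ^ Nat.card K₁ * Nat.card H =
      Nat.card ↥(H ⊓ centralizer (K₁ : Set G)) ^ Nat.card K₁ *
        Nat.card ↥(H ⊓ centralizer (D : Set G)) := by
  have hcDK : (Nat.card D).Coprime (Nat.card K₁) :=
    Nat.Coprime.coprime_dvd_left (card_dvd_of_le hD.2.1)
      (Nat.Coprime.coprime_dvd_right (card_dvd_of_le hK₁) h.cop)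
  have hcH : (Nat.card H).Coprime (Nat.card ↥(D ⊔ K₁)) := by
    obtain ⟨n, hn⟩ := IsPGroup.iff_card.1 (h.Qp.to_le hH)
    rw [hn]
    apply Nat.Coprime.pow_left
    have h1 : Nat.card ↥(K₁ ⊔ D) ∣ Nat.card K₁ * Nat.card D :=
      Cfsg.Agent.Lib.Helper1.card_sup_dvd (hK₁.trans hKD)
    rw [sup_comm]
    apply Nat.Coprime.coprime_dvd_right h1
    exact Nat.Coprime.mul_right
      (Nat.Coprime.coprime_dvd_right (card_dvd_of_le hK₁) h.cop_qK) (h.copD hD)
  refine Cfsg.Agent.S1545.result D K₁ H (h.D_ne hD hKD) hK₁1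
    (disjoint_of_coprime_natCard hcDK).eq_bot ?_ ?_ ?_
    (disjoint_of_coprime_natCard hcH).eq_bot ?_ hcH
  · intro e he u hu
    exact conj_mem_of_le_normalizer hKD (hK₁ he) hu
  · intro e he he1 u hu heu
    exact h.fpfD hD e (hK₁ he) he1 u hu heu
  · intro x hx y hy
    exact conj_mem_of_le_normalizer (sup_le hDH hKH) hx hy
  · haveI := (h.Qp.to_le hH).isNilpotent
    infer_instance

theorem Q_inf_cent (h : C152 M S K q) {K₁ : Subgroup G} (hK₁ : K₁ ≤ K) (hK₁1 : K₁ ≠ ⊥) :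
    pCoreOf q M ⊓ centralizer (K₁ : Set G) = S ⊓ centralizer (K : Set G) := by
  apply le_antisymm
  · obtain ⟨k, hk, hk1⟩ := exists_ne_one_of_ne_bot hK₁1
    rw [← h.pr k (hK₁ hk) hk1]
    apply inf_le_inf h.Q_le
    apply centralizer_le
    intro x hx
    rw [Set.mem_singleton_iff.1 hx]
    exact hk
  · exact le_inf h.Ks_le (inf_le_right.trans (centralizer_le hK₁))

theorem card_le_Ks (h : C152 M S K q) {Z : Subgroup G} (hZ : Z ≤ S ⊓ centralizer (K : Set G)) :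
    Nat.card Z = 1 ∨ Nat.card Z = q := by
  have h1 := card_dvd_of_le hZ
  rw [h.hq] at h1
  exact (Nat.dvd_prime hqF.out).1 h1

theorem Z_bot (h : C152 M S K q) (hD : IsComplIn (pCoreOf q M) D S)
    (hKD : K ≤ normalizer (D : Set G)) {K₁ : Subgroup G} (hK₁ : K₁ ≤ K) (hK₁1 : K₁ ≠ ⊥) :
    Nat.card ↥(pCoreOf q M ⊓ centralizer ((D ⊔ K₁ : Subgroup G) : Set G)) = 1 := by
  have hle : pCoreOf q M ⊓ centralizer ((D ⊔ K₁ : Subgroup G) : Set G) ≤
      S ⊓ centralizer (K : Set G) := by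
    rw [← h.Q_inf_cent hK₁ hK₁1]
    exact inf_le_inf le_rfl (centralizer_le (le_sup_right : K₁ ≤ D ⊔ K₁))
  rcases h.card_le_Ks hle with h1 | h1
  · exact h1
  · exfalso
    have h2 := h.formula hD hKD (H := pCoreOf q M) le_rfl
      ((hD.2.1.trans h.compl.1).trans h.QM) hK₁ hK₁1 ((hK₁.trans h.compl.2.1).trans h.QM)
    rw [h1, h.Q_inf_cent hK₁ hK₁1, h.hq] at h2
    have h3 : Nat.card (pCoreOf q M) = Nat.card ↥(pCoreOf q M ⊓ centralizer (D : Set G)) :=
      Nat.eq_of_mul_eq_mul_left (pow_pos hqF.out.pos _) h2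
    apply h.not_cent hD hKD
    have h4 : pCoreOf q M ⊓ centralizer (D : Set G) = pCoreOf q M :=
      eq_of_le_of_card_ge inf_le_left h3.le
    rw [← h4]
    exact inf_le_right

theorem card_Q (h : C152 M S K q) (hD : IsComplIn (pCoreOf q M) D S)
    (hKD : K ≤ normalizer (D : Set G)) {K₁ : Subgroup G} (hK₁ : K₁ ≤ K) (hK₁1 : K₁ ≠ ⊥) :
    Nat.card (pCoreOf q M) =
      Nat.card ↥(pCoreOf q M ⊓ centralizer (D : Set G)) * q ^ Nat.card K₁ := by
  have h2 := h.formula hD hKD (H := pCoreOf q M) le_rfl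
    ((hD.2.1.trans h.compl.1).trans h.QM) hK₁ hK₁1 ((hK₁.trans h.compl.2.1).trans h.QM)
  rw [h.Z_bot hD hKD hK₁ hK₁1, h.Q_inf_cent hK₁ hK₁1, h.hq, one_pow, one_mul] at h2
  rw [h2, mul_comm]

theorem K_prime (h : C152 M S K q) : (Nat.card K).Prime := by
  obtain ⟨D, hD, hKD⟩ := h.exists_inv
  obtain ⟨k, hk, r, hr, hkr⟩ := h.exists_k
  have hk1 : k ≠ 1 := by
    intro h1
    rw [h1, orderOf_one] at hkr
    exact hr.one_lt.ne hkr
  have h1 := h.card_Q hD hKD (K₁ := zpowers k) (by rw [zpowers_le]; exact hk)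
    (by rw [Ne, zpowers_eq_bot]; exact hk1)
  have h2 := h.card_Q hD hKD (K₁ := K) le_rfl h.K1
  rw [h1, Nat.card_zpowers, hkr] at h2
  have h3 := Nat.eq_of_mul_eq_mul_left Nat.card_pos h2
  have h4 := Nat.pow_right_injective hqF.out.two_le h3
  rw [← h4]
  exact hr

theorem card_inv (h : C152 M S K q) (hD : IsComplIn (pCoreOf q M) D S)
    (hKD : K ≤ normalizer (D : Set G)) {H : Subgroup G} (hH : H ≤ pCoreOf q M)
    (hMH : M ≤ normalizer (H : Set G)) :
    Nat.card H = Nat.card ↥(H ⊓ centralizer (D : Set G)) ∨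
      Nat.card H = Nat.card ↥(H ⊓ centralizer (D : Set G)) * q ^ Nat.card K := by
  have h2 := h.formula hD hKD hH ((hD.2.1.trans h.compl.1).trans hMH) le_rfl h.K1
    (h.compl.2.1.trans hMH)
  have h3 : Nat.card ↥(H ⊓ centralizer ((D ⊔ K : Subgroup G) : Set G)) = 1 := by
    have h4 := card_dvd_of_le (inf_le_inf hH (le_refl (centralizer ((D ⊔ K : Subgroup G) : Set G))))
    rw [h.Z_bot hD hKD le_rfl h.K1] at h4
    exact Nat.dvd_one.1 h4
  rw [h3, one_pow, one_mul] at h2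
  have h5 : H ⊓ centralizer (K : Set G) ≤ S ⊓ centralizer (K : Set G) :=
    inf_le_inf (hH.trans h.Q_le) le_rfl
  rcases h.card_le_Ks h5 with h6 | h6
  · left
    rw [h2, h6, one_pow, one_mul]
  · right
    rw [h2, h6, mul_comm]

end C152

end Cfsg.Agent.Lib.Helper23U
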