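import Cfsg.Agent.Lib.Helper23.BGU3

/-!
# BG section 15, group theoretic core of Theorem 15.2, part 4 (helper23)
-/

set_option autoImplicit false
set_option linter.unusedVariables false
set_option linter.unusedSimpArgs false
set_option linter.unusedSectionVars false
set_option linter.deprecated false
set_option linter.style.haveILetI false

namespace Cfsg.Agent.Lib.Helper23U

open Cfsg Subgroup
open scoped commutatorElement Pointwise

variable {G : Type*} [Group G]

/-- the generators of the Frattini subgroup of a `q`-group `Q` -/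
def phiSet (q : ℕ) (Q : Subgroup G) : Set G :=
  {x | (∃ a ∈ Q, x = a ^ q) ∨ ∃ a ∈ Q, ∃ b ∈ Q, x = a * b * a⁻¹ * b⁻¹}

theorem closure_phiSet_le (q : ℕ) (Q : Subgroup G) : closure (phiSet q Q) ≤ Q := by
  rw [closure_le]
  rintro x (⟨a, ha, rfl⟩ | ⟨a, ha, b, hb, rfl⟩)
  · exact pow_mem ha _
  · exact mul_mem (mul_mem (mul_mem ha hb) (inv_mem ha)) (inv_mem hb)

theorem normalizer_le_normalizer_phi (q : ℕ) (Q : Subgroup G) :
    normalizer (Q : Set G) ≤ normalizer ((closure (phiSet q Q) : Subgroup G) : Set G) := by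
  apply le_normalizer_of_conj_mem
  intro m hm t ht
  have hc : ∀ a ∈ Q, m * a * m⁻¹ ∈ Q := fun a ha => (mem_normalizer_iff.1 hm a).1 ha
  induction ht using closure_induction with
  | mem x hx =>
    apply Subgroup.subset_closure
    rcases hx with ⟨a, ha, rfl⟩ | ⟨a, ha, b, hb, rfl⟩
    · left
      exact ⟨m * a * m⁻¹, hc a ha, by rw [conj_pow]⟩
    · right
      exact ⟨m * a * m⁻¹, hc a ha, m * b * m⁻¹, hc b hb, by group⟩
  | one => simp
  | mul x y _ _ hx hy =>
    have : m * (x * y) * m⁻¹ = (m * x * m⁻¹) * (m * y * m⁻¹) := by group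
    rw [this]
    exact mul_mem hx hy
  | inv x _ hx =>
    have : m * x⁻¹ * m⁻¹ = (m * x * m⁻¹)⁻¹ := by group
    rw [this]
    exact inv_mem hx

/-- non-generation -/
theorem eq_of_sup_phi [Finite G] {q : ℕ} [Fact q.Prime] {Q Q₀ : Subgroup G} (hQ : IsPGroup q Q)
    (hle : Q₀ ≤ Q) (hsup : Q₀ ⊔ closure (phiSet q Q) = Q) : Q₀ = Q := by
  have h12 := Cfsg.Agent.S0012.result q hQ
  have h1 : closure (phiSet q Q) ≤ (frattini ↥Q).map Q.subtype := by
    rw [closure_le]
    rintro x (⟨a, ha, rfl⟩ | ⟨a, ha, b, hb, rfl⟩)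
    · exact ⟨(⟨a, ha⟩ : ↥Q) ^ q, h12.2 _, by simp⟩
    · refine ⟨⁅(⟨a, ha⟩ : ↥Q), ⟨b, hb⟩⁆, h12.1 ?_, by simp [commutatorElement_def]⟩
      rw [commutator_def]
      exact commutator_mem_commutator (mem_top _) (mem_top _)
  have h2 : Q₀.subgroupOf Q ⊔ frattini ↥Q = ⊤ := by
    apply map_injective Q.subtype_injective
    rw [Subgroup.map_sup, map_subgroupOf_eq_of_le hle, ← MonoidHom.range_eq_map, range_subtype]
    apply le_antisymm (sup_le hle (map_subtype_le _))
    conv_lhs => rw [← hsup]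
    exact sup_le_sup le_rfl h1
  have h3 := frattini_nongenerating h2
  exact le_antisymm hle (subgroupOf_eq_top.1 h3)

namespace C152

variable [Finite G] {M S K : Subgroup G} {q : ℕ} [hqF : Fact q.Prime] {D : Subgroup G}

theorem phi_le (h : C152 M S K q) (hD : IsComplIn (pCoreOf q M) D S)
    (hKD : K ≤ normalizer (D : Set G)) :
    closure (phiSet q (pCoreOf q M)) ≤ pCoreOf q M ⊓ centralizer (D : Set G) := by
  set Q := pCoreOf q M with hQdef
  set H := closure (phiSet q Q) with hHdef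
  have hHQ : H ≤ Q := closure_phiSet_le q Q
  have hMH : M ≤ normalizer (H : Set G) := h.QM.trans (normalizer_le_normalizer_phi q Q)
  rcases h.card_inv hD hKD hHQ hMH with h1 | h1
  · have h2 : H ⊓ centralizer (D : Set G) = H := eq_of_le_of_card_ge inf_le_left h1.le
    rw [← h2]
    exact inf_le_inf hHQ le_rfl
  · exfalso
    have h3 : Q ⊓ centralizer (D : Set G) ≤ normalizer (H : Set G) :=
      (inf_le_left.trans (Cfsg.Agent.Lib.Helper47.pCoreOf_le M)).trans hMH
    have h4 := Cfsg.Agent.Lib.Helper1.card_sup_mul_card_inf h3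
    have h5 : Q ⊓ centralizer (D : Set G) ⊓ H = H ⊓ centralizer (D : Set G) := by
      apply le_antisymm
      · exact le_inf inf_le_right (inf_le_left.trans inf_le_right)
      · exact le_inf (inf_le_inf hHQ le_rfl) inf_le_left
    rw [h5, h1] at h4
    have h6 : Nat.card ↥(Q ⊓ centralizer (D : Set G) ⊔ H) = Nat.card Q := by
      rw [h.card_Q hD hKD le_rfl h.K1]
      have h7 : Nat.card ↥(Q ⊓ centralizer (D : Set G) ⊔ H) *
          Nat.card ↥(H ⊓ centralizer (D : Set G)) =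
          (Nat.card ↥(Q ⊓ centralizer (D : Set G)) * q ^ Nat.card K) *
            Nat.card ↥(H ⊓ centralizer (D : Set G)) := by
        rw [h4]; ring
      exact Nat.eq_of_mul_eq_mul_right Nat.card_pos h7
    have h8 : Q ⊓ centralizer (D : Set G) ⊔ H = Q :=
      eq_of_le_of_card_ge (sup_le inf_le_left hHQ) h6.ge
    have h9 := eq_of_sup_phi h.Qp inf_le_left h8
    apply h.not_cent hD hKD
    have h10 : Q ≤ Q ⊓ centralizer (D : Set G) := h9.ge
    exact h10.trans inf_le_right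

theorem Q0_normal (h : C152 M S K q) (hD : IsComplIn (pCoreOf q M) D S)
    (hKD : K ≤ normalizer (D : Set G)) :
    M ≤ normalizer ((pCoreOf q M ⊓ centralizer (D : Set G) : Subgroup G) : Set G) := by
  have hM : M ≤ (pCoreOf q M ⊔ D) ⊔ K := by rw [h.sup_QD hD, h.sup_eq]
  refine hM.trans (sup_le (sup_le ?_ ?_) ?_)
  · apply le_normalizer_of_conj_mem
    intro a ha b hb
    have h1 : a * b * a⁻¹ * b⁻¹ ∈ pCoreOf q M ⊓ centralizer (D : Set G) :=
      h.phi_le hD hKD (Subgroup.subset_closure (Or.inr ⟨a, ha, b, (mem_inf.1 hb).1, rfl⟩))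
    have := mul_mem h1 hb
    simpa using this
  · exact (le_inf ((hD.2.1.trans h.compl.1).trans h.QM) le_normalizer).trans
      (normalizer_inf_le_centralizer _ _)
  · exact (le_inf (h.compl.2.1.trans h.QM) hKD).trans (normalizer_inf_le_centralizer _ _)

theorem irred (h : C152 M S K q) (hD : IsComplIn (pCoreOf q M) D S)
    (hKD : K ≤ normalizer (D : Set G)) (N : Subgroup G)
    (h1 : pCoreOf q M ⊓ centralizer (D : Set G) < N) (h2 : N < pCoreOf q M) :
    ¬ M ≤ normalizer (N : Set G) := by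
  intro hMN
  have h3 : N ⊓ centralizer (D : Set G) = pCoreOf q M ⊓ centralizer (D : Set G) :=
    le_antisymm (inf_le_inf h2.le le_rfl) (le_inf h1.le inf_le_right)
  rcases h.card_inv hD hKD h2.le hMN with h4 | h4
  · rw [h3] at h4
    exact h1.ne (eq_of_le_of_card_ge h1.le h4.le)
  · rw [h3, ← h.card_Q hD hKD le_rfl h.K1] at h4
    exact h2.ne (eq_of_le_of_card_ge h2.le h4.ge)

/-- every complement is conjugate to a `K`-invariant one and has the same `C_Q(D)` -/
theorem exists_inv_of_compl (h : C152 M S K q) {D' : Subgroup G}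
    (hD' : IsComplIn (pCoreOf q M) D' S) :
    ∃ D : Subgroup G, IsComplIn (pCoreOf q M) D S ∧ K ≤ normalizer (D : Set G) ∧
      pCoreOf q M ⊓ centralizer (D' : Set G) = pCoreOf q M ⊓ centralizer (D : Set G) ∧
      Nonempty (D ≃* D') := by
  obtain ⟨D, hD, hKD⟩ := h.exists_inv
  obtain ⟨g, hg, hgD⟩ := Cfsg.Agent.Lib.Helper62.IsPiHallOf.exists_conj h.solvS
    (h.hall_of_compl hD) (h.hall_of_compl hD')
  refine ⟨D, hD, hKD, ?_, ?_⟩
  · have hgM : g ∈ M := h.compl.1 hg
    have hmem : ∀ d ∈ D, g * d * g⁻¹ ∈ D' := by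
      intro d hd
      rw [← hgD]
      exact ⟨d, hd, rfl⟩
    have hmem' : ∀ d ∈ D', g⁻¹ * d * g ∈ D := by
      intro d hd
      rw [← hgD] at hd
      obtain ⟨e, he, rfl⟩ := hd
      have : g⁻¹ * (g * e * g⁻¹) * g = e := by group
      change g⁻¹ * (g * e * g⁻¹) * g ∈ D
      rw [this]
      exact he
    have hN := h.Q0_normal hD hKD
    apply le_antisymm
    · intro x hx
      obtain ⟨hxQ, hxD⟩ := mem_inf.1 hx
      have h1 : g⁻¹ * x * g⁻¹⁻¹ ∈ pCoreOf q M ⊓ centralizer (D : Set G) := by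
        refine mem_inf.2 ⟨conj_mem_of_le_normalizer h.QM (inv_mem hgM) hxQ, ?_⟩
        rw [mem_centralizer_iff]
        intro d hd
        have h2 := (mem_centralizer_iff.1 hxD) _ (hmem d hd)
        calc d * (g⁻¹ * x * g⁻¹⁻¹) = g⁻¹ * ((g * d * g⁻¹) * x) * g := by group
          _ = g⁻¹ * (x * (g * d * g⁻¹)) * g := by rw [h2]
          _ = g⁻¹ * x * g⁻¹⁻¹ * d := by group
      have h3 := conj_mem_of_le_normalizer hN hgM h1
      simpa [mul_assoc] using h3
    · intro x hx
      have h1 := conj_mem_of_le_normalizer hN (inv_mem hgM) hx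
      obtain ⟨h1Q, h1D⟩ := mem_inf.1 h1
      refine mem_inf.2 ⟨(mem_inf.1 hx).1, ?_⟩
      rw [mem_centralizer_iff]
      intro d hd
      have h2 := (mem_centralizer_iff.1 h1D) _ (hmem' d hd)
      calc d * x = g * ((g⁻¹ * d * g) * (g⁻¹ * x * g⁻¹⁻¹)) * g⁻¹ := by group
        _ = g * ((g⁻¹ * x * g⁻¹⁻¹) * (g⁻¹ * d * g)) * g⁻¹ := by rw [h2]
        _ = x * d := by group
  · rw [← hgD]
    exact ⟨equivSMul (MulAut.conj g) D⟩

/-- **The group theoretic core of BG Theorem 15.2.** -/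
theorem main (h : C152 M S K q) :
    (Nat.card K).Prime ∧ pCoreOf q M ≤ S ∧ S ⊓ centralizer (K : Set G) ≤ pCoreOf q M ∧
      ¬ q ∣ (pCoreOf q M).relIndex S ∧
      ∀ D : Subgroup G, IsComplIn (pCoreOf q M) D S →
        Group.IsNilpotent D ∧
        M ≤ normalizer ((pCoreOf q M ⊓ centralizer (D : Set G) : Subgroup G) : Set G) ∧
        pCoreOf q M ⊓ centralizer (D : Set G) < pCoreOf q M ∧
        Nat.card (pCoreOf q M) =
          Nat.card ↥(pCoreOf q M ⊓ centralizer (D : Set G)) * q ^ Nat.card K ∧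
        (∀ a ∈ pCoreOf q M, ∀ b ∈ pCoreOf q M,
          a ^ q ∈ pCoreOf q M ⊓ centralizer (D : Set G) ∧
          a * b * a⁻¹ * b⁻¹ ∈ pCoreOf q M ⊓ centralizer (D : Set G)) ∧
        ∀ N : Subgroup G, pCoreOf q M ⊓ centralizer (D : Set G) < N → N < pCoreOf q M →
          ¬ M ≤ normalizer (N : Set G) := by
  refine ⟨h.K_prime, h.Q_le, h.Ks_le, h.Q_syl, ?_⟩
  intro D' hD'
  obtain ⟨D, hD, hKD, heq, ⟨e⟩⟩ := h.exists_inv_of_compl hD'
  rw [heq]
  refine ⟨?_, h.Q0_normal hD hKD, ?_, h.card_Q hD hKD le_rfl h.K1, ?_, h.irred hD hKD⟩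
  · haveI := h.nilD hD hKD
    exact Group.nilpotent_of_mulEquiv e
  · refine lt_of_le_of_ne inf_le_left ?_
    intro h1
    apply h.not_cent hD hKD
    rw [← h1]
    exact inf_le_right
  · intro a ha b hb
    exact ⟨h.phi_le hD hKD (Subgroup.subset_closure (Or.inl ⟨a, ha, rfl⟩)),
      h.phi_le hD hKD (Subgroup.subset_closure (Or.inr ⟨a, ha, b, hb, rfl⟩))⟩

end C152

end Cfsg.Agent.Lib.Helper23U
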