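import Cfsg.Agent.Lib.Helper23.BGU4
import Cfsg.Agent.Lib.Helper23.TypeP
import Cfsg.Agent.Lib.Helper25.CNMinSimple2
import Cfsg.Agent.Lib.Helper25.BG11
import Cfsg.Agent.Lib.Helper22.PiCoreOf
import Cfsg.Agent.Lib.Helper24.BG10a

/-!
# `M_F` in a minimal simple group of odd order (helper23)
-/

set_option autoImplicit false
set_option linter.unusedVariables false
set_option linter.unusedSimpArgs false
set_option linter.unusedSectionVars false
set_option linter.deprecated false
set_option linter.style.haveILetI false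

namespace Cfsg.Agent.Lib.Helper23U

open Cfsg Subgroup
open Cfsg.Agent.Lib.Helper24 Cfsg.Agent.Lib.Helper34 Cfsg.Agent.Lib.Helper31.BG11
open scoped commutatorElement Pointwise

variable {G : Type*} [Group G]

theorem le_fittingHallOf {N M : Subgroup G} (hNM : N ≤ M) (hn : M ≤ normalizer (N : Set G))
    (hnil : Group.IsNilpotent N) (hcop : (Nat.card N).Coprime (N.relIndex M)) :
    N ≤ fittingHallOf M := by
  have h1 : N.subgroupOf M ≤ fittingHall M := by
    apply le_sSup
    refine ⟨(normal_subgroupOf_iff_le_normalizer hNM).mpr hn,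
      Group.nilpotent_of_mulEquiv (subgroupOfEquivOfLe hNM).symm, ?_⟩
    rw [Nat.card_congr (subgroupOfEquivOfLe hNM).toEquiv]
    exact hcop
  intro x hx
  exact ⟨⟨x, hNM hx⟩, h1 (mem_subgroupOf.2 hx), rfl⟩

theorem fittingHallOf_subgroupOf (M : Subgroup G) :
    (fittingHallOf M).subgroupOf M = fittingHall M := by
  unfold fittingHallOf
  exact comap_map_eq_self_of_injective (subtype_injective M) _

theorem fittingHallOf_norm (M : Subgroup G) : M ≤ normalizer (fittingHallOf M : Set G) := by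
  have h : (fittingHall ↥M).Normal := inferInstance
  rw [← fittingHallOf_subgroupOf] at h
  exact (normal_subgroupOf_iff_le_normalizer (Cfsg.Agent.Lib.Helper23.fittingHallOf_le M)).mp h

theorem fittingHallOf_nilpotent [Finite G] (M : Subgroup G) :
    Group.IsNilpotent (fittingHallOf M) := by
  haveI := Cfsg.Agent.Lib.Helper25.fittingHall_isNilpotent ↥M
  exact Group.nilpotent_of_mulEquiv ((fittingHall ↥M).equivMapOfInjective _ (subtype_injective _))

theorem fittingHallOf_coprime [Finite G] (M : Subgroup G) :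
    (Nat.card (fittingHallOf M)).Coprime ((fittingHallOf M).relIndex M) := by
  have h := Cfsg.Agent.Lib.Helper23.fittingHall_coprime ↥M
  rw [← Cfsg.Agent.Lib.Helper23.card_fittingHallOf] at h
  unfold relIndex
  rw [fittingHallOf_subgroupOf]
  exact h

/-- a `p`-element of `M_F` lies in `O_p(M)` -/
theorem mem_pCoreOf_of_mem_fittingHallOf [Finite G] {M : Subgroup G} {p : ℕ} [Fact p.Prime] {x : G}
    (hx : x ∈ fittingHallOf M) {n : ℕ} (hxp : x ^ p ^ n = 1) : x ∈ pCoreOf p M := by
  obtain ⟨y, hy, rfl⟩ := hx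
  have h1 : y ∈ fittingSubgroup ↥M := by
    have : fittingHall ↥M ≤ fittingSubgroup ↥M := sSup_le_sSup (fun N hN => ⟨hN.1, hN.2.1⟩)
    exact this hy
  have h2 : y ^ p ^ n = 1 := Subtype.ext (by simpa using hxp)
  exact ⟨y, Cfsg.Agent.Lib.Helper24.mem_pCore_of_mem_fitting p y h1 n h2, rfl⟩

/-- if `p` divides `|M_F|` then `O_p(M)` is a Sylow `p`-subgroup of `M` -/
theorem pCoreOf_sylow_of_dvd [Finite G] {M : Subgroup G} {p : ℕ} [hp : Fact p.Prime]
    (hd : p ∣ Nat.card (fittingHallOf M)) : IsSylowIn p (pCoreOf p M) M := by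
  obtain ⟨P, hP, -⟩ := exists_isSylowIn_ge (bot_le : (⊥ : Subgroup G) ≤ M) (IsPGroup.of_bot (p := p))
  have hnd : ¬ p ∣ (fittingHallOf M).relIndex M := by
    intro h
    have := Nat.dvd_gcd hd h
    rw [fittingHallOf_coprime M] at this
    exact hp.out.one_lt.ne' (Nat.dvd_one.1 this)
  have h1 : P ≤ fittingHallOf M :=
    le_of_normal_of_not_dvd (Cfsg.Agent.Lib.Helper23.fittingHallOf_le M) (fittingHallOf_norm M) hnd
      hP.1 hP.2.1
  have h2 : P ≤ pCoreOf p M := by
    intro x hx
    obtain ⟨n, hn⟩ := hP.2.1 ⟨x, hx⟩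
    exact mem_pCoreOf_of_mem_fittingHallOf (h1 hx) (n := n) (by simpa using congrArg Subtype.val hn)
  have h3 := hP.eq_of_le (Cfsg.Agent.Lib.Helper47.pCoreOf_le M)
    (Cfsg.Agent.Lib.Helper47.pCoreOf_isPGroup M) h2
  rw [← h3]
  exact hP

theorem mem_sigma_of_dvd_fittingHallOf [Finite G] (hG : IsMinSimpleOddOrder G) {M : Subgroup G}
    (hM : IsCoatom M) {p : ℕ} (hp : p.Prime) (hd : p ∣ Nat.card (fittingHallOf M)) :
    p ∈ sigma M := by
  haveI : Fact p.Prime := ⟨hp⟩
  have hS := pCoreOf_sylow_of_dvd hd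
  have hdM : p ∣ Nat.card M :=
    hd.trans (card_dvd_of_le (Cfsg.Agent.Lib.Helper23.fittingHallOf_le M))
  rw [mem_sigma_iff]
  refine ⟨hdM, _, hS, ?_⟩
  apply Cfsg.Agent.Lib.Helper25.BG11.normalizer_le_of_normal hG hM _ hS.1
    (Cfsg.Agent.Lib.Helper47.le_normalizer_pCoreOf M)
  intro hb
  apply hS.2.2
  rw [hb, relIndex_bot_left]
  exact hdM

theorem fittingHallOf_le_sc [Finite G] (hG : IsMinSimpleOddOrder G) {M : Subgroup G}
    (hM : IsCoatom M) : fittingHallOf M ≤ sigmaCore M :=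
  Cfsg.Agent.Lib.Helper22.le_piCoreOf _ (Cfsg.Agent.Lib.Helper23.fittingHallOf_le M)
    (fittingHallOf_norm M) (fun p hp hd => mem_sigma_of_dvd_fittingHallOf hG hM hp hd)

theorem sc_le_fittingHallOf [Finite G] (hG : IsMinSimpleOddOrder G) (hU : UT G) {M : Subgroup G}
    (hM : IsCoatom M) (hnil : Group.IsNilpotent (sigmaCore M)) :
    sigmaCore M ≤ fittingHallOf M :=
  le_fittingHallOf (sc_le M) (sc_norm M) hnil
    (Cfsg.Agent.Lib.Helper62.IsPiHallOf.coprime (sc_hall hG hU hM))

theorem fittingHallOf_eq_sc_iff [Finite G] (hG : IsMinSimpleOddOrder G) (hU : UT G)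
    {M : Subgroup G} (hM : IsCoatom M) :
    fittingHallOf M = sigmaCore M ↔ Group.IsNilpotent (sigmaCore M) := by
  constructor
  · intro h
    rw [← h]
    exact fittingHallOf_nilpotent M
  · intro h
    exact le_antisymm (fittingHallOf_le_sc hG hM) (sc_le_fittingHallOf hG hU hM h)

end Cfsg.Agent.Lib.Helper23U
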