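import Cfsg.Agent.Lib.Helper23.BGU6

/-!
# BG Theorem 15.2 (row S1437) from rows S1373, S1430: assembly (helper23)
-/

set_option autoImplicit false
set_option linter.unusedVariables false
set_option linter.unusedSimpArgs false
set_option linter.unusedSectionVars false
set_option linter.deprecated false
set_option linter.style.haveILetI false

namespace Cfsg.Agent.Lib.Helper23U

open Cfsg Subgroup
open Cfsg.Agent.Lib.Helper24 Cfsg.Agent.Lib.Helper34 Cfsg.Agent.Lib.Helper31.BG11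
open Cfsg.Agent.Lib.Helper34.BGRows
open scoped commutatorElement Pointwise

universe u

variable {G : Type u} [Group G] [Finite G]

namespace C152

variable {M S K : Subgroup G} {q : ℕ} [hqF : Fact q.Prime]

theorem Q_le_fittingHallOf (h : C152 M S K q) : pCoreOf q M ≤ fittingHallOf M := by
  apply le_fittingHallOf (Cfsg.Agent.Lib.Helper47.pCoreOf_le M) h.QM h.Qp.isNilpotent
  obtain ⟨n, hn⟩ := IsPGroup.iff_card.1 h.Qp
  rw [hn]
  apply Nat.Coprime.pow_left
  rw [Nat.Prime.coprime_iff_not_dvd hqF.out,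
    ← relIndex_mul_relIndex (pCoreOf q M) S M h.Q_le h.compl.1,
    Cfsg.Agent.Lib.Helper23.complIn_relIndex_left h.compl]
  apply hqF.out.not_dvd_mul h.Q_syl
  rw [← Nat.Prime.coprime_iff_not_dvd hqF.out]
  exact h.cop_qK

/-- `S` has no normal `q`-complement -/
theorem no_normal_compl (h : C152 M S K q) : ¬ HasNormalPComplement q ↥S := by
  intro hc
  obtain ⟨K', S', hK', hS', hn, hS'p, hqK', -, hcard⟩ :=
    Cfsg.Agent.Lib.Helper67.exists_of_hasNormalPComplement S hc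
  have hH : IsPiHallOf {p | p ≠ q} K' S := by
    refine ⟨hK', ?_, ?_⟩
    · intro p hp hd hpq
      have hpq' : p = q := hpq
      rw [hpq'] at hd
      exact hqK' hd
    · intro p hp hpq hd
      have h1 := Cfsg.Agent.Lib.Helper23.card_mul_relIndex hK'
      rw [← hcard] at h1
      rw [Nat.eq_of_mul_eq_mul_left Nat.card_pos h1] at hd
      obtain ⟨n, hn⟩ := IsPGroup.iff_card.1 hS'p
      rw [hn] at hd
      exact hpq ((Nat.prime_dvd_prime_iff_eq hp hqF.out).1 (hp.dvd_of_dvd_pow hd))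
  have hD := h.compl_of_hall hH
  have h2 := (h.main.2.2.2.2 K' hD).2.2.1
  apply h2.ne
  apply le_antisymm inf_le_left
  apply le_inf le_rfl
  intro a ha
  rw [mem_centralizer_iff]
  intro k hk
  have h3 : a * k * a⁻¹ * k⁻¹ ∈ pCoreOf q M ⊓ K' := by
    refine mem_inf.2 ⟨?_, mul_mem (hn a (h.Q_le ha) k hk) (inv_mem hk)⟩
    have h4 := conj_mem_of_le_normalizer h.QM (h.compl.1 (hK' hk)) (inv_mem ha)
    have h5 := mul_mem ha h4
    simpa [mul_assoc] using h5
  rw [hD.2.2.1, mem_bot] at h3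
  calc k * a = (a * k * a⁻¹ * k⁻¹)⁻¹ * (a * k) := by group
    _ = a * k := by rw [h3]; simp

end C152

theorem row1437 (hG : IsMinSimpleOddOrder G) (h73 : H1373 G) (h30 : H1430 G) : H1437 G := by
  intro M hM K U hKU hne
  obtain ⟨hUb, hq, hc⟩ := cfg_of_ne hG h73 h30 hM hKU hne
  haveI : Fact (Nat.card ↥(sigmaCore M ⊓ centralizer (K : Set G))).Prime := ⟨hq⟩
  obtain ⟨hKp, hQS, hKsQ, hsyl, hD⟩ := hc.main
  have hKc := hKU.cyclic
  have hab : ∀ a ∈ K, ∀ b ∈ K, a * b = b * a := by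
    intro a ha b hb
    obtain ⟨g, hg⟩ := IsCyclic.exists_generator (α := K)
    obtain ⟨i, hi⟩ := mem_zpowers_iff.1 (hg ⟨a, ha⟩)
    obtain ⟨j, hj⟩ := mem_zpowers_iff.1 (hg ⟨b, hb⟩)
    have h1 : (⟨a, ha⟩ : K) * ⟨b, hb⟩ = ⟨b, hb⟩ * ⟨a, ha⟩ := by
      rw [← hi, ← hj, ← zpow_add, ← zpow_add, add_comm]
    exact congrArg Subtype.val h1
  refine ⟨hUb, ?_, hKp, hq, ?_, ?_, pCoreOf _ M, hc.Q_le_fittingHallOf, hc.QM, hc.Qp, hsyl, hD⟩
  · apply le_antisymm
    · conv_lhs => rw [← hc.comm]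
      exact commutator_mono (sc_le M) hc.compl.2.1
    · exact commutator_le_of_compl hc.compl (sc_norm M) hab
  · exact card_dvd_of_le (hKsQ.trans hc.Q_le_fittingHallOf)
  · by_contra hβ
    exact hc.no_normal_compl ((Cfsg.Agent.S1414.result hG M hM).2.2.2.2 _ hq
      (hc.q_dvd.trans (card_dvd_of_le (sc_le M))) hβ).2.1

end Cfsg.Agent.Lib.Helper23U
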