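import Cfsg.Agent.Lib.Helper23.PComp1
import Cfsg.Agent.Lib.Helper23.ComplIn
import Cfsg.Agent.Lib.Helper10.Replacement
import Cfsg.Agent.Lib.Helper22.Generation
import Cfsg.Agent.Lib.Helper24.PGroup
import Cfsg.Prelude.Def_PLocal

set_option autoImplicit false

/-! Best offenders in faithful groups with self-centralizing `p'`-core (K–S 9.3). -/

namespace Cfsg.Agent.Lib.Helper23

open Subgroup Cfsg.Agent.Lib.Helper10
open scoped commutatorElement

variable {G : Type*} [Group G]

/-- The standing hypotheses. -/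
structure OffSetup (p : ℕ) (V H : Subgroup G) : Prop where
  hV : Cfsg.IsElementaryAbelian p V
  hHV : H ≤ normalizer (V : Set G)
  hf : H ⊓ centralizer (V : Set G) = ⊥
  hS1 : centralizer (Cfsg.pPrimeCore p ↥H : Set ↥H) ≤ Cfsg.pPrimeCore p ↥H

namespace OffSetup

variable {p : ℕ} {V H : Subgroup G}

theorem comm (h : OffSetup p V H) : ∀ x ∈ V, ∀ y ∈ V, x * y = y * x := by
  intro x hx y hy
  exact congrArg Subtype.val (h.hV.1.is_comm.comm ⟨x, hx⟩ ⟨y, hy⟩)

theorem isPGroup [Fact p.Prime] (h : OffSetup p V H) : IsPGroup p V := by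
  intro x
  refine ⟨1, ?_⟩
  rw [pow_one]
  exact Subtype.ext (h.hV.2 x x.2)

theorem eq_bot_of_le_centralizer (h : OffSetup p V H) {B : Subgroup G} (hB : B ≤ H)
    (hc : B ≤ centralizer (V : Set G)) : B = ⊥ := by
  rw [eq_bot_iff, ← h.hf]
  exact le_inf hB hc

theorem eq_one_of_mem_centralizer (h : OffSetup p V H) {b : G} (hB : b ∈ H)
    (hc : b ∈ centralizer (V : Set G)) : b = 1 := by
  have : b ∈ H ⊓ centralizer (V : Set G) := mem_inf.mpr ⟨hB, hc⟩
  rwa [h.hf, mem_bot] at this

theorem le_normalizer_core (_h : OffSetup p V H) : H ≤ normalizer (coreOf p H : Set G) :=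
  le_normalizer.trans (normalizer_le_normalizer_coreOf p H)

theorem mem_core_of_centralizes (h : OffSetup p V H) {x : G} (hx : x ∈ H)
    (hc : x ∈ centralizer (coreOf p H : Set G)) : x ∈ coreOf p H := by
  have h1 : (⟨x, hx⟩ : H) ∈ centralizer (Cfsg.pPrimeCore p ↥H : Set ↥H) := by
    rw [mem_centralizer_iff]
    intro y hy
    apply Subtype.ext
    exact mem_centralizer_iff.mp hc y ⟨y, hy, rfl⟩
  exact ⟨⟨x, hx⟩, h.hS1 h1, rfl⟩

/-- a `p`-element of `H` centralizing the `p'`-core is trivial -/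
theorem eq_one_of_centralizes_core [Finite G] (h : OffSetup p V H) {x : G} (hx : x ∈ H)
    (hc : x ∈ centralizer (coreOf p H : Set G)) (hxp : x ^ p = 1) : x = 1 := by
  have h1 := h.mem_core_of_centralizes hx hc
  have h2 : x ^ Nat.card (coreOf p H) = 1 := by
    have := pow_card_eq_one' (G := coreOf p H) (x := ⟨x, h1⟩)
    exact congrArg Subtype.val this
  exact eq_one_of_pow_coprime (card_coreOf_coprime p H) h2 hxp

theorem offender_comm (h : OffSetup p V H) {A : Subgroup G} (hAH : A ≤ H)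
    (hA : Cfsg.IsBestOffenderOn p V A) : ∀ x ∈ A, ∀ y ∈ A, x * y = y * x := by
  intro x hx y hy
  have h1 : ⁅x, y⁆ ∈ ⁅A, A⁆ := commutator_mem_commutator hx hy
  have h2 : ⁅x, y⁆ = 1 := h.eq_one_of_mem_centralizer
    ((commutator_le_self A).trans hAH h1) (hA.2.1 h1)
  exact commutatorElement_eq_one_iff_mul_comm.mp h2

theorem offender_exp (h : OffSetup p V H) {A : Subgroup G} (hAH : A ≤ H)
    (hA : Cfsg.IsBestOffenderOn p V A) : ∀ x ∈ A, x ^ p = 1 := by
  intro x hx
  exact h.eq_one_of_mem_centralizer (pow_mem (hAH hx) p) (hA.2.2 x hx)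

/-- the key strictness lemma -/
theorem not_le_of_hyperplane [Finite G] [Fact p.Prime] (h : OffSetup p V H) {A B : Subgroup G}
    (hAH : A ≤ H) (hAc : ∀ x ∈ A, ∀ y ∈ A, x * y = y * x) (hAp : ∀ x ∈ A, x ^ p = 1) (hBA : B ≤ A)
    (hB : ¬ (coreOf p H ⊓ centralizer (B : Set G) ≤ centralizer (A : Set G))) :
    ¬ (V ⊓ centralizer (B : Set G) ≤ centralizer (A : Set G)) := by
  intro hcon
  apply hB
  set Y := coreOf p H ⊓ centralizer (B : Set G) with hY
  set U := V ⊓ centralizer (B : Set G) with hU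
  have hYH : Y ≤ H := inf_le_left.trans (coreOf_le p H)
  have hAB : A ≤ centralizer (B : Set G) := by
    intro a ha
    rw [mem_centralizer_iff]
    intro b hb
    exact hAc b (hBA hb) a ha
  have hNC : ∀ g ∈ centralizer (B : Set G), g ∈ normalizer ((centralizer (B : Set G) : Subgroup G) : Set G) :=
    fun g hg => le_normalizer hg
  have hAY : A ≤ normalizer (Y : Set G) := by
    rw [le_normalizer_iff]
    intro a ha y hy
    exact mem_inf.mpr ⟨(le_normalizer_iff.mp h.le_normalizer_core) a (hAH ha) y hy.1,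
      mul_mem (mul_mem (hAB ha) hy.2) (inv_mem (hAB ha))⟩
  have hYU : Y ≤ normalizer (U : Set G) := by
    rw [le_normalizer_iff]
    intro y hy u hu
    exact mem_inf.mpr ⟨(le_normalizer_iff.mp h.hHV) y (hYH hy) u hu.1,
      mul_mem (mul_mem hy.2 hu.2) (inv_mem hy.2)⟩
  set X := ⁅Y, A⁆ with hX
  have hXY : X ≤ Y := le_normalizer_iff_commutator_le_left.mp hAY
  -- three subgroups
  have h1 : ⁅⁅U, A⁆, Y⁆ = ⊥ := by
    rw [commutator_eq_bot_iff_le_centralizer.mpr hcon, commutator_bot_left]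
  have h2 : ⁅⁅Y, U⁆, A⁆ = ⊥ := by
    have : ⁅Y, U⁆ ≤ U := le_normalizer_iff_commutator_le_right.mp hYU
    rw [eq_bot_iff]
    calc ⁅⁅Y, U⁆, A⁆ ≤ ⁅U, A⁆ := commutator_mono this le_rfl
      _ = ⊥ := commutator_eq_bot_iff_le_centralizer.mpr hcon
  have h3 : ⁅⁅A, Y⁆, U⁆ = ⊥ := commutator_commutator_eq_bot_of_rotate h2 h1
  have h4 : U ≤ centralizer (X : Set G) := by
    rw [hX, commutator_comm Y A]
    rw [commutator_comm] at h3
    exact commutator_eq_bot_iff_le_centralizer.mp h3
  have hXcop : (Nat.card X).Coprime p :=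
    Nat.Coprime.coprime_dvd_left (card_dvd_of_le (hXY.trans inf_le_left)) (card_coreOf_coprime p H)
  have hBp : IsPGroup p B := by
    intro b
    refine ⟨1, ?_⟩
    rw [pow_one]
    exact Subtype.ext (hAp b (hBA b.2))
  have h5 : V ≤ centralizer (X : Set G) :=
    Cfsg.Agent.Lib.Helper24.thompson_AxB p X B V h.isPGroup hBp hXcop (hXY.trans inf_le_right)
      ((hXY.trans hYH).trans h.hHV) ((hBA.trans hAH).trans h.hHV) h4
  have h6 : X = ⊥ := h.eq_bot_of_le_centralizer (hXY.trans hYH) (le_centralizer_iff.mp h5)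
  exact commutator_eq_bot_iff_le_centralizer.mp h6

/-- for each nontrivial `a ∈ A` there is a "hyperplane" `B` missing `a` on which `A` acts nontrivially -/
theorem exists_hyperplane [Finite G] [Fact p.Prime] (h : OffSetup p V H) {A : Subgroup G}
    (hAH : A ≤ H) (hAc : ∀ x ∈ A, ∀ y ∈ A, x * y = y * x) (hAp : ∀ x ∈ A, x ^ p = 1)
    {a : G} (ha : a ∈ A) (ha1 : a ≠ 1) :
    ∃ B : Subgroup G, B ≤ A ∧ B.relIndex A ≤ p ∧ a ∉ B ∧
      ¬ (coreOf p H ⊓ centralizer (B : Set G) ≤ centralizer (A : Set G)) := by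
  by_contra hcon
  push Not at hcon
  apply ha1
  apply h.eq_one_of_centralizes_core (hAH ha) _ (hAp a ha)
  have hp : p.Prime := Fact.out
  have hQ : ¬ p ∣ Nat.card (coreOf p H) := by
    have := card_coreOf_coprime p H
    rwa [Nat.coprime_comm, Nat.Prime.coprime_iff_not_dvd hp] at this
  have hgen := Cfsg.Agent.Lib.Helper22.eq_iSup_centralizer_hyperplane A (coreOf p H) hAc hAp hQ
    (hAH.trans h.le_normalizer_core)
  have hle : coreOf p H ≤ centralizer ({a} : Set G) := by
    rw [hgen]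
    apply iSup_le
    rintro ⟨B, hBA, hBi⟩
    by_cases haB : a ∈ B
    · refine inf_le_right.trans (centralizer_le ?_)
      rintro _ rfl
      exact haB
    · refine (hcon B hBA hBi haB).trans (centralizer_le ?_)
      rintro _ rfl
      exact ha
  rw [mem_centralizer_iff]
  intro y hy
  have := hle hy
  rw [mem_centralizer_singleton_iff] at this
  exact this

theorem isBestOffender_of_mm_eq {A B : Subgroup G} (hA : Cfsg.IsBestOffenderOn p V A) (hBA : B ≤ A)
    (hm : mm V B = mm V A) : Cfsg.IsBestOffenderOn p V B := by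
  refine ⟨?_, (commutator_mono hBA hBA).trans hA.2.1, fun a ha => hA.2.2 a (hBA ha)⟩
  intro C hC
  have := hA.1 C (hC.trans hBA)
  have e : Nat.card B * Nat.card ↥(V ⊓ centralizer (B : Set G)) = mm V A := hm
  rw [e]
  exact this

/-- the hyperplane step -/
theorem hyperplane_step [Finite G] [hp : Fact p.Prime] (h : OffSetup p V H) {A B : Subgroup G}
    (hAH : A ≤ H) (hA : Cfsg.IsBestOffenderOn p V A) (hBA : B ≤ A) (hBi : B.relIndex A ≤ p)
    (hB : ¬ (coreOf p H ⊓ centralizer (B : Set G) ≤ centralizer (A : Set G))) :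
    B.relIndex A = p ∧ mm V B = mm V A := by
  have hstrict := h.not_le_of_hyperplane hAH (h.offender_comm hAH hA) (h.offender_exp hAH hA) hBA hB
  set CA := V ⊓ centralizer (A : Set G) with hCA
  set CB := V ⊓ centralizer (B : Set G) with hCB
  have hle : CA ≤ CB := inf_le_inf_left _ (centralizer_le (by exact_mod_cast hBA))
  have hne : CA.relIndex CB ≠ 1 := by
    intro h1
    apply hstrict
    rw [relIndex_eq_one] at h1
    exact h1.trans inf_le_right
  have e1 : Nat.card CA * CA.relIndex CB = Nat.card CB := card_mul_relIndex hle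
  have e2 : Nat.card B * B.relIndex A = Nat.card A := card_mul_relIndex hBA
  have hpd : p ∣ CA.relIndex CB := by
    have hCBp : IsPGroup p CB := h.isPGroup.to_le inf_le_left
    obtain ⟨k, hk⟩ := IsPGroup.iff_card.mp hCBp
    have hd : CA.relIndex CB ∣ p ^ k := by
      rw [← hk, ← e1]; exact dvd_mul_left _ _
    obtain ⟨j, _, hj⟩ := (Nat.dvd_prime_pow hp.out).mp hd
    rw [hj]
    rcases j with _ | j
    · rw [hj, pow_zero] at hne
      exact absurd rfl hne
    · exact dvd_pow_self _ (Nat.succ_ne_zero j)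
  have hge : p ≤ CA.relIndex CB := Nat.le_of_dvd (Nat.pos_of_ne_zero (by
    intro h0
    rw [h0, mul_zero] at e1
    exact Nat.card_pos.ne e1)) hpd
  have hmax : Nat.card B * Nat.card CB ≤ Nat.card A * Nat.card CA := hA.1 B hBA
  rw [← e1, ← e2] at hmax
  have hpos : 0 < Nat.card B * Nat.card CA := Nat.mul_pos Nat.card_pos Nat.card_pos
  have h3 : Nat.card B * Nat.card CA * CA.relIndex CB ≤ Nat.card B * Nat.card CA * B.relIndex A := by
    calc Nat.card B * Nat.card CA * CA.relIndex CB = Nat.card B * (Nat.card CA * CA.relIndex CB) := by ring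
      _ ≤ Nat.card B * B.relIndex A * Nat.card CA := hmax
      _ = Nat.card B * Nat.card CA * B.relIndex A := by ring
  have h4 : CA.relIndex CB ≤ B.relIndex A := Nat.le_of_mul_le_mul_left h3 hpos
  have h5 : B.relIndex A = p := le_antisymm hBi (hge.trans h4)
  have h6 : CA.relIndex CB = p := le_antisymm (h4.trans hBi) hge
  refine ⟨h5, ?_⟩
  unfold mm
  rw [← hCA, ← hCB, ← e1, ← e2, h5, h6]
  ring

theorem mm_bot : mm V (⊥ : Subgroup G) = Nat.card V := by
  unfold mm
  rw [card_bot, one_mul]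
  have : V ⊓ centralizer (((⊥ : Subgroup G) : Subgroup G) : Set G) = V := by
    apply inf_eq_left.mpr
    intro v _
    rw [mem_centralizer_iff]
    intro x hx
    rw [SetLike.mem_coe, mem_bot] at hx
    rw [hx, one_mul, mul_one]
  rw [this]

theorem mm_bot_aux2 (v : G) : v ∈ centralizer (((⊥ : Subgroup G) : Subgroup G) : Set G) := by
  rw [mem_centralizer_iff]
  intro x hx
  rw [SetLike.mem_coe, mem_bot] at hx
  rw [hx, one_mul, mul_one]

/-- K–S 9.3 (a) -/
theorem mm_eq_card [Finite G] [hp : Fact p.Prime] (h : OffSetup p V H) :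
    ∀ (n : ℕ) (A : Subgroup G), Nat.card A = n → A ≤ H → Cfsg.IsBestOffenderOn p V A →
      mm V A = Nat.card V := by
  intro n
  induction n using Nat.strong_induction_on with
  | _ n ih =>
    intro A hn hAH hA
    by_cases hA1 : A = ⊥
    · rw [hA1, mm_bot]
    obtain ⟨a, ha, ha1⟩ : ∃ a ∈ A, a ≠ 1 := by
      by_contra hcon
      push Not at hcon
      exact hA1 ((eq_bot_iff_forall A).mpr hcon)
    obtain ⟨B, hBA, hBi, _, hB⟩ := h.exists_hyperplane hAH (h.offender_comm hAH hA)
      (h.offender_exp hAH hA) ha ha1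
    obtain ⟨h1, h2⟩ := h.hyperplane_step hAH hA hBA hBi hB
    rw [← h2]
    refine ih (Nat.card B) ?_ B rfl (hBA.trans hAH) (isBestOffender_of_mm_eq hA hBA h2)
    have e2 : Nat.card B * B.relIndex A = Nat.card A := card_mul_relIndex hBA
    rw [← hn, ← e2, h1]
    have : 0 < Nat.card B := Nat.card_pos
    have := hp.out.two_le
    nlinarith

end OffSetup

end Cfsg.Agent.Lib.Helper23
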