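import Cfsg.Agent.Lib.Helper23.Off1
import Cfsg.Agent.Lib.Helper22.SupLemmas

set_option autoImplicit false

/-! Best offenders in faithful groups with self-centralizing `p'`-core (K–S 9.3), part 2. -/

namespace Cfsg.Agent.Lib.Helper23

open Subgroup Cfsg.Agent.Lib.Helper10
open scoped commutatorElement

variable {G : Type*} [Group G]

/-- the commutator map `v ↦ [v, a]` on an abelian subgroup normalized by `a` -/
def commHom (V : Subgroup G) (hVc : ∀ x ∈ V, ∀ y ∈ V, x * y = y * x) (a : G)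
    (ha : a ∈ normalizer (V : Set G)) : V →* G :=
  MonoidHom.mk' (fun v => ⁅(v : G), a⁆) (by
    intro v w
    have hw : ⁅(w : G), a⁆ ∈ V := by
      rw [commutatorElement_def]
      have : a * (w : G)⁻¹ * a⁻¹ ∈ V := (mem_normalizer_iff.mp ha _).mp (inv_mem w.2)
      have e : (w : G) * a * (w : G)⁻¹ * a⁻¹ = (w : G) * (a * (w : G)⁻¹ * a⁻¹) := by group
      rw [e]
      exact mul_mem w.2 this
    have h1 := hVc v v.2 _ hw
    have hv : ⁅(v : G), a⁆ ∈ V := by
      rw [commutatorElement_def]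
      have : a * (v : G)⁻¹ * a⁻¹ ∈ V := (mem_normalizer_iff.mp ha _).mp (inv_mem v.2)
      have e : (v : G) * a * (v : G)⁻¹ * a⁻¹ = (v : G) * (a * (v : G)⁻¹ * a⁻¹) := by group
      rw [e]
      exact mul_mem v.2 this
    have h2 := hVc _ hv _ hw
    show ⁅((v * w : V) : G), a⁆ = ⁅(v : G), a⁆ * ⁅(w : G), a⁆
    have e : ⁅((v * w : V) : G), a⁆ = ((v : G) * ⁅(w : G), a⁆) * (v : G)⁻¹ * ⁅(v : G), a⁆ := by
      simp only [commutatorElement_def, Subgroup.coe_mul]; group
    rw [e, h1, mul_inv_cancel_right, h2])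

theorem card_commutator_zpowers [Finite G] (V : Subgroup G)
    (hVc : ∀ x ∈ V, ∀ y ∈ V, x * y = y * x) (a : G) (ha : a ∈ normalizer (V : Set G)) :
    Nat.card ↥(⁅V, zpowers a⁆) = (V ⊓ centralizer ({a} : Set G)).relIndex V := by
  set f := commHom V hVc a ha with hf
  have hfa : ∀ v : V, f v = ⁅(v : G), a⁆ := fun v => rfl
  have hpow : ∀ k : ℕ, ∀ v ∈ V, a ^ k * v * (a ^ k)⁻¹ ∈ V := by
    intro k v hv
    exact (mem_normalizer_iff.mp (pow_mem ha k) v).mp hv
  have h1 : ∀ k : ℕ, ∀ v ∈ V, ⁅v, a ^ k⁆ ∈ f.range := by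
    intro k
    induction k with
    | zero =>
      intro v _
      rw [pow_zero, commutatorElement_one_right]
      exact one_mem _
    | succ k ih =>
      intro v hv
      have e : ⁅v, a ^ (k + 1)⁆ = ⁅v, a ^ k⁆ * ⁅a ^ k * v * (a ^ k)⁻¹, a⁆ := by
        have hc : a ^ k * a = a * a ^ k := (Commute.pow_self a k).eq
        have hc' : a⁻¹ * (a ^ k)⁻¹ = (a ^ k)⁻¹ * a⁻¹ := by
          rw [← mul_inv_rev, ← mul_inv_rev, hc]
        simp only [commutatorElement_def, pow_succ, mul_inv_rev]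
        calc v * (a ^ k * a) * v⁻¹ * (a⁻¹ * (a ^ k)⁻¹)
            = v * (a ^ k * a) * v⁻¹ * ((a ^ k)⁻¹ * a⁻¹) := by rw [hc']
          _ = v * a ^ k * v⁻¹ * (a ^ k)⁻¹ * (a ^ k * v * (a ^ k)⁻¹ * a * ((a ^ k)⁻¹⁻¹ * (v⁻¹ * (a ^ k)⁻¹)) * a⁻¹) := by
              have : (a ^ k)⁻¹ * a * (a ^ k) = a := by
                rw [mul_assoc, ← hc, ← mul_assoc, inv_mul_cancel, one_mul]
              calc v * (a ^ k * a) * v⁻¹ * ((a ^ k)⁻¹ * a⁻¹)
                  = v * a ^ k * a * v⁻¹ * (a ^ k)⁻¹ * a⁻¹ := by group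
                _ = v * a ^ k * ((a ^ k)⁻¹ * a * (a ^ k)) * v⁻¹ * (a ^ k)⁻¹ * a⁻¹ := by rw [this]
                _ = _ := by group
      rw [e]
      exact mul_mem (ih v hv) ⟨⟨_, hpow k v hv⟩, rfl⟩
  have h2 : ⁅V, zpowers a⁆ = f.range := by
    apply le_antisymm
    · rw [commutator_le]
      intro v hv b hb
      obtain ⟨k, rfl⟩ := ((isOfFinOrder_of_finite a).mem_powers_iff_mem_zpowers).mpr hb
      exact h1 k v hv
    · rintro _ ⟨v, rfl⟩
      exact commutator_mem_commutator v.2 (mem_zpowers a)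
  have h3 : f.ker = (V ⊓ centralizer ({a} : Set G)).subgroupOf V := by
    ext v
    rw [MonoidHom.mem_ker, hfa, commutatorElement_eq_one_iff_mul_comm, mem_subgroupOf, mem_inf,
      mem_centralizer_singleton_iff]
    exact ⟨fun h => ⟨v.2, h⟩, fun h => h.2⟩
  rw [h2, ← index_ker, h3]
  rfl

theorem eq_zpowers_of_card_prime [Finite G] {p : ℕ} [hp : Fact p.Prime] {A : Subgroup G}
    (hA : Nat.card A = p) {a : G} (ha : a ∈ A) (ha1 : a ≠ 1) : A = zpowers a := by
  symm
  apply eq_of_le_of_card_ge (zpowers_le.mpr ha)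
  rw [hA, Nat.card_zpowers]
  have h1 : orderOf (⟨a, ha⟩ : A) ∣ p := hA ▸ orderOf_dvd_natCard _
  rw [Subgroup.orderOf_mk] at h1
  rcases (Nat.dvd_prime hp.out).mp h1 with h | h
  · exact absurd (orderOf_eq_one_iff.mp h) ha1
  · exact h.ge

namespace OffSetup

variable {p : ℕ} {V H : Subgroup G}

theorem commutator_ne_bot (h : OffSetup p V H) {A : Subgroup G} (hAH : A ≤ H) (hA : A ≠ ⊥) :
    ⁅V, A⁆ ≠ ⊥ := by
  intro h1
  apply hA
  apply h.eq_bot_of_le_centralizer hAH
  exact le_centralizer_iff.mp (commutator_eq_bot_iff_le_centralizer.mp h1)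

theorem exists_ne_one {A : Subgroup G} (hA : A ≠ ⊥) : ∃ a ∈ A, a ≠ 1 := by
  by_contra hcon
  push Not at hcon
  exact hA ((eq_bot_iff_forall A).mpr hcon)

/-- data of an offender of order `p` -/
theorem card_data [Finite G] [hp : Fact p.Prime] (h : OffSetup p V H) {A : Subgroup G}
    (hAH : A ≤ H) (hA : Cfsg.IsBestOffenderOn p V A) (hc : Nat.card A = p) :
    Nat.card ↥(⁅V, A⁆) = p ∧ (V ⊓ centralizer (A : Set G)).relIndex V = p := by
  have h1 : mm V A = Nat.card V := h.mm_eq_card _ A rfl hAH hA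
  have h2 : (V ⊓ centralizer (A : Set G)).relIndex V = p := by
    have e1 : Nat.card ↥(V ⊓ centralizer (A : Set G)) * (V ⊓ centralizer (A : Set G)).relIndex V
        = Nat.card V := card_mul_relIndex inf_le_left
    unfold mm at h1
    rw [hc, ← e1, mul_comm] at h1
    exact (Nat.eq_of_mul_eq_mul_left Nat.card_pos h1).symm
  refine ⟨?_, h2⟩
  have hA1 : A ≠ ⊥ := by
    rintro rfl
    rw [card_bot] at hc
    exact hp.out.one_lt.ne hc
  obtain ⟨a, ha, ha1⟩ := exists_ne_one hA1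
  have e := eq_zpowers_of_card_prime hc ha ha1
  rw [← h2, e, card_commutator_zpowers V h.comm a (h.hHV (hAH ha)), Cfsg.Agent.Lib.Helper22.centralizer_zpowers]

/-- K–S 9.3 (b) -/
theorem card_of_minimal [Finite G] [hp : Fact p.Prime] (h : OffSetup p V H) {A : Subgroup G}
    (hAH : A ≤ H) (hA : Cfsg.IsBestOffenderOn p V A) (hAV : ⁅V, A⁆ ≠ ⊥)
    (hmin : ∀ B : Subgroup G, B ≤ A → Cfsg.IsBestOffenderOn p V B → ⁅V, B⁆ ≠ ⊥ → B = A) :
    Nat.card A = p := by
  have hA1 : A ≠ ⊥ := by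
    rintro rfl
    exact hAV (commutator_bot_right V)
  obtain ⟨a, ha, ha1⟩ := exists_ne_one hA1
  obtain ⟨B, hBA, hBi, _, hB⟩ := h.exists_hyperplane hAH (h.offender_comm hAH hA)
    (h.offender_exp hAH hA) ha ha1
  obtain ⟨h1, h2⟩ := h.hyperplane_step hAH hA hBA hBi hB
  have hB1 : B = ⊥ := by
    by_contra hne
    have := hmin B hBA (isBestOffender_of_mm_eq hA hBA h2) (h.commutator_ne_bot (hBA.trans hAH) hne)
    rw [this, relIndex_self] at h1
    exact hp.out.one_lt.ne h1
  rw [hB1, relIndex_bot_left] at h1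
  exact h1

theorem isMinimal_of_card [Finite G] [hp : Fact p.Prime] {A : Subgroup G} (hc : Nat.card A = p) :
    ∀ C : Subgroup G, C ≤ A → Cfsg.IsBestOffenderOn p V C → ⁅V, C⁆ ≠ ⊥ → C = A := by
  intro C hCA _ hCV
  have hC1 : C ≠ ⊥ := by
    rintro rfl
    exact hCV (commutator_bot_right V)
  apply eq_of_le_of_card_ge hCA
  have h1 : Nat.card C ∣ p := hc ▸ card_dvd_of_le hCA
  rcases (Nat.dvd_prime hp.out).mp h1 with h | h
  · exact absurd (card_eq_one.mp h) hC1
  · rw [hc, h]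

/-- splitting off an offender of order `p` -/
theorem exists_split [Finite G] [hp : Fact p.Prime] (h : OffSetup p V H) {A : Subgroup G}
    (hAH : A ≤ H) (hA : Cfsg.IsBestOffenderOn p V A) (hA1 : A ≠ ⊥) :
    ∃ B A₁ : Subgroup G, B ≤ A ∧ A₁ ≤ A ∧ Cfsg.IsBestOffenderOn p V B ∧
      Cfsg.IsBestOffenderOn p V A₁ ∧ Nat.card A₁ = p ∧ A₁ ⊓ B = ⊥ ∧ A₁ ⊔ B = A ∧
      Nat.card B < Nat.card A := by
  have hAc := h.offender_comm hAH hA
  have hAp := h.offender_exp hAH hA
  obtain ⟨a, ha, ha1⟩ := exists_ne_one hA1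
  obtain ⟨B, hBA, hBi, haB, hB⟩ := h.exists_hyperplane hAH hAc hAp ha ha1
  obtain ⟨h1, h2⟩ := h.hyperplane_step hAH hA hBA hBi hB
  have hmA : mm V A = Nat.card V := h.mm_eq_card _ A rfl hAH hA
  have e2 : Nat.card B * B.relIndex A = Nat.card A := card_mul_relIndex hBA
  rw [h1] at e2
  -- a minimal member not contained in `B`
  have hex : ∃ n : ℕ, ∃ D : Subgroup G, Nat.card D = n ∧ D ≤ A ∧ ¬ D ≤ B ∧ mm V D = Nat.card V :=
    ⟨_, A, rfl, le_rfl, fun hle => haB (hle ha), hmA⟩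
  classical
  obtain ⟨A₁, hn, hA₁A, hA₁B, hmA₁⟩ := Nat.find_spec hex
  have hminA₁ : ∀ D : Subgroup G, Nat.card D < Nat.card A₁ → D ≤ A → mm V D = Nat.card V → D ≤ B := by
    intro D hD hDA hmD
    by_contra hDB
    exact Nat.find_min hex (hn ▸ hD) ⟨D, rfl, hDA, hDB, hmD⟩
  have hoA₁ : Cfsg.IsBestOffenderOn p V A₁ := isBestOffender_of_mm_eq hA hA₁A (hmA₁.trans hmA.symm)
  have hA₁H := hA₁A.trans hAH
  have hdisj : A₁ ⊓ B = ⊥ := by
    by_contra hne
    obtain ⟨c, hc, hc1⟩ := exists_ne_one hne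
    obtain ⟨B', hB'A, hB'i, hcB', hB'⟩ := h.exists_hyperplane hA₁H (h.offender_comm hA₁H hoA₁)
      (h.offender_exp hA₁H hoA₁) hc.1 hc1
    obtain ⟨k1, k2⟩ := h.hyperplane_step hA₁H hoA₁ hB'A hB'i hB'
    have e3 : Nat.card B' * B'.relIndex A₁ = Nat.card A₁ := card_mul_relIndex hB'A
    rw [k1] at e3
    have hlt : Nat.card B' < Nat.card A₁ := by
      rw [← e3]
      have : 0 < Nat.card B' := Nat.card_pos
      have := hp.out.two_le
      nlinarith
    have hB'B : B' ≤ B := hminA₁ B' hlt (hB'A.trans hA₁A) (k2.trans hmA₁)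
    have hle : B' ≤ A₁ ⊓ B := le_inf hB'A hB'B
    have e4 := relIndex_mul_relIndex B' (A₁ ⊓ B) A₁ hle inf_le_left
    rw [k1] at e4
    have h5 : (A₁ ⊓ B).relIndex A₁ ≠ 1 := by
      intro h6
      rw [relIndex_eq_one] at h6
      exact hA₁B (h6.trans inf_le_right)
    have h6 : B'.relIndex (A₁ ⊓ B) = 1 := by
      have hd : (A₁ ⊓ B).relIndex A₁ ∣ p := ⟨_, by rw [mul_comm]; exact e4.symm⟩
      rcases (Nat.dvd_prime hp.out).mp hd with h7 | h7
      · exact absurd h7 h5
      · rw [h7] at e4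
        have : B'.relIndex (A₁ ⊓ B) * p = 1 * p := by rw [e4, one_mul]
        exact Nat.eq_of_mul_eq_mul_right hp.out.pos this
    rw [relIndex_eq_one] at h6
    exact hcB' (h6 hc)
  have hnorm : A₁ ≤ normalizer (B : Set G) := by
    refine le_trans ?_ (centralizer_le_normalizer _)
    intro x hx
    rw [mem_centralizer_iff]
    intro y hy
    exact hAc y (hBA hy) x (hA₁A hx)
  have e5 := card_sup_mul_card_inf A₁ B hnorm
  rw [hdisj, card_bot, mul_one] at e5
  have hsupA : A₁ ⊔ B ≤ A := sup_le hA₁A hBA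
  have hA₁1 : A₁ ≠ ⊥ := by
    rintro rfl
    exact hA₁B bot_le
  have hcardA₁ : Nat.card A₁ = p := by
    apply le_antisymm
    · have h7 : Nat.card A₁ * Nat.card B ≤ p * Nat.card B := by
        rw [← e5, mul_comm p, e2]
        exact card_le_of_le hsupA
      exact Nat.le_of_mul_le_mul_right h7 Nat.card_pos
    · obtain ⟨c, hc, hc1⟩ := exists_ne_one hA₁1
      have h8 : orderOf c = p := orderOf_eq_prime (hAp c (hA₁A hc)) hc1
      have h9 : orderOf (⟨c, hc⟩ : A₁) ∣ Nat.card A₁ := orderOf_dvd_natCard _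
      rw [Subgroup.orderOf_mk, h8] at h9
      exact Nat.le_of_dvd Nat.card_pos h9
  refine ⟨B, A₁, hBA, hA₁A, isBestOffender_of_mm_eq hA hBA h2, hoA₁, hcardA₁, hdisj, ?_, ?_⟩
  · apply eq_of_le_of_card_ge hsupA
    rw [e5, hcardA₁, ← e2, mul_comm]
  · rw [← e2]
    have : 0 < Nat.card B := Nat.card_pos
    have := hp.out.two_le
    nlinarith

/-- K–S 9.3 (c) -/
theorem exists_decomposition [Finite G] [hp : Fact p.Prime] (h : OffSetup p V H) :
    ∀ (n : ℕ) (A : Subgroup G), Nat.card A = n → A ≤ H → Cfsg.IsBestOffenderOn p V A →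
      ∃ (k : ℕ) (B : Fin k → Subgroup G), (∀ i, B i ≤ A ∧ Cfsg.IsBestOffenderOn p V (B i) ∧
        Nat.card (B i) = p) ∧ iSupIndep B ∧ ⨆ i, B i = A := by
  intro n
  induction n using Nat.strong_induction_on with
  | _ n ih =>
    intro A hn hAH hA
    by_cases hA1 : A = ⊥
    · refine ⟨0, fun _ => ⊥, fun i => i.elim0, ?_, ?_⟩
      · intro i; exact i.elim0
      · rw [hA1]; simp
    obtain ⟨B, A₁, hBA, hA₁A, hoB, hoA₁, hc, hdisj, hsup, hlt⟩ := h.exists_split hAH hA hA1
    obtain ⟨k, F, hF, hind, hFsup⟩ := ih _ (hn ▸ hlt) B rfl (hBA.trans hAH) hoB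
    have hAc := h.offender_comm hAH hA
    refine ⟨k + 1, Fin.cons A₁ F, ?_, ?_, ?_⟩
    · intro i
      refine Fin.cases ?_ (fun j => ?_) i
      · exact ⟨hA₁A, hoA₁, hc⟩
      · simp only [Fin.cons_succ]
        exact ⟨(hF j).1.trans hBA, (hF j).2.1, (hF j).2.2⟩
    · intro i
      refine Fin.cases ?_ (fun j => ?_) i
      · have hle : (⨆ (j : Fin (k + 1)) (_ : j ≠ 0), (Fin.cons A₁ F : Fin (k + 1) → Subgroup G) j) ≤ B := by
          apply iSup₂_le
          intro j hj
          obtain ⟨j', rfl⟩ := Fin.exists_succ_eq.mpr hj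
          simp only [Fin.cons_succ]
          rw [← hFsup]
          exact le_iSup F j'
        simp only [Fin.cons_zero]
        exact (disjoint_iff.mpr hdisj).mono_right hle
      · set C := ⨆ (j' : Fin k) (_ : j' ≠ j), F j' with hC
        have hCB : C ≤ B := by
          apply iSup₂_le
          intro j' _
          rw [← hFsup]
          exact le_iSup F j'
        have hle : (⨆ (j' : Fin (k + 1)) (_ : j' ≠ j.succ),
            (Fin.cons A₁ F : Fin (k + 1) → Subgroup G) j') ≤ C ⊔ A₁ := by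
          apply iSup₂_le
          intro j' hj'
          revert hj'
          refine Fin.cases ?_ (fun j'' => ?_) j'
          · intro _
            simp only [Fin.cons_zero]
            exact le_sup_right
          · intro hj'
            simp only [Fin.cons_succ]
            refine le_trans ?_ le_sup_left
            exact le_iSup₂ (f := fun (j' : Fin k) (_ : j' ≠ j) => F j') j''
              (fun e => hj' (by rw [e]))
        simp only [Fin.cons_succ]
        refine Disjoint.mono_right hle ?_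
        rw [disjoint_iff, eq_bot_iff]
        intro x hx
        rw [mem_inf] at hx
        have hn' : A₁ ≤ normalizer (C : Set G) := by
          refine le_trans ?_ (centralizer_le_normalizer _)
          intro y hy
          rw [mem_centralizer_iff]
          intro z hz
          exact hAc z (hBA (hCB hz)) y (hA₁A hy)
        obtain ⟨c, hc', a₁, ha₁, rfl⟩ :=
          (Cfsg.Agent.Lib.Helper22.mem_sup_of_le_normalizer hn').mp hx.2
        have hxB : c * a₁ ∈ B := by
          rw [← hFsup]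
          exact le_iSup F j hx.1
        have ha₁B : a₁ ∈ B := by
          have := mul_mem (inv_mem (hCB hc')) hxB
          rwa [inv_mul_cancel_left] at this
        have ha₁1 : a₁ = 1 := by
          have : a₁ ∈ A₁ ⊓ B := mem_inf.mpr ⟨ha₁, ha₁B⟩
          rwa [hdisj, mem_bot] at this
        rw [ha₁1, mul_one] at hx ⊢
        have := (hind j).le_bot (mem_inf.mpr ⟨hx.1, hc'⟩)
        exact this
    · rw [← hsup, ← hFsup]
      apply le_antisymm
      · apply iSup_le
        intro i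
        refine Fin.cases ?_ (fun j => ?_) i
        · simp only [Fin.cons_zero]; exact le_sup_left
        · simp only [Fin.cons_succ]; exact (le_iSup F j).trans le_sup_right
      · apply sup_le
        · exact le_iSup (Fin.cons A₁ F : Fin (k + 1) → Subgroup G) 0
        · apply iSup_le
          intro j
          exact le_iSup (Fin.cons A₁ F : Fin (k + 1) → Subgroup G) j.succ

end OffSetup

end Cfsg.Agent.Lib.Helper23
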