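import Cfsg.Agent.Lib.Helper23.Uniq6
import Cfsg.Agent.Lib.Helper33.Transfer
import Cfsg.Agent.S0118
import Cfsg.Agent.S1460

set_option autoImplicit false

/-! BG 9.5, steps 1 and 2: transfer. `P ≤ N(ZJ(P))'`, `P ≤ N(T)'`, `T ≤ N(Q)'`. -/

namespace Cfsg.Agent.Lib.Helper23U

open Subgroup Cfsg Cfsg.Agent.Lib Cfsg.Agent.Lib.Helper47
open scoped commutatorElement

universe u

variable {G : Type u} [Group G]

theorem no_sl2_section [Finite G] (hodd : Odd (Nat.card G)) {p : ℕ} [hp : Fact p.Prime] (hp2 : p ≠ 2) :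
    ¬ ∃ (H K : Subgroup G) (_ : (K.subgroupOf H).Normal),
      Nonempty ((H ⧸ K.subgroupOf H) ≃* Matrix.SpecialLinearGroup (Fin 2) (ZMod p)) := by
  rintro ⟨H, K, hK, ⟨e⟩⟩
  let m : Matrix.SpecialLinearGroup (Fin 2) (ZMod p) :=
    ⟨!![-1, 0; 0, -1], by simp [Matrix.det_fin_two]⟩
  have hm2 : m * m = 1 := by
    apply Subtype.ext
    rw [Matrix.SpecialLinearGroup.coe_mul]
    ext i j
    fin_cases i <;> fin_cases j <;> simp [m, Matrix.mul_apply, Fin.sum_univ_two]
  have hm1 : m ≠ 1 := by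
    intro h
    have h1 : (m : Matrix (Fin 2) (Fin 2) (ZMod p)) 0 0 = (1 : Matrix (Fin 2) (Fin 2) (ZMod p)) 0 0 := by
      rw [h]; rfl
    simp only [m, Matrix.of_apply, Matrix.cons_val', Matrix.cons_val_zero, Matrix.one_apply_eq] at h1
    have h2 : (2 : ZMod p) = 0 := by
      have : (1 : ZMod p) + 1 = 0 := by
        nth_rewrite 1 [← h1]; ring
      rw [← this]; norm_num
    have h3 : ((2 : ℕ) : ZMod p) = 0 := by exact_mod_cast h2
    rw [ZMod.natCast_eq_zero_iff] at h3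
    exact hp2 ((Nat.prime_dvd_prime_iff_eq hp.out Nat.prime_two).mp h3)
  have hx2 : (e.symm m) ^ 2 = 1 := by
    rw [← map_pow, pow_two, hm2, map_one]
  have hx1 : e.symm m ≠ 1 := by
    intro h
    apply hm1
    have := congrArg e h
    simpa using this
  have ho : orderOf (e.symm m) = 2 := orderOf_eq_prime hx2 hx1
  have h1 : 2 ∣ Nat.card (H ⧸ K.subgroupOf H) := ho ▸ orderOf_dvd_natCard _
  have h2 : Nat.card (H ⧸ K.subgroupOf H) ∣ Nat.card H := by
    rw [Subgroup.card_eq_card_quotient_mul_card_subgroup (K.subgroupOf H)]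
    exact dvd_mul_right _ _
  have h3 : 2 ∣ Nat.card G := h1.trans (h2.trans (card_subgroup_dvd_card H))
  exact (Nat.not_even_iff_odd.mpr hodd) (even_iff_two_dvd.mpr h3)

theorem commutator_eq_top_of_minSimple (hG : IsMinSimpleOddOrder G) :
    (⁅(⊤ : Subgroup G), (⊤ : Subgroup G)⁆ : Subgroup G) = ⊤ := by
  have hs : IsSimpleGroup G := hG.2.1
  have hn : (⁅(⊤ : Subgroup G), (⊤ : Subgroup G)⁆ : Subgroup G).Normal := inferInstance
  rcases hn.eq_bot_or_eq_top with h | h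
  · exfalso
    apply hG.2.2.1
    refine ⟨⟨fun x y => ?_⟩⟩
    have h1 : ⁅x, y⁆ ∈ (⁅(⊤ : Subgroup G), (⊤ : Subgroup G)⁆ : Subgroup G) := commutator_mem_commutator (mem_top x) (mem_top y)
    rw [h, mem_bot] at h1
    exact commutatorElement_eq_one_iff_mul_comm.mp h1
  · exact h

omit [Group G] in
theorem odd_prime_of_dvd (hodd : Odd (Nat.card G)) {p : ℕ} (h : p ∣ Nat.card G) : p ≠ 2 := by
  rintro rfl
  exact (Nat.not_even_iff_odd.mpr hodd) (even_iff_two_dvd.mpr h)

/-- Step 1: `P ≤ N(ZJ(P))'`. -/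
theorem sylow_le_commutator_normalizer_zj [Finite G] (hG : IsMinSimpleOddOrder G) {p : ℕ}
    [hp : Fact p.Prime] (P : Sylow p G) :
    (P : Subgroup G) ≤ ⁅normalizer (centerThompsonOf p (P : Subgroup G) : Set G),
      normalizer (centerThompsonOf p (P : Subgroup G) : Set G)⁆ := by
  by_cases hP : (P : Subgroup G) = ⊥
  · rw [hP]; exact bot_le
  have hpG : p ∣ Nat.card G :=
    (USetup.dvd_card_of_ne_bot P.2 hP).trans (card_subgroup_dvd_card _)
  have hp2 : p ≠ 2 := odd_prime_of_dvd hG.1 hpG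
  set N := normalizer (centerThompsonOf p (P : Subgroup G) : Set G) with hN
  have hPN : (P : Subgroup G) ≤ N := le_normalizer.trans (normalizer_le_normalizer_zj P.2)
  have key := Helper33.RelSyl.inf_commutator_le (Helper33.relSyl_top P) (D := ⁅N, N⁆) ?_
  · rw [commutator_eq_top_of_minSimple hG, inf_top_eq] at key
    exact key
  · intro x hx u _ hux
    obtain ⟨n, hn, hnx⟩ := Cfsg.Agent.S0118.result hp2 (no_sl2_section hG.1 hp2) P {x}
      (by
        rintro _ rfl
        exact hx) u⁻¹ (by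
        rintro _ ⟨_, rfl, rfl⟩
        show u⁻¹⁻¹ * _ * u⁻¹ ∈ (P : Subgroup G)
        rw [inv_inv]
        exact hux)
    have h1 := hnx x rfl
    rw [inv_inv] at h1
    rw [← h1]
    have h2 : n⁻¹ * x * n * x⁻¹ = ⁅n⁻¹, x⁆ := by rw [commutatorElement_def, inv_inv]
    rw [h2]
    exact commutator_mem_commutator (inv_mem hn) (hPN hx)

/-- ambient form of S1460 (first part). -/
theorem inf_commutator_le_of_sup [Finite G] {X K Y H : Subgroup G} (hXs : Group.IsSolvable X)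
    (hKX : K ≤ X) (hXK : X ≤ normalizer (K : Set G)) (hYX : Y ≤ X) (hsup : X ≤ K ⊔ Y) (hHY : H ≤ Y)
    (hcop : (Nat.card H).Coprime (Nat.card K)) : H ⊓ ⁅X, X⁆ ≤ ⁅Y, Y⁆ := by
  have hn : (K.subgroupOf X).Normal := (normal_subgroupOf_iff_le_normalizer hKX).mpr hXK
  have hHX : H ≤ X := hHY.trans hYX
  have h1 := (Cfsg.Agent.S1460.result (G := ↥X) (K.subgroupOf X) (Y.subgroupOf X) (H.subgroupOf X)
    (by
      rw [← subgroupOf_sup hKX hYX, subgroupOf_eq_top]
      exact hsup)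
    (by
      intro x hx
      exact hHY hx)
    (by
      rw [Nat.card_congr (subgroupOfEquivOfLe hHX).toEquiv, Nat.card_congr (subgroupOfEquivOfLe hKX).toEquiv]
      exact hcop)).1
  rintro g ⟨hgH, hgX⟩
  have hgX' : g ∈ X := hHX hgH
  have h2 : (⟨g, hgX'⟩ : ↥X) ∈ H.subgroupOf X ⊓ _root_.commutator ↥X := by
    refine ⟨mem_subgroupOf.mpr hgH, ?_⟩
    have h3 : g ∈ (_root_.commutator ↥X).map X.subtype := by
      rw [map_subtype_commutator]; exact hgX
    obtain ⟨y, hy, hy'⟩ := h3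
    have : y = ⟨g, hgX'⟩ := Subtype.ext hy'
    rw [← this]; exact hy
  rw [h1] at h2
  have h4 : g ∈ (⁅Y.subgroupOf X, Y.subgroupOf X⁆ : Subgroup ↥X).map X.subtype := ⟨_, h2.2, rfl⟩
  rwa [map_commutator, map_subgroupOf_eq_of_le hYX] at h4

theorem scn_isMulCommutative {P A : Subgroup G} (hA : IsSCN P A) : IsMulCommutative A := by
  have hAcen : A ≤ centralizer (A : Set G) := hA.2.2.ge.trans inf_le_right
  refine ⟨⟨fun x y => ?_⟩⟩
  apply Subtype.ext
  exact ((mem_centralizer_iff.mp (hAcen x.2)) y y.2).symm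

theorem coreOf_le_ppOf (p : ℕ) (H : Subgroup G) : Helper23.coreOf p H ≤ ppOf p H := by
  apply map_mono
  intro x hx
  show QuotientGroup.mk' (pPrimeCore p ↥H) x ∈ pCore p (↥H ⧸ pPrimeCore p ↥H)
  have : QuotientGroup.mk' (pPrimeCore p ↥H) x = 1 := (QuotientGroup.eq_one_iff x).mpr hx
  rw [this]
  exact one_mem _

/-- Step 2: the subgroup `T = P ∩ O_{p',p}(N(ZJ(P)))`. -/
theorem exists_T [Finite G] (hG : IsMinSimpleOddOrder G) {p : ℕ} [hp : Fact p.Prime] (P : Sylow p G)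
    {A : Subgroup G} (hA : IsSCN (P : Subgroup G) A) :
    ∃ T : Subgroup G, A ≤ T ∧ T ≤ P ∧ (P : Subgroup G) ≤ normalizer (T : Set G) ∧
      (P : Subgroup G) ≤ ⁅normalizer (T : Set G), normalizer (T : Set G)⁆ ∧
      normalizer (centerThompsonOf p (P : Subgroup G) : Set G) ≤
        Helper23.coreOf p (normalizer (centerThompsonOf p (P : Subgroup G) : Set G)) ⊔
          normalizer (T : Set G) := by
  have hsimple : IsSimpleGroup G := hG.2.1
  by_cases hP : (P : Subgroup G) = ⊥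
  · refine ⟨⊥, ?_, bot_le, ?_, ?_, ?_⟩
    · rw [← hP]; exact hA.1
    · rw [hP]; exact bot_le
    · rw [hP]; exact bot_le
    · rw [normalizer_eq_top (H := (⊥ : Subgroup G))]
      exact le_top.trans le_sup_right
  set N := normalizer (centerThompsonOf p (P : Subgroup G) : Set G) with hN
  have hPN : (P : Subgroup G) ≤ N := le_normalizer.trans (normalizer_le_normalizer_zj P.2)
  have hPtop : (P : Subgroup G) ≠ ⊤ := isPGroup_ne_top hG P.2
  have hNtop : N ≠ ⊤ := Helper23.normalizer_ne_top_of_simple (zj_ne_bot P.2 hP)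
    (fun h => hPtop (top_le_iff.mp (h ▸ zj_le p (P : Subgroup G))))
  have hNs : Group.IsSolvable N := hG.2.2.2 N hNtop
  have hPS : IsSylowIn p (P : Subgroup G) N := isSylowIn_of_sylow P hPN
  have hppN : ppOf p N ≤ N := map_subtype_le _
  have hNpp : N ≤ normalizer (ppOf p N : Set G) := le_normalizer_ppOf p N
  have hTS : IsSylowIn p ((P : Subgroup G) ⊓ ppOf p N) (ppOf p N) := hPS.inf_of_normal hppN hNpp
  set T := (P : Subgroup G) ⊓ ppOf p N with hT
  have hAT : A ≤ T := le_inf hA.1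
    (le_ppOf_of_abelian hNs hG.1 hPS hA.1 (scn_isMulCommutative hA) hA.2.1)
  have hPT : (P : Subgroup G) ≤ normalizer (T : Set G) := by
    intro x hx
    apply mem_normalizer_of_cj_eq
    rw [hT, cj_inf, cj_eq_self_of_mem hx, cj_eq_self_of_mem_normalizer (hNpp (hPN hx))]
  have hK : Helper23.coreOf p N ≤ N := Helper23.coreOf_le p N
  have hNK : N ≤ normalizer (Helper23.coreOf p N : Set G) :=
    le_normalizer.trans (Helper23.normalizer_le_normalizer_coreOf p N)
  have hfr : N ≤ Helper23.coreOf p N ⊔ (N ⊓ normalizer (T : Set G)) := by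
    have h1 := hTS.frattini_sup hppN hNpp
    have h2 : ppOf p N ≤ Helper23.coreOf p N ⊔ (N ⊓ normalizer (T : Set G)) := by
      intro x hx
      have h3 := ppOf_le_sup hPS hx
      obtain ⟨k, hk, y, hy, rfl⟩ := (Helper22.mem_sup_of_le_normalizer (hPN.trans hNK)).mp h3
      have hyT : y ∈ T := by
        refine mem_inf.mpr ⟨hy, ?_⟩
        have := mul_mem (inv_mem (coreOf_le_ppOf p N hk)) hx
        simpa using this
      exact mul_mem (mem_sup_left hk)
        (mem_sup_right (mem_inf.mpr ⟨hPN hy, le_normalizer hyT⟩))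
    calc N = ppOf p N ⊔ (N ⊓ normalizer (T : Set G)) := h1.symm
      _ ≤ _ := sup_le h2 le_sup_right
  refine ⟨T, hAT, inf_le_left, hPT, ?_, hfr.trans (sup_le_sup_left inf_le_right _)⟩
  have h1 := sylow_le_commutator_normalizer_zj hG P
  have hcop : (Nat.card (P : Subgroup G)).Coprime (Nat.card (Helper23.coreOf p N)) := by
    obtain ⟨n, hn⟩ := P.2.exists_card_eq
    rw [hn]
    exact (Nat.Coprime.pow_right n (Helper23.card_coreOf_coprime p N)).symm
  have h2 := inf_commutator_le_of_sup hNs hK hNK (inf_le_left : N ⊓ normalizer (T : Set G) ≤ N) hfr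
    (le_inf hPN hPT) hcop
  exact (le_inf le_rfl h1).trans (h2.trans (commutator_mono inf_le_right inf_le_right))

theorem scn3_ne_bot [Finite G] {p : ℕ} [hp : Fact p.Prime] {A : Subgroup G} (hA3 : ¬ PRankLE p 2 A) : A ≠ ⊥ := by
  intro h
  apply hA3
  intro E hE hEe
  have : Nat.card A = 1 := by rw [h]; exact card_bot
  have h2 : Nat.card E ≤ Nat.card A := Nat.card_le_card_of_injective _ E.subtype_injective
  rw [this] at h2
  exact h2.trans (Nat.one_le_pow _ _ hp.out.pos)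

theorem scn3_transHyp [Finite G] (hG : IsMinSimpleOddOrder G) {p : ℕ} [hp : Fact p.Prime]
    (P : Sylow p G) {A : Subgroup G} (hA : IsSCN (P : Subgroup G) A) (hA3 : ¬ PRankLE p 2 A) :
    TransitivityHypothesis A := by
  have hAp : IsPGroup p A := P.2.to_le hA.1
  have hA1 : ¬ PRankLE p 1 A := by
    intro h
    apply hA3
    intro E hE hEe
    exact (h E hE hEe).trans (Nat.pow_le_pow_right hp.out.pos (by norm_num))
  have hpA : p ∣ Nat.card A := USetup.dvd_card_of_ne_bot hAp (scn3_ne_bot hA3)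
  exact Cfsg.Agent.S1396.result hG p (hpA.trans (card_subgroup_dvd_card A)) A hAp
    (scn_isMulCommutative hA) (Or.inr ⟨P, hA, hA1⟩)

/-- S1395 for `A ∈ SCN₃(P)` and `A ≤ T ≤ P`. -/
theorem scn3_superset [Finite G] (hG : IsMinSimpleOddOrder G) {p : ℕ} [hp : Fact p.Prime]
    (P : Sylow p G) {A T : Subgroup G} (hA : IsSCN (P : Subgroup G) A) (hA3 : ¬ PRankLE p 2 A)
    (hAT : A ≤ T) (hTP : T ≤ P) {q : ℕ} (hq : q.Prime) (hqp : q ≠ p) :
    maxInvSubgroups ⊤ T {q} ⊆ maxInvSubgroups ⊤ A {q} ∧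
      ∀ Q ∈ maxInvSubgroups ⊤ T {q},
        T ⊓ ⁅normalizer (T : Set G), normalizer (T : Set G)⁆ ≤
          ⁅normalizer (Q : Set G), normalizer (Q : Set G)⁆ ∧
        normalizer (T : Set G) = piCoreOf (primesNotDvd (Nat.card A)) (centralizer (T : Set G)) ⊔
          (normalizer (T : Set G) ⊓ normalizer (Q : Set G)) := by
  have hAp : IsPGroup p A := P.2.to_le hA.1
  have hTp : IsPGroup p T := P.2.to_le hTP
  have hAcen : A ≤ centralizer (A : Set G) := hA.2.2.ge.trans inf_le_right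
  have hpA : p ∣ Nat.card A := USetup.dvd_card_of_ne_bot hAp (scn3_ne_bot hA3)
  have hTH := scn3_transHyp hG P hA hA3
  have hZ : ¬ RankLE 2 ↥(A ⊓ centralizer (A : Set G)) := by
    rw [inf_eq_left.mpr hAcen]
    intro h
    exact hA3 (h p hp.out)
  have hTtop : T ≠ ⊤ := isPGroup_ne_top hG hTp
  have hTπ : ∀ r : ℕ, r.Prime → r ∣ Nat.card T → r ∣ Nat.card A := by
    intro r hr hd
    obtain ⟨n, hn⟩ := hTp.exists_card_eq
    rw [hn] at hd
    have := (Nat.prime_dvd_prime_iff_eq hr hp.out).mp (hr.dvd_of_dvd_pow hd)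
    rw [this]; exact hpA
  have hsn : (A.subgroupOf T).IsSubnormal :=
    ((normal_subgroupOf_iff_le_normalizer hAT).mpr (hTP.trans hA.2.1)).isSubnormal
  have hqA : ¬ q ∣ Nat.card A := by
    intro hd
    obtain ⟨n, hn⟩ := hAp.exists_card_eq
    rw [hn] at hd
    exact hqp ((Nat.prime_dvd_prime_iff_eq hq hp.out).mp (hq.dvd_of_dvd_pow hd))
  have htr := Cfsg.Agent.S1393.result hG A hTH hZ q hq hqA
  have h95 := Cfsg.Agent.S1395.result hG A hTH q hq hqA T hTtop hTπ hAT hsn htr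
  exact ⟨h95.2.2.1, h95.2.2.2⟩

theorem le_commutator_normalizer_of_maxInv [Finite G] (hG : IsMinSimpleOddOrder G) {p : ℕ}
    [hp : Fact p.Prime] (P : Sylow p G) {A T : Subgroup G} (hA : IsSCN (P : Subgroup G) A)
    (hA3 : ¬ PRankLE p 2 A) (hAT : A ≤ T) (hTP : T ≤ P)
    (hder : (P : Subgroup G) ≤ ⁅normalizer (T : Set G), normalizer (T : Set G)⁆) {q : ℕ}
    (hq : q.Prime) (hqp : q ≠ p) {Q : Subgroup G} (hQ : Q ∈ maxInvSubgroups ⊤ T {q}) :
    Q ∈ maxInvSubgroups ⊤ A {q} ∧ T ≤ ⁅normalizer (Q : Set G), normalizer (Q : Set G)⁆ := by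
  obtain ⟨h1, h2⟩ := scn3_superset hG P hA hA3 hAT hTP hq hqp
  exact ⟨h1 hQ, (le_inf le_rfl (hTP.trans hder)).trans (h2 Q hQ).1⟩

/-- `P ≤ N(Q)'` for every maximal `P`-invariant `q`-subgroup `Q`. -/
theorem sylow_le_commutator_normalizer_of_maxInv [Finite G] (hG : IsMinSimpleOddOrder G) {p : ℕ}
    [hp : Fact p.Prime] (P : Sylow p G) {A : Subgroup G} (hA : IsSCN (P : Subgroup G) A)
    (hA3 : ¬ PRankLE p 2 A) {q : ℕ} (hq : q.Prime) (hqp : q ≠ p) {Q : Subgroup G}
    (hQ : Q ∈ maxInvSubgroups ⊤ (P : Subgroup G) {q}) :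
    (P : Subgroup G) ≤ ⁅normalizer (Q : Set G), normalizer (Q : Set G)⁆ := by
  have hsimple : IsSimpleGroup G := hG.2.1
  obtain ⟨T, hAT, hTP, hPT, hder, -⟩ := exists_T hG P hA
  have hQA : Q ∈ maxInvSubgroups ⊤ A {q} := (scn3_superset hG P hA hA3 hA.1 le_rfl hq hqp).1 hQ
  have hQT : Q ∈ maxInvSubgroups ⊤ T {q} := by
    refine ⟨⟨le_top, hQ.1.2.1, hTP.trans hQ.1.2.2⟩, fun R hR hQR => ?_⟩
    exact hQA.2 R ⟨le_top, hR.2.1, hAT.trans hR.2.2⟩ hQR
  obtain ⟨-, h2⟩ := scn3_superset hG P hA hA3 hAT hTP hq hqp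
  have h3 := (h2 Q hQT).2
  have hAp : IsPGroup p A := P.2.to_le hA.1
  have hTp : IsPGroup p T := P.2.to_le hTP
  have hpA : p ∣ Nat.card A := USetup.dvd_card_of_ne_bot hAp (scn3_ne_bot hA3)
  have hTne : T ≠ ⊥ := fun h => scn3_ne_bot hA3 (le_bot_iff.mp (h ▸ hAT))
  have hNtop : normalizer (T : Set G) ≠ ⊤ :=
    Helper23.normalizer_ne_top_of_simple hTne (isPGroup_ne_top hG hTp)
  set K := piCoreOf (primesNotDvd (Nat.card A)) (centralizer (T : Set G)) with hK
  have hKN : K ≤ normalizer (T : Set G) :=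
    (Helper23.piCoreOf_le _ _).trans (Helper24.centralizer_le_normalizer' T)
  have hNK : normalizer (T : Set G) ≤ normalizer (K : Set G) :=
    (Helper22.normalizer_le_normalizer_centralizer T).trans
      (Helper22.normalizer_le_normalizer_piCoreOf _ _)
  have hcop : (Nat.card (P : Subgroup G)).Coprime (Nat.card K) := by
    obtain ⟨n, hn⟩ := P.2.exists_card_eq
    rw [hn]
    apply Nat.Coprime.pow_left
    rw [Nat.Prime.coprime_iff_not_dvd hp.out]
    intro hd
    exact (Helper23.piCoreOf_primes (primesNotDvd (Nat.card A)) (centralizer (T : Set G)) p hp.out hd).2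
      hpA
  have h4 := inf_commutator_le_of_sup (hG.2.2.2 _ hNtop) hKN hNK
    (inf_le_left : normalizer (T : Set G) ⊓ normalizer (Q : Set G) ≤ normalizer (T : Set G))
    h3.le (le_inf hPT hQ.1.2.2) hcop
  exact (le_inf le_rfl hder).trans (h4.trans (commutator_mono inf_le_right inf_le_right))

end Cfsg.Agent.Lib.Helper23U
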