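import Cfsg.Agent.Lib.Helper23.Uniq2
import Cfsg.Agent.Lib.Helper23.Rank
import Cfsg.Agent.S1458
import Cfsg.Agent.S1457
import Cfsg.Agent.S1450
import Cfsg.Agent.S1452
import Cfsg.Agent.S0126

set_option autoImplicit false

/-! BG §9: ambient forms of `Z(J(S))`, `O_{p',p}`. -/

namespace Cfsg.Agent.Lib.Helper23U

open Subgroup Cfsg Cfsg.Agent.Lib Cfsg.Agent.Lib.Helper47

universe u

variable {G : Type u} [Group G]

theorem le_normalizer_map_subtype {X : Subgroup G} (N : Subgroup X) [hN : N.Normal] :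
    X ≤ normalizer ((N.map X.subtype : Subgroup G) : Set G) := by
  rw [le_normalizer_iff]
  rintro x hx _ ⟨n, hn, rfl⟩
  exact ⟨⟨x, hx⟩ * n * ⟨x, hx⟩⁻¹, hN.conj_mem n hn _, rfl⟩

theorem zj_le (p : ℕ) (P : Subgroup G) : centerThompsonOf p P ≤ P := by
  rw [← Helper1.ZJE.inducedFunctor_zjE]
  exact Helper34.inducedFunctor_le _

theorem zj_ne_bot [Finite G] {p : ℕ} [Fact p.Prime] {P : Subgroup G} (hP : IsPGroup p P) (hne : P ≠ ⊥) :
    centerThompsonOf p P ≠ ⊥ := by
  rw [← Helper1.ZJE.inducedFunctor_zjE]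
  exact Helper34.inducedFunctor_ne_bot Helper1.ZJE.isCharPFunctor_zjE P hP hne

theorem normalizer_le_normalizer_zj [Finite G] {p : ℕ} [Fact p.Prime] {P : Subgroup G} (hP : IsPGroup p P) :
    normalizer (P : Set G) ≤ normalizer ((centerThompsonOf p P : Subgroup G) : Set G) := by
  rw [← Helper1.ZJE.inducedFunctor_zjE]
  exact Helper34.normalizer_le_normalizer_inducedFunctor Helper1.ZJE.isCharPFunctor_zjE P hP

theorem odd_card_subgroup [Finite G] (hodd : Odd (Nat.card G)) (X : Subgroup G) : Odd (Nat.card X) :=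
  Odd.of_dvd_nat hodd (card_subgroup_dvd_card X)

/-- `Z(J(S)) O_{p'}(X)` is normal in the solvable group `X` of odd order. -/
theorem le_normalizer_zj_sup [Finite G] {p : ℕ} [Fact p.Prime] {X S : Subgroup G}
    (hXs : Group.IsSolvable X) (hodd : Odd (Nat.card G)) (hS : IsSylowIn p S X) :
    X ≤ normalizer ((Helper23.coreOf p X ⊔ centerThompsonOf p S : Subgroup G) : Set G) := by
  have h := Cfsg.Agent.S1458.result (G := ↥X) (odd_card_subgroup hodd X) p hS.toSylow
  have e1 : (centerThompsonOf p ((hS.toSylow : Sylow p X) : Subgroup X)).map X.subtype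
      = centerThompsonOf p S := by
    rw [← Helper1.ZJE.inducedFunctor_zjE, ← Helper1.ZJE.inducedFunctor_zjE,
      ← Helper34.inducedFunctor_map_of_injective Helper1.ZJE.isCharPFunctor_zjE X.subtype
        X.subtype_injective _ hS.toSylow.2, hS.map_toSylow]
  have h2 := le_normalizer_map_subtype (hN := h)
  rw [Subgroup.map_sup, e1, sup_comm] at h2
  exact h2

/-- `O_{p',p}(H)` as a subgroup of `G`. -/
def ppOf (p : ℕ) (H : Subgroup G) : Subgroup G := (pPrimePCore p ↥H).map H.subtype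

theorem le_normalizer_ppOf (p : ℕ) (H : Subgroup G) : H ≤ normalizer (ppOf p H : Set G) :=
  le_normalizer_map_subtype (hN := Helper23.pPrimePCore_normal p ↥H)

theorem pPrimePCore_le_sup {X : Type*} [Group X] [Finite X] (p : ℕ) [Fact p.Prime] (P : Sylow p X) :
    pPrimePCore p X ≤ pPrimeCore p X ⊔ P := by
  intro r hr
  have hr' : QuotientGroup.mk' (pPrimeCore p X) r ∈ pCore p (X ⧸ pPrimeCore p X) := hr
  let P' : Sylow p (X ⧸ pPrimeCore p X) := P.mapSurjective (QuotientGroup.mk'_surjective _)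
  have hle : pCore p (X ⧸ pPrimeCore p X) ≤ P' := pCore_le_sylow P'
  obtain ⟨t, ht, hteq⟩ := hle hr'
  have h2 : r * t⁻¹ ∈ pPrimeCore p X := by
    rw [← QuotientGroup.eq_one_iff]
    have : ((r * t⁻¹ : X) : X ⧸ pPrimeCore p X) =
        QuotientGroup.mk' _ r * (QuotientGroup.mk' _ t)⁻¹ := rfl
    rw [this, hteq, mul_inv_cancel]
  have h3 : r = (r * t⁻¹) * t := by group
  rw [h3]
  exact mul_mem (mem_sup_left h2) (mem_sup_right ht)

theorem ppOf_le_sup [Finite G] {p : ℕ} [Fact p.Prime] {H P : Subgroup G} (hP : IsSylowIn p P H) :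
    ppOf p H ≤ Helper23.coreOf p H ⊔ P := by
  have h := map_mono (f := H.subtype) (pPrimePCore_le_sup p hP.toSylow)
  rw [Subgroup.map_sup, hP.map_toSylow] at h
  exact h

/-- An abelian normal subgroup of a Sylow `p`-subgroup of `H` lies in `O_{p',p}(H)`. -/
theorem le_ppOf_of_abelian [Finite G] {p : ℕ} [Fact p.Prime] {H P A : Subgroup G}
    (hHs : Group.IsSolvable H) (hodd : Odd (Nat.card G)) (hP : IsSylowIn p P H) (hAP : A ≤ P)
    (hAc : IsMulCommutative A) (hPA : P ≤ normalizer (A : Set G)) : A ≤ ppOf p H := by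
  have hAH : A ≤ H := hAP.trans hP.le
  have h := Cfsg.Agent.S1457.result (G := ↥H) (odd_card_subgroup hodd H) p hP.toSylow (A.subgroupOf H)
    (by intro x hx; exact hAP hx)
    (by
      refine ⟨⟨fun x y => ?_⟩⟩
      apply Subtype.ext
      apply Subtype.ext
      have := hAc.is_comm.comm ⟨x.1.1, x.2⟩ ⟨y.1.1, y.2⟩
      have h2 : x.1.1 * y.1.1 = y.1.1 * x.1.1 := congrArg Subtype.val this
      exact h2)
    (Helper23.le_normalizer_subgroupOf hPA)
  have h2 := map_mono (f := H.subtype) h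
  rwa [map_subgroupOf_eq_of_le hAH] at h2

/-- If the `p`-rank is at most 2, a Sylow `p`-subgroup of `H` lies in `O_{p',p}(H)`. -/
theorem le_ppOf_of_rank [Finite G] {p : ℕ} [hp : Fact p.Prime] {H P : Subgroup G}
    (hHs : Group.IsSolvable H) (hodd : Odd (Nat.card G)) (hP : IsSylowIn p P H) (hne : P ≠ ⊥)
    (hr : PRankLE p 2 G) : P ≤ ppOf p H := by
  have hpH : p ∣ Nat.card H := by
    obtain ⟨n, hn⟩ := hP.isPGroup.exists_card_eq
    have h1 : p ∣ Nat.card P := by
      rw [hn]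
      rcases Nat.eq_zero_or_pos n with h0 | h0
      · exfalso
        apply hne
        rw [h0, pow_zero] at hn
        exact (card_eq_one).mp hn
      · exact dvd_pow_self p h0.ne'
    exact h1.trans (card_dvd_of_le hP.le)
  have h := (Cfsg.Agent.S1450.result (G := ↥H) (odd_card_subgroup hodd H) p hpH
    (Helper23.pRankLE_of_injective p 2 H.subtype H.subtype_injective hr)).2.2.2.2.2
  intro x hx
  refine ⟨⟨x, hP.le hx⟩, ?_, rfl⟩
  have hn : (pPrimePCore p ↥H).Normal := Helper23.pPrimePCore_normal p ↥H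
  show (⟨x, hP.le hx⟩ : H) ∈ pPrimePCore p ↥H
  rw [← QuotientGroup.eq_one_iff]
  obtain ⟨k, hk⟩ := hP.isPGroup ⟨x, hx⟩
  have hk' : x ^ p ^ k = 1 := congrArg Subtype.val hk
  apply Helper23.eq_one_of_pow_coprime (Nat.Coprime.pow_right k h)
  · rw [index_eq_card]
    exact pow_card_eq_one'
  · rw [← QuotientGroup.mk_pow]
    have : (⟨x, hP.le hx⟩ : H) ^ p ^ k = 1 := Subtype.ext hk'
    rw [this]; rfl

end Cfsg.Agent.Lib.Helper23U
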