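import Cfsg.Agent.Lib.Helper23.Uniq3

set_option autoImplicit false

/-! BG 9.1: the uniqueness criterion. -/

namespace Cfsg.Agent.Lib.Helper23U

open Subgroup Cfsg Cfsg.Agent.Lib Cfsg.Agent.Lib.Helper47

universe u

variable {G : Type u} [Group G]

/-- existence of `A ∈ SCN₃(P)` -/
theorem exists_scn3 [Finite G] {p : ℕ} [hp : Fact p.Prime] (hp2 : p ≠ 2) (P : Sylow p G)
    (hr : ¬ PRankLE p 2 G) : ∃ A, IsSCN (P : Subgroup G) A ∧ ¬ PRankLE p 2 A := by
  unfold PRankLE at hr
  push Not at hr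
  obtain ⟨E, hEc, hEe, hEcard⟩ := hr
  have hEp : IsPGroup p E := by
    intro x
    exact ⟨1, by rw [pow_one]; exact Subtype.ext (hEe x x.2)⟩
  obtain ⟨g, -, hg⟩ := (isSylowIn_top P).exists_conj_ge hEp le_top
  have hg' : cj g⁻¹ E ≤ P := le_cj_iff.mp hg
  set E' : Subgroup (P : Subgroup G) := (cj g⁻¹ E).subgroupOf P with hE'
  have hE'card : Nat.card E' = Nat.card E := by
    rw [hE', Nat.card_congr (subgroupOfEquivOfLe hg').toEquiv, card_cj]
  have hE'e : ∀ a ∈ E', a ^ p = 1 := by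
    intro a ha
    obtain ⟨e, he, hea⟩ := ha
    apply Subtype.ext
    show (a : G) ^ p = 1
    have : (a : G) = (MulAut.conj g⁻¹) e := hea.symm
    rw [this, ← map_pow, hEe e he, map_one]
  have hE'c : IsMulCommutative E' := by
    refine ⟨⟨fun x y => ?_⟩⟩
    obtain ⟨e, he, hea⟩ := x.2
    obtain ⟨f, hf, hfa⟩ := y.2
    apply Subtype.ext
    apply Subtype.ext
    show (x.1 : G) * (y.1 : G) = (y.1 : G) * (x.1 : G)
    have h1 : (x.1 : G) = (MulAut.conj g⁻¹) e := hea.symm
    have h2 : (y.1 : G) = (MulAut.conj g⁻¹) f := hfa.symm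
    have h3 : e * f = f * e := congrArg Subtype.val (hEc.is_comm.comm ⟨e, he⟩ ⟨f, hf⟩)
    rw [h1, h2, ← map_mul, ← map_mul, h3]
  have hrP : ¬ PRankLE p 2 (P : Subgroup G) := by
    intro h
    have := h E' hE'c hE'e
    rw [hE'card] at this
    exact absurd this (not_le.mpr hEcard)
  have hnc : ¬ IsCyclic (P : Subgroup G) := by
    intro hc
    have hc' : IsCyclic E' := inferInstance
    obtain ⟨e, he⟩ := hc'.exists_generator
    have h1 : Nat.card E' = orderOf e := (orderOf_eq_card_of_forall_mem_zpowers he).symm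
    have h2 : orderOf e ∣ p := orderOf_dvd_of_pow_eq_one (Subtype.ext (hE'e e e.2))
    have h3 : orderOf e ≤ p := Nat.le_of_dvd hp.out.pos h2
    have h4 : p ≤ p ^ 2 := by nlinarith [hp.out.pos]
    rw [hE'card] at h1
    omega
  obtain ⟨E₂, hE₂n, hE₂e, hE₂c⟩ := Cfsg.Agent.S0126.result (R := (P : Subgroup G)) hp2 P.isPGroup' hnc
  obtain ⟨A', -, hA'n, hA'c, hA'r⟩ :=
    Cfsg.Agent.S1452.result (R := (P : Subgroup G)) p hp2 P.isPGroup' hrP E₂ hE₂e hE₂c
  refine ⟨A'.map (P : Subgroup G).subtype, ⟨map_subtype_le _, le_normalizer_map_subtype A', ?_⟩, ?_⟩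
  · ext x
    rw [mem_inf]
    constructor
    · rintro ⟨hxP, hxc⟩
      refine ⟨⟨x, hxP⟩, ?_, rfl⟩
      show (⟨x, hxP⟩ : (P : Subgroup G)) ∈ A'
      rw [← hA'c, mem_centralizer_iff]
      intro a ha
      apply Subtype.ext
      exact (mem_centralizer_iff.mp hxc) a ⟨a, ha, rfl⟩
    · rintro ⟨a, ha, rfl⟩
      refine ⟨a.2, ?_⟩
      rw [mem_centralizer_iff]
      rintro _ ⟨b, hb, rfl⟩
      have ha' : a ∈ centralizer (A' : Set (P : Subgroup G)) := by rw [hA'c]; exact ha
      exact congrArg Subtype.val ((mem_centralizer_iff.mp ha') b hb)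
  · intro h
    apply hA'r
    exact (Helper23.pRankLE_congr p 2
      (A'.equivMapOfInjective _ (P : Subgroup G).subtype_injective)).mpr h

/-- The set-up of BG 9.1. -/
structure USetup (p : ℕ) (M B : Subgroup G) : Prop where
  hG : IsMinSimpleOddOrder G
  hM : IsCoatom M
  hBM : B ≤ M
  hBp : IsPGroup p B
  hBne : B ≠ ⊥
  hinv : ∀ Y : Subgroup G, (Nat.card Y).Coprime p → B ≤ normalizer (Y : Set G) → Y ≤ M

namespace USetup

variable [Finite G] {p : ℕ} [hp : Fact p.Prime] {M B : Subgroup G}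

theorem dvd_card_of_ne_bot {P : Subgroup G} (hP : IsPGroup p P) (hne : P ≠ ⊥) : p ∣ Nat.card P := by
  obtain ⟨n, hn⟩ := hP.exists_card_eq
  rw [hn]
  rcases Nat.eq_zero_or_pos n with h0 | h0
  · exfalso
    apply hne
    rw [h0, pow_zero] at hn
    exact (card_eq_one).mp hn
  · exact dvd_pow_self p h0.ne'

theorem p_ne_two (h : USetup p M B) : p ≠ 2 := by
  intro h2
  have h1 : p ∣ Nat.card G := (dvd_card_of_ne_bot h.hBp h.hBne).trans (card_subgroup_dvd_card B)
  rw [h2] at h1
  exact (Nat.not_even_iff_odd.mpr h.hG.1) (even_iff_two_dvd.mpr h1)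

theorem solv (h : USetup p M B) {X : Subgroup G} (hX : X ≠ ⊤) : Group.IsSolvable X := h.hG.2.2.2 X hX

theorem le_core (h : USetup p M B) {P : Subgroup G} (hP : IsSylowIn p P M) (hBP : B ≤ P)
    (Y : Subgroup G) (hY : (Nat.card Y).Coprime p) (hPY : P ≤ normalizer (Y : Set G)) :
    Y ≤ Helper23.coreOf p M :=
  le_coreOf_of_sylow_invariant h.p_ne_two (h.solv h.hM.1) hP (h.hinv Y hY (hBP.trans hPY)) hY hPY

theorem normalizer_core (h : USetup p M B) (hK : Helper23.coreOf p M ≠ ⊥) :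
    normalizer (Helper23.coreOf p M : Set G) = M := by
  have : IsSimpleGroup G := h.hG.2.1
  exact normalizer_eq_coatom h.hM hK (Helper23.coreOf_le p M)
    (le_normalizer.trans (Helper23.normalizer_le_normalizer_coreOf p M))

theorem mem_of_cj_le (h : USetup p M B) (hK : Helper23.coreOf p M ≠ ⊥) {g : G}
    (hg : cj g (Helper23.coreOf p M) ≤ Helper23.coreOf p M) : g ∈ M := by
  rw [← h.normalizer_core hK]
  exact mem_normalizer_of_cj_le hg

theorem normalizer_zj (h : USetup p M B) {P : Subgroup G} (hP : IsSylowIn p P M) (hBP : B ≤ P)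
    (hK : Helper23.coreOf p M = ⊥) : normalizer ((centerThompsonOf p P : Subgroup G) : Set G) = M := by
  have : IsSimpleGroup G := h.hG.2.1
  have hPne : P ≠ ⊥ := fun h0 => h.hBne (le_bot_iff.mp (h0 ▸ hBP))
  have h1 := le_normalizer_zj_sup (h.solv h.hM.1) h.hG.1 hP
  rw [hK, bot_sup_eq] at h1
  exact normalizer_eq_coatom h.hM (zj_ne_bot hP.isPGroup hPne) ((zj_le p P).trans hP.le) h1

theorem normalizer_sylow_le (h : USetup p M B) {P : Subgroup G} (hP : IsSylowIn p P M) (hBP : B ≤ P) :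
    normalizer (P : Set G) ≤ M := by
  by_cases hK : Helper23.coreOf p M = ⊥
  · rw [← h.normalizer_zj hP hBP hK]
    exact normalizer_le_normalizer_zj hP.isPGroup
  · intro g hg
    apply h.mem_of_cj_le hK
    apply h.le_core hP hBP
    · rw [card_cj]; exact Helper23.card_coreOf_coprime p M
    · rw [← cj_normalizer]
      have h1 : cj g P ≤ cj g (normalizer (Helper23.coreOf p M : Set G)) :=
        cj_mono (hP.le.trans (le_normalizer.trans (Helper23.normalizer_le_normalizer_coreOf p M)))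
      rwa [cj_eq_self_of_mem_normalizer hg] at h1

theorem sylow_top (h : USetup p M B) {P : Subgroup G} (hP : IsSylowIn p P M) (hBP : B ≤ P) :
    IsSylowIn p P ⊤ := by
  refine ⟨le_top, hP.isPGroup, fun Q hQ hPQ _ => ?_⟩
  by_contra hne
  have hlt : P < Q := lt_of_le_of_ne hPQ (Ne.symm hne)
  obtain ⟨x, hxQ, hxN, hxP⟩ := Helper22.exists_mem_normalizer_not_mem hQ hlt
  have hxM : x ∈ M := h.normalizer_sylow_le hP hBP hxN
  have h1 : P ⊔ zpowers x ≤ Q := sup_le hPQ (by rw [zpowers_le]; exact hxQ)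
  have h2 := hP.eq_of_le (hQ.to_le h1) le_sup_left (sup_le hP.le (by rw [zpowers_le]; exact hxM))
  apply hxP
  rw [← h2]
  exact mem_sup_right (mem_zpowers x)

theorem eq_of_sylow_le (h : USetup p M B) {P : Subgroup G} (hP : IsSylowIn p P M) (hBP : B ≤ P)
    {H : Subgroup G} (hH : IsCoatom H) (hPH : P ≤ H) : H = M := by
  have hsimple : IsSimpleGroup G := h.hG.2.1
  have hPne : P ≠ ⊥ := fun h0 => h.hBne (le_bot_iff.mp (h0 ▸ hBP))
  have hPtop := h.sylow_top hP hBP
  have hPH' : IsSylowIn p P H := hPtop.mono hPH le_top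
  have hHn : H ≤ normalizer (Helper23.coreOf p H : Set G) :=
    le_normalizer.trans (Helper23.normalizer_le_normalizer_coreOf p H)
  have hKH : Helper23.coreOf p H ≤ Helper23.coreOf p M :=
    h.le_core hP hBP _ (Helper23.card_coreOf_coprime p H) (hPH.trans hHn)
  suffices hle : H ≤ M from (coatom_eq_of_le hH h.hM hle).symm
  by_cases hK : Helper23.coreOf p M = ⊥
  · have h1 := le_normalizer_zj_sup (h.solv hH.1) h.hG.1 hPH'
    rw [hK, le_bot_iff] at hKH
    rw [hKH, bot_sup_eq, h.normalizer_zj hP hBP hK] at h1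
    exact h1
  · have hYM : Helper23.coreOf p H ⊔ P ≤ M := sup_le (hKH.trans (Helper23.coreOf_le p M)) hP.le
    have hS : IsSylowIn p P (Helper23.coreOf p H ⊔ P) :=
      isSylowIn_sup hP.isPGroup (Helper23.card_coreOf_coprime p H) (hPH.trans hHn)
    by_cases hr : PRankLE p 2 G
    · refine le_of_frattini (le_normalizer_ppOf p H)
        (le_ppOf_of_rank (h.solv hH.1) h.hG.1 hPH' hPne hr) (ppOf_le_sup hPH') hYM hS hP.isPGroup ?_
      intro g hg
      exact h.normalizer_sylow_le hP hBP (mem_normalizer_of_cj_le hg)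
    · obtain ⟨A, hA, hA3⟩ := exists_scn3 h.p_ne_two hPtop.toSylowTop hr
      have hA' : IsSCN P A := hA
      have hAcen : A ≤ centralizer (A : Set G) := hA'.2.2.ge.trans inf_le_right
      have hAc : IsMulCommutative A := by
        refine ⟨⟨fun x y => ?_⟩⟩
        apply Subtype.ext
        exact ((mem_centralizer_iff.mp (hAcen x.2)) y y.2).symm
      refine le_of_frattini (le_normalizer_ppOf p H)
        (le_ppOf_of_abelian (h.solv hH.1) h.hG.1 hPH' hA'.1 hAc hA'.2.1) (ppOf_le_sup hPH') hYM hS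
        (hP.isPGroup.to_le hA'.1) ?_
      intro g hg
      have h1 : cj g⁻¹ (Helper23.coreOf p M) ≤ Helper23.coreOf p M := by
        apply le_of_scn_invariant h.hG hPtop.toSylowTop hA hA3 (h.le_core hP hBP)
        · rw [card_cj]; exact Helper23.card_coreOf_coprime p M
        · rw [← cj_normalizer, le_cj_iff, inv_inv]
          exact hg.trans (hP.le.trans (le_normalizer.trans (Helper23.normalizer_le_normalizer_coreOf p M)))
      have := h.mem_of_cj_le hK h1
      simpa using inv_mem this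

end USetup

end Cfsg.Agent.Lib.Helper23U
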