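import Cfsg.Agent.Lib.Helper23.Uniq4

set_option autoImplicit false

/-! BG 9.1, 9.2, 9.3. -/

namespace Cfsg.Agent.Lib.Helper23U

open Subgroup Cfsg Cfsg.Agent.Lib Cfsg.Agent.Lib.Helper47

universe u

variable {G : Type u} [Group G]

namespace USetup

variable [Finite G] {p : ℕ} [hp : Fact p.Prime] {M B : Subgroup G}

theorem aux (h : USetup p M B) : ∀ (n : ℕ) (H R : Subgroup G), IsCoatom H → H ≠ M → B ≤ R → R ≤ H → R ≤ M →
    IsPGroup p R → Nat.card G - Nat.card R = n → False := by
  have hsimple : IsSimpleGroup G := h.hG.2.1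
  intro n
  induction n using Nat.strong_induction_on with
  | _ n ih =>
  intro H R hH hHM hBR hRH hRM hRp hn
  have hstep : ∀ (H' R' : Subgroup G), IsCoatom H' → H' ≠ M → R < R' → R' ≤ H' → R' ≤ M →
      IsPGroup p R' → False := by
    intro H' R' h1 h2 h3 h4 h5 h6
    have hc := Helper23.card_lt_card_of_lt h3
    have hc2 : Nat.card R' ≤ Nat.card G := Nat.card_le_card_of_injective _ R'.subtype_injective
    exact ih (Nat.card G - Nat.card R') (by omega) H' R' h1 h2 (hBR.trans h3.le) h4 h5 h6 rfl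
  have hRne : R ≠ ⊥ := fun h0 => h.hBne (le_bot_iff.mp (h0 ▸ hBR))
  obtain ⟨P, hP, hRP⟩ := exists_isSylowIn_ge hRp hRM
  rcases eq_or_lt_of_le hRP with hRP' | hRP'
  · subst hRP'
    exact hHM (h.eq_of_sylow_le hP hBR hH hRH)
  · obtain ⟨x, hxP, hxN, hxR⟩ := Helper22.exists_mem_normalizer_not_mem hP.isPGroup hRP'
    -- every proper overgroup of `N(R)` lies in `M`
    have hover : ∀ X : Subgroup G, X ≠ ⊤ → normalizer (R : Set G) ≤ X → X ≤ M := by
      intro X hX hNX
      obtain ⟨D, hD, hXD⟩ := exists_coatom_ge hX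
      by_cases hDM : D = M
      · exact hDM ▸ hXD
      · exfalso
        refine hstep D (R ⊔ zpowers x) hD hDM ?_ ?_ ?_ ?_
        · refine lt_of_le_of_ne le_sup_left ?_
          intro he
          apply hxR
          rw [he]
          exact mem_sup_right (mem_zpowers x)
        · exact (sup_le le_normalizer (by rw [zpowers_le]; exact hxN)).trans (hNX.trans hXD)
        · exact sup_le hRM (by rw [zpowers_le]; exact hP.le hxP)
        · exact hP.isPGroup.to_le (sup_le hRP (by rw [zpowers_le]; exact hxP))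
    have hNR : normalizer (R : Set G) ≤ M :=
      hover _ (Helper23.normalizer_ne_top_of_simple hRne (isPGroup_ne_top h.hG hRp)) le_rfl
    -- `R` is a Sylow subgroup of `H`
    have hRsyl : IsSylowIn p R H := by
      obtain ⟨S, hS, hRS⟩ := exists_isSylowIn_ge hRp hRH
      rcases eq_or_lt_of_le hRS with hRS' | hRS'
      · exact hRS' ▸ hS
      · exfalso
        obtain ⟨y, hyS, hyN, hyR⟩ := Helper22.exists_mem_normalizer_not_mem hS.isPGroup hRS'
        refine hstep H (R ⊔ zpowers y) hH hHM ?_ ?_ ?_ ?_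
        · refine lt_of_le_of_ne le_sup_left ?_
          intro he
          apply hyR
          rw [he]
          exact mem_sup_right (mem_zpowers y)
        · exact sup_le hRH (by rw [zpowers_le]; exact hS.le hyS)
        · exact sup_le hRM (by rw [zpowers_le]; exact hNR hyN)
        · exact hS.isPGroup.to_le (sup_le hRS (by rw [zpowers_le]; exact hyS))
    set Z := centerThompsonOf p R with hZ
    have hZne : Z ≠ ⊥ := zj_ne_bot hRp hRne
    have hZR : Z ≤ R := zj_le p R
    have hZp : IsPGroup p Z := hRp.to_le hZR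
    have hNZ : normalizer (Z : Set G) ≤ M :=
      hover _ (Helper23.normalizer_ne_top_of_simple hZne (isPGroup_ne_top h.hG hZp))
        (normalizer_le_normalizer_zj hRp)
    have hHn : H ≤ normalizer (Helper23.coreOf p H : Set G) :=
      le_normalizer.trans (Helper23.normalizer_le_normalizer_coreOf p H)
    have hKH : Helper23.coreOf p H ≤ M :=
      h.hinv _ (Helper23.card_coreOf_coprime p H) ((hBR.trans hRH).trans hHn)
    have hle : H ≤ M := by
      refine le_of_frattini (le_normalizer_zj_sup (h.solv hH.1) h.hG.1 hRsyl) le_sup_right le_rfl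
        (sup_le hKH (hZR.trans hRM))
        (isSylowIn_sup hZp (Helper23.card_coreOf_coprime p H) ((hZR.trans hRH).trans hHn)) hZp ?_
      intro g hg
      exact hNZ (mem_normalizer_of_cj_le hg)
    exact hHM (coatom_eq_of_le hH h.hM hle).symm

/-- BG 9.1 -/
theorem unique (h : USetup p M B) {H : Subgroup G} (hH : IsCoatom H) (hBH : B ≤ H) : H = M := by
  by_contra hne
  exact h.aux _ H B hH hne le_rfl hBH h.hBM h.hBp rfl

theorem inUniqueMaximal (h : USetup p M B) : InUniqueMaximal B :=
  ⟨M, ⟨h.hM, h.hBM⟩, fun _ hH => h.unique hH.1 hH.2⟩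

end USetup

theorem isPGroup_of_elemAb {p : ℕ} {B : Subgroup G} (h : ∀ b ∈ B, b ^ p = 1) : IsPGroup p B := by
  intro x
  exact ⟨1, by rw [pow_one]; exact Subtype.ext (h x x.2)⟩

/-- BG 9.2 -/
theorem uSetup_of_centralizers [Finite G] (hG : IsMinSimpleOddOrder G) {M : Subgroup G} (hM : IsCoatom M)
    {p : ℕ} [hp : Fact p.Prime] {B : Subgroup G} (hBM : B ≤ M) (hBe : IsElementaryAbelian p B)
    (hBnc : ¬ IsCyclic B) (h : ∀ b ∈ B, b ≠ 1 → centralizer ({b} : Set G) ≤ M) : USetup p M B := by
  have hBp : IsPGroup p B := isPGroup_of_elemAb hBe.2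
  refine ⟨hG, hM, hBM, hBp, ?_, ?_⟩
  · intro h0
    apply hBnc
    rw [h0]
    infer_instance
  · intro Y hY hBY
    have hBc : ∀ x ∈ B, ∀ y ∈ B, x * y = y * x := fun x hx y hy =>
      congrArg Subtype.val (hBe.1.is_comm.comm ⟨x, hx⟩ ⟨y, hy⟩)
    rw [Helper22.eq_iSup_centralizer_hyperplane B Y hBc hBe.2 (not_dvd_of_coprime hY) hBY]
    apply iSup_le
    rintro ⟨B', hB'B, hB'i⟩
    have hB'ne : B' ≠ ⊥ := by
      intro h0
      apply hBnc
      rw [h0, relIndex_bot_left] at hB'i
      obtain ⟨n, hn⟩ := hBp.exists_card_eq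
      rcases Nat.lt_or_ge n 2 with hn2 | hn2
      · interval_cases n
        · rw [pow_zero] at hn
          have : B = ⊥ := card_eq_one.mp hn
          rw [this]; infer_instance
        · rw [pow_one] at hn
          exact isCyclic_of_prime_card hn
      · exfalso
        have h1 : p ^ 2 ≤ p ^ n := Nat.pow_le_pow_right hp.out.pos hn2
        have h2 : p < p ^ 2 := by nlinarith [hp.out.one_lt]
        omega
    obtain ⟨b, hb1⟩ := ne_bot_iff_exists_ne_one.mp hB'ne
    refine inf_le_right.trans (le_trans ?_ (h b (hB'B b.2) (fun h0 => hb1 (Subtype.ext h0))))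
    exact centralizer_le (by
      intro x hx
      rw [Set.mem_singleton_iff] at hx
      rw [hx]; exact b.2)

end Cfsg.Agent.Lib.Helper23U
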